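import Groth.Agent.CliffRegLib.StructEven
import Mathlib.Algebra.Azumaya.Defs
import Mathlib.RingTheory.TensorProduct.Maps
import Mathlib.Algebra.Algebra.Equiv

/-!
# The Clifford algebra of a regular form of even rank has all endomorphisms as two-sided multiplications
-/

set_option autoImplicit false
set_option backward.isDefEq.respectTransparency false

universe u v

open CliffordAlgebra MulOpposite TensorProduct

namespace Groth.Agent.CliffRegLib

variable {R : Type u} [CommRing R] {M : Type v} [AddCommGroup M] [Module R M] {n : ℕ}

/-- The monomial basis of the Clifford algebra of the zero form. -/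
noncomputable def ebasis (b : Module.Basis (Fin n) R M) :
    Module.Basis (Finset (Fin n)) R (CliffordAlgebra (0 : QuadraticForm R M)) := b.ExteriorAlgebra

lemma ebasis_eq (b : Module.Basis (Fin n) R M) (s : Finset (Fin n)) :
    ebasis b s = mon (0 : QuadraticForm R M) b (s.sort (fun i j => i ≤ j)) := exterior_basis_eq b s

lemma contract_ebasis (b : Module.Basis (Fin n) R M) (i : Fin n) (t : Finset (Fin n)) :
    ∃ ε : Rˣ, contractLeft (b.coord i) (ebasis b t) =
      if i ∈ t then (ε : R) • ebasis b (t.erase i) else 0 := by
  classical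
  by_cases hit : i ∈ t
  · obtain ⟨ε, hε⟩ := coord_contract_exterior b i (t.sort (fun p q => p ≤ q)) (Finset.sort_nodup _ _)
      ((Finset.mem_sort _).2 hit)
    refine ⟨ε, ?_⟩
    rw [if_pos hit, ebasis_eq, ebasis_eq, hε]
    congr 2
    refine List.Perm.eq_of_pairwise' ((Finset.pairwise_sort t (fun a c => a ≤ c)).sublist
      (List.erase_sublist ..)) (Finset.pairwise_sort _ (fun a c => a ≤ c)) ?_
    rw [List.perm_ext_iff_of_nodup ((Finset.sort_nodup _ _).erase _) (Finset.sort_nodup _ _)]
    intro a
    simp [(Finset.sort_nodup _ _).mem_erase_iff, Finset.mem_sort]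
  · refine ⟨1, ?_⟩
    rw [if_neg hit, ebasis_eq]
    refine contract_mon_eq_zero _ _ _ _ fun j hj => ?_
    rw [Module.Basis.coord_apply, Module.Basis.repr_self, Finsupp.single_eq_of_ne]
    rintro rfl
    exact hit ((Finset.mem_sort _).1 hj)

lemma ι_mul_mon_zero (b : Fin n → M) (i : Fin n) :
    ∀ l : List (Fin n), i ∈ l →
      ι (0 : QuadraticForm R M) (b i) * mon (0 : QuadraticForm R M) b l = 0
  | [], h => by simp at h
  | a :: l, h => by
    rw [mon_cons]
    by_cases hai : i = a
    · rw [← hai, ← mul_assoc, ι_sq_scalar]
      simp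
    · rw [← mul_assoc, eq_neg_of_add_eq_zero_left (show
          ι (0 : QuadraticForm R M) (b i) * ι _ (b a) + ι _ (b a) * ι _ (b i) = 0 by
            rw [ι_mul_ι_add_swap]; simp [QuadraticMap.polar]),
        neg_mul, mul_assoc, ι_mul_mon_zero b i l ((List.mem_cons.1 h).resolve_left hai), mul_zero,
        neg_zero]

/-- A subalgebra of endomorphisms of the exterior algebra containing the multiplications by vectors
and the contractions is everything. -/
theorem exterior_end_eq_top (b : Module.Basis (Fin n) R M)
    (T : Subalgebra R (Module.End R (CliffordAlgebra (0 : QuadraticForm R M))))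
    (hL : ∀ v, LinearMap.mulLeft R (ι (0 : QuadraticForm R M) v) ∈ T)
    (hD : ∀ d : Module.Dual R M,
      (contractLeft (Q := (0 : QuadraticForm R M)) d : Module.End R _) ∈ T) : T = ⊤ := by
  classical
  set C₀ := CliffordAlgebra (0 : QuadraticForm R M)
  set E := ebasis b with hE
  let P : Fin n → Module.End R C₀ := fun i =>
    (contractLeft (b.coord i) : Module.End R C₀) * LinearMap.mulLeft R (ι _ (b i))
  have hP : ∀ i t, P i (E t) = if i ∈ t then 0 else E t := by
    intro i t
    change contractLeft (b.coord i) (ι (0 : QuadraticForm R M) (b i) * E t) = _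
    split_ifs with h
    · rw [hE, ebasis_eq, ι_mul_mon_zero b i _ ((Finset.mem_sort _).2 h), map_zero]
    · obtain ⟨ε, hε⟩ := contract_ebasis b i t
      rw [if_neg h] at hε
      rw [contractLeft_ι_mul, Module.Basis.coord_apply, Module.Basis.repr_self,
        Finsupp.single_eq_same, one_smul, hE, hε, mul_zero, sub_zero]
  have hprod : ∀ s : Finset (Fin n), ∃ F ∈ T, ∀ t, F (E t) = if Disjoint s t then E t else 0 := by
    intro s
    induction s using Finset.induction_on with
    | empty => exact ⟨1, T.one_mem, fun t => by simp⟩
    | insert i s hi ih =>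
      obtain ⟨F, hF, hF'⟩ := ih
      refine ⟨P i * F, T.mul_mem (T.mul_mem (hD _) (hL _)) hF, fun t => ?_⟩
      rw [Module.End.mul_apply, hF']
      by_cases h : Disjoint s t
      · rw [if_pos h, hP]
        by_cases hit : i ∈ t
        · rw [if_pos hit, if_neg]
          exact fun hd => Finset.disjoint_left.1 hd (Finset.mem_insert_self i s) hit
        · rw [if_neg hit, if_pos (Finset.disjoint_insert_left.2 ⟨hit, h⟩)]
      · rw [if_neg h, map_zero, if_neg]
        exact fun hd => h (Finset.disjoint_insert_left.1 hd).2
  have hcoord : ∀ s, (E.coord s).smulRight (1 : C₀) ∈ T := by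
    intro s
    induction s using Finset.induction_on with
    | empty =>
      obtain ⟨F, hF, hF'⟩ := hprod Finset.univ
      convert hF using 1
      refine E.ext fun t => ?_
      rw [hF', LinearMap.smulRight_apply, Module.Basis.coord_apply, Module.Basis.repr_self,
        Finsupp.single_apply]
      by_cases h : t = ∅
      · subst h
        rw [if_pos rfl, one_smul, if_pos (Finset.disjoint_empty_right _), hE, ebasis_eq,
          Finset.sort_empty, mon_nil]
      · rw [if_neg h, zero_smul, if_neg]
        obtain ⟨a, ha⟩ := Finset.nonempty_of_ne_empty h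
        exact fun hd => Finset.disjoint_left.1 hd (Finset.mem_univ a) ha
    | insert i s hi ih =>
      obtain ⟨ε, hε⟩ := contract_ebasis b i (insert i s)
      rw [if_pos (Finset.mem_insert_self i s), Finset.erase_insert hi] at hε
      have : (E.coord (insert i s)).smulRight (1 : C₀) =
          (↑ε⁻¹ : R) • ((E.coord s).smulRight (1 : C₀) * contractLeft (b.coord i)) := by
        refine E.ext fun t => ?_
        rw [LinearMap.smul_apply, Module.End.mul_apply, LinearMap.smulRight_apply,
          LinearMap.smulRight_apply, Module.Basis.coord_apply, Module.Basis.coord_apply,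
          Module.Basis.repr_self, smul_smul]
        obtain ⟨ε', hε'⟩ := contract_ebasis b i t
        by_cases h : t = insert i s
        · subst h
          rw [hE, hε, ← hE, map_smul, Module.Basis.repr_self, Finsupp.smul_apply,
            Finsupp.single_eq_same, Finsupp.single_eq_same, smul_eq_mul, mul_one, Units.inv_mul]
        · rw [Finsupp.single_eq_of_ne (Ne.symm h), hE, hε', ← hE]
          by_cases hit : i ∈ t
          · rw [if_pos hit, map_smul, Module.Basis.repr_self, Finsupp.smul_apply,
              Finsupp.single_eq_of_ne, smul_zero, mul_zero]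
            intro e
            exact h (by rw [← Finset.insert_erase hit, ← e])
          · rw [if_neg hit, map_zero, Finsupp.zero_apply, mul_zero]
      rw [this]
      exact T.smul_mem (T.mul_mem ih (hD _)) _
  have hleft : ∀ x : C₀, LinearMap.mulLeft R x ∈ T := by
    intro x
    induction x using CliffordAlgebra.induction with
    | algebraMap r =>
      convert T.algebraMap_mem r using 1
      exact LinearMap.ext fun y => (Algebra.smul_def r y).symm
    | ι v => exact hL v
    | mul p q hp hq =>
      convert T.mul_mem hp hq using 1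
      exact LinearMap.ext fun y => mul_assoc p q y
    | add p q hp hq =>
      convert T.add_mem hp hq using 1
      exact LinearMap.ext fun y => add_mul p q y
  refine eq_top_iff.2 fun f _ => ?_
  have hf : f = ∑ s, LinearMap.mulLeft R (f (E s)) * (E.coord s).smulRight 1 := by
    refine E.ext fun t => ?_
    rw [LinearMap.sum_apply, Finset.sum_eq_single t]
    · simp
    · intro s _ hs
      simp [Finsupp.single_eq_of_ne (Ne.symm hs), hs]
    · simp
  rw [hf]
  exact T.sum_mem fun s _ => T.mul_mem (hleft _) (hcoord s)

namespace CentreDatum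

variable {Q : QuadraticForm R M} {z : CliffordAlgebra Q} {s t : R} (D : CentreDatum Q z s t)
include D

/-- All endomorphisms of the Clifford algebra are sums of two-sided multiplications. -/
theorem mulLeftRight_surjective (b : Module.Basis (Fin n) R M) (hQ : QuadGrp.IsRegular Q) :
    Function.Surjective (AlgHom.mulLeftRight R (CliffordAlgebra Q)) := by
  obtain ⟨w', hw, hw'⟩ := isUnit_iff_exists.1 D.w_isUnit
  set w := (2 : R) • z - algebraMap R _ s with hwdef
  set T := (AlgHom.mulLeftRight R (CliffordAlgebra Q)).range
  have hinvol : ∀ x, involute x = w * x * w' := by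
    intro x
    induction x using CliffordAlgebra.induction with
    | algebraMap r => rw [AlgHom.commutes, ← Algebra.commutes r w, mul_assoc, hw, mul_one]
    | ι v => rw [involute_ι, ← neg_eq_iff_eq_neg.2 (D.ι_mul_w v), neg_mul, mul_assoc, hw, mul_one]
    | mul p q hp hq =>
      rw [map_mul, hp, hq]
      simp only [mul_assoc]
      rw [← mul_assoc w' w, hw', one_mul]
    | add p q hp hq => rw [map_add, hp, hq, mul_add, add_mul]
  have hL : ∀ v, LinearMap.mulLeft R (ι Q v) ∈ T := fun v =>
    ⟨ι Q v ⊗ₜ[R] op 1, LinearMap.ext fun x => by simp⟩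
  have hD : ∀ d : Module.Dual R M, (contractLeft (Q := Q) d : Module.End R _) ∈ T := by
    intro d
    obtain ⟨v, rfl⟩ := hQ.2 d
    refine ⟨ι Q v ⊗ₜ[R] op 1 - w ⊗ₜ[R] op (w' * ι Q v), LinearMap.ext fun x => ?_⟩
    rw [contract_polar, hinvol]
    simp [mul_assoc]
  let E := changeFormEquiv (lowBilin_spec b Q)
  let c : Module.End R (CliffordAlgebra (0 : QuadraticForm R M)) →ₐ[R]
      Module.End R (CliffordAlgebra Q) := (E.conjAlgEquiv R).toAlgHom
  have hc : ∀ f x, c f (E x) = E (f x) := fun f x => by
    change E (f (E.symm (E x))) = _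
    rw [LinearEquiv.symm_apply_apply]
  have hD₀ : ∀ d : Module.Dual R M, c (contractLeft (Q := (0 : QuadraticForm R M)) d) =
      contractLeft (Q := Q) d := fun d => LinearMap.ext fun y => by
    obtain ⟨x, rfl⟩ := E.surjective y
    rw [hc]
    simp only [E, changeFormEquiv_apply, changeForm_contractLeft]
  have hL₀ : ∀ v, c (LinearMap.mulLeft R (ι (0 : QuadraticForm R M) v)) =
      LinearMap.mulLeft R (ι Q v) - contractLeft (Q := Q) (lowBilin b Q v) :=
    fun v => LinearMap.ext fun y => by
      obtain ⟨x, rfl⟩ := E.surjective y
      rw [hc]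
      simp only [E, LinearMap.mulLeft_apply, changeFormEquiv_apply, changeForm_ι_mul,
        LinearMap.sub_apply]
  have htop := exterior_end_eq_top b (T.comap c)
    (fun v => by
      rw [Subalgebra.mem_comap, hL₀]
      exact sub_mem (hL v) (hD _))
    (fun d => by rw [Subalgebra.mem_comap, hD₀]; exact hD d)
  intro f
  obtain ⟨g, hg⟩ := (E.conjAlgEquiv R).surjective f
  have : g ∈ T.comap c := htop ▸ Algebra.mem_top
  rw [Subalgebra.mem_comap] at this
  obtain ⟨p, hp⟩ := this
  exact ⟨p, hp.trans hg⟩

end CentreDatum

end Groth.Agent.CliffRegLib
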