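import Groth.Agent.CliffRegLib.EvenAzumaya
import Mathlib.RingTheory.TensorProduct.Maps
import Mathlib.LinearAlgebra.TensorProduct.Basis

/-!
# Extension of scalars of Clifford algebras of free modules
-/

set_option autoImplicit false
set_option backward.isDefEq.respectTransparency false

universe u v w x

open CliffordAlgebra TensorProduct

namespace Groth.Agent.CliffRegLib

variable {R : Type u} [CommRing R] {M : Type v} [AddCommGroup M] [Module R M] {n : ℕ}
  {Q : QuadraticForm R M} {R' : Type w} [CommRing R'] [Algebra R R'] {M' : Type x} [AddCommGroup M']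
  [Module R' M'] [Module R M'] [IsScalarTower R R' M'] {Q' : QuadraticForm R' M'}
  (e : M →ₗ[R] M') (he : ∀ v, Q' (e v) = algebraMap R R' (Q v))

/-- The comparison map. -/
noncomputable def bcMap : R' ⊗[R] CliffordAlgebra Q →ₐ[R'] CliffordAlgebra Q' :=
  Algebra.TensorProduct.lift (Algebra.ofId R' _) (cmap e he) fun r _ => Algebra.commutes r _

@[simp] lemma bcMap_tmul (r : R') (y : CliffordAlgebra Q) :
    bcMap e he (r ⊗ₜ[R] y) = r • cmap e he y := by
  rw [bcMap, Algebra.TensorProduct.lift_tmul, Algebra.ofId_apply, Algebra.smul_def]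

variable (b : Module.Basis (Fin n) R M) (b' : Module.Basis (Fin n) R' M') (hb : ∀ i, e (b i) = b' i)
include hb

lemma bcMap_bijective : Function.Bijective (bcMap e he) := by
  have h : (bcMap e he).toLinearMap =
      (((cbasis b Q).baseChange R').equiv (cbasis b' Q') (Equiv.refl _)).toLinearMap := by
    refine ((cbasis b Q).baseChange R').ext fun s => ?_
    rw [LinearEquiv.coe_coe, Module.Basis.equiv_apply, Equiv.refl_apply, Module.Basis.baseChange_apply,
      AlgHom.toLinearMap_apply, bcMap_tmul, one_smul, cbasis_apply, cbasis_apply, cmap_mon e he b b' hb]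
  change Function.Bijective (bcMap e he).toLinearMap
  rw [h]
  exact LinearEquiv.bijective _

/-- The comparison on the whole algebra. -/
noncomputable def bcEquiv : R' ⊗[R] CliffordAlgebra Q ≃ₐ[R'] CliffordAlgebra Q' :=
  AlgEquiv.ofBijective (bcMap e he) (bcMap_bijective e he b b' hb)

omit hb

lemma bcMap_mem_even (w : R' ⊗[R] ↥(CliffordAlgebra.even Q)) :
    bcMap e he (Algebra.TensorProduct.map (AlgHom.id R' R') (CliffordAlgebra.even Q).val w) ∈
      CliffordAlgebra.even Q' := by
  induction w using TensorProduct.induction_on with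
  | zero => simp
  | tmul r y =>
    rw [Algebra.TensorProduct.map_tmul, bcMap_tmul]
    exact Subalgebra.smul_mem _ (cmap_mem_evenOdd e he 0 y.2) _
  | add p q hp hq =>
    rw [map_add, map_add]
    exact add_mem hp hq

/-- The comparison map on even parts. -/
noncomputable def bcEvenMap : R' ⊗[R] ↥(CliffordAlgebra.even Q) →ₐ[R'] ↥(CliffordAlgebra.even Q') :=
  ((bcMap e he).comp (Algebra.TensorProduct.map (AlgHom.id R' R') (CliffordAlgebra.even Q).val)).codRestrict
    _ (bcMap_mem_even e he)

lemma p0_cmap (y : CliffordAlgebra Q) :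
    (p0 Q' (cmap e he y) : CliffordAlgebra Q') = cmap e he (p0 Q y : CliffordAlgebra Q) := by
  obtain ⟨y₀, y₁, hy, rfl⟩ := exists_parts Q y
  rw [map_add, map_add, map_add, p0_even, p0_odd Q hy, add_zero,
    p0_odd Q' (cmap_mem_evenOdd e he 1 hy), add_zero]
  exact congrArg Subtype.val (p0_even Q' ⟨_, cmap_mem_evenOdd e he 0 y₀.2⟩)

include hb

lemma bcEvenMap_bijective : Function.Bijective (bcEvenMap e he) := by
  have hsplit : Function.Injective
      (Algebra.TensorProduct.map (AlgHom.id R' R') (CliffordAlgebra.even Q).val) := by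
    refine Function.LeftInverse.injective (g := LinearMap.lTensor R' (p0 Q)) fun w => ?_
    induction w using TensorProduct.induction_on with
    | zero => simp
    | tmul r y => simp [p0_even]
    | add p q hp hq => rw [map_add, map_add, hp, hq]
  refine ⟨fun w w' h => hsplit ((bcMap_bijective e he b b' hb).1 (congrArg Subtype.val h)), fun x => ?_⟩
  obtain ⟨w, hw⟩ := (bcMap_bijective e he b b' hb).2 (x : CliffordAlgebra Q')
  have key : ∀ w, (p0 Q' (bcMap e he w) : CliffordAlgebra Q') =
      bcEvenMap e he (LinearMap.lTensor R' (p0 Q) w) := by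
    intro w
    induction w using TensorProduct.induction_on with
    | zero => simp
    | tmul r y =>
      rw [bcMap_tmul, map_smul, Subalgebra.coe_smul, p0_cmap, LinearMap.lTensor_tmul]
      simp [bcEvenMap]
    | add p q hp hq =>
      rw [map_add, map_add, map_add, map_add, Subalgebra.coe_add, Subalgebra.coe_add, hp, hq]
  exact ⟨LinearMap.lTensor R' (p0 Q) w, Subtype.ext (by rw [← key, hw, p0_even])⟩

/-- The comparison on even parts. -/
noncomputable def bcEvenEquiv : R' ⊗[R] ↥(CliffordAlgebra.even Q) ≃ₐ[R'] ↥(CliffordAlgebra.even Q') :=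
  AlgEquiv.ofBijective (bcEvenMap e he) (bcEvenMap_bijective e he b b' hb)

end Groth.Agent.CliffRegLib
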