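import Groth.Agent.CliffRegLib.Monomials
import Groth.Agent.QuadGrpLib.Polar
import Mathlib.LinearAlgebra.QuadraticForm.Basic
import Mathlib.RingTheory.Localization.Away.Basic
import Mathlib.RingTheory.Localization.FractionRing
import Mathlib.LinearAlgebra.Matrix.BilinearForm
import Mathlib.LinearAlgebra.Determinant

/-!
# The central element of the even Clifford algebra of a regular form of even rank

For a regular quadratic form of even rank over any commutative ring there are an even element `z`
and scalars `s`, `t` with `ι v * z + z * ι v = s • ι v`, `z * z = s • z + t` and `s² + 4t` a unit.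
-/

set_option autoImplicit false
set_option backward.isDefEq.respectTransparency false

universe u v w

open CliffordAlgebra Matrix

namespace Groth.Agent.CliffRegLib

section Top

variable {R : Type u} [CommRing R] {R' : Type u} [CommRing R'] [Algebra R R'] [Invertible (2 : R')]
  {M' : Type w} [AddCommGroup M'] [Module R' M'] [Module R M'] [IsScalarTower R R' M'] {n : ℕ}
  (Q' : QuadraticForm R' M') (b' : Module.Basis (Fin n) R' M')

/-- The filtration used to control denominators. -/
noncomputable def fil (l : ℕ) : Submodule R (CliffordAlgebra Q') :=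
  Submodule.span R {x | ∃ (j : ℕ) (w : List (Fin n)), w.length + 2 * j = l ∧
    x = (⅟2 : R') ^ j • mon Q' b' w}

lemma contract_mon_mem {d : Module.Dual R' M'} (hd : ∀ i, ∃ r, d (b' i) = algebraMap R R' r) :
    ∀ w : List (Fin n), contractLeft d (mon Q' b' w) ∈
      Submodule.span R {x | ∃ w' : List (Fin n), w'.length + 1 = w.length ∧ x = mon Q' b' w'}
  | [] => by rw [mon_nil, contractLeft_one]; exact Submodule.zero_mem _
  | i :: w => by
    rw [mon_cons, contractLeft_ι_mul]
    refine Submodule.sub_mem _ ?_ ?_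
    · obtain ⟨r, hr⟩ := hd i
      rw [hr, algebraMap_smul]
      exact Submodule.smul_mem _ _ (Submodule.subset_span ⟨w, by simp, rfl⟩)
    · have h := Submodule.mem_map_of_mem (f := LinearMap.mulLeft R (ι Q' (b' i))) (contract_mon_mem hd w)
      rw [Submodule.map_span] at h
      refine Submodule.span_mono ?_ h
      rintro _ ⟨_, ⟨w', hw', rfl⟩, rfl⟩
      exact ⟨i :: w', by simp [hw'], by rw [LinearMap.mulLeft_apply, mon_cons]⟩

lemma ι_mul_mem_fil {l : ℕ} {x : CliffordAlgebra Q'} (hx : x ∈ fil (R := R) Q' b' l) (i : Fin n) :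
    ι Q' (b' i) * x ∈ fil (R := R) Q' b' (l + 1) := by
  have h := Submodule.mem_map_of_mem (f := LinearMap.mulLeft R (ι Q' (b' i))) hx
  rw [fil, Submodule.map_span] at h
  refine Submodule.span_mono ?_ h
  rintro _ ⟨_, ⟨j, w, hw, rfl⟩, rfl⟩
  exact ⟨j, i :: w, by rw [List.length_cons]; omega,
    by rw [LinearMap.mulLeft_apply, mul_smul_comm, mon_cons]⟩

lemma half_contract_mem_fil {l : ℕ} {x : CliffordAlgebra Q'} (hx : x ∈ fil (R := R) Q' b' l)
    {d : Module.Dual R' M'} (hd : ∀ i, ∃ r, d (b' i) = algebraMap R R' r) :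
    (⅟2 : R') • contractLeft d x ∈ fil (R := R) Q' b' (l + 1) := by
  induction hx using Submodule.span_induction with
  | mem y hy =>
    obtain ⟨j, w, hw, rfl⟩ := hy
    rw [map_smul, smul_smul, ← pow_succ']
    have h := Submodule.mem_map_of_mem
      (f := ((⅟2 : R') ^ (j + 1) • LinearMap.id : CliffordAlgebra Q' →ₗ[R'] CliffordAlgebra Q').restrictScalars R)
      (contract_mon_mem Q' b' hd w)
    rw [Submodule.map_span] at h
    refine Submodule.span_mono ?_ h
    rintro _ ⟨_, ⟨w', hw', rfl⟩, rfl⟩
    exact ⟨j + 1, w', by omega, rfl⟩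
  | zero => simp
  | add y z _ _ hy hz => rw [map_add, smul_add]; exact Submodule.add_mem _ hy hz
  | smul r y _ hy =>
    rw [← algebraMap_smul R' r y, map_smul, smul_comm, algebraMap_smul]
    exact Submodule.smul_mem _ _ hy

omit [IsScalarTower R R' M'] in
lemma assoc_eq_half_polar (v : M') :
    (QuadraticMap.associated (R := R') Q') v = (⅟2 : R') • Q'.polarBilin v := by
  ext w
  simp [QuadraticMap.associated_apply, QuadraticMap.polar, smul_eq_mul]

lemma symBilin_spec : (QuadraticMap.associated (R := R') Q').toQuadraticMap = Q' - 0 := by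
  rw [sub_zero, QuadraticMap.toQuadraticMap_associated]

/-- The image of an exterior monomial in the Clifford algebra under symmetrisation. -/
noncomputable def symm' : CliffordAlgebra (0 : QuadraticForm R' M') →ₗ[R'] CliffordAlgebra Q' :=
  changeForm (symBilin_spec Q')

lemma symm'_mon_mem (hQ : ∀ i j, ∃ r, QuadraticMap.polar Q' (b' i) (b' j) = algebraMap R R' r) :
    ∀ w : List (Fin n), symm' Q' (mon 0 b' w) ∈ fil (R := R) Q' b' w.length
  | [] => Submodule.subset_span ⟨0, [], rfl, by simp [symm']⟩
  | i :: w => by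
    rw [mon_cons, symm', changeForm_ι_mul, assoc_eq_half_polar, map_smul, LinearMap.smul_apply]
    exact Submodule.sub_mem _ (ι_mul_mem_fil Q' b' (symm'_mon_mem hQ w) i)
      (half_contract_mem_fil Q' b' (symm'_mon_mem hQ w) (hQ i))

/-- The normalised symmetrisation of the top monomial. -/
noncomputable def topElt (m : ℕ) : CliffordAlgebra Q' :=
  (2 : R') ^ m • symm' Q' (mon 0 b' (List.finRange n))

lemma topElt_mem_span {m : ℕ} (hn : n = 2 * m)
    (hQ : ∀ i j, ∃ r, QuadraticMap.polar Q' (b' i) (b' j) = algebraMap R R' r) :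
    topElt Q' b' m ∈ Submodule.span R {x | ∃ w : List (Fin n), Even w.length ∧ x = mon Q' b' w} := by
  have h := Submodule.mem_map_of_mem
    (f := ((2 : R') ^ m • LinearMap.id : CliffordAlgebra Q' →ₗ[R'] CliffordAlgebra Q').restrictScalars R)
    (symm'_mon_mem Q' b' hQ (List.finRange n))
  rw [fil, Submodule.map_span] at h
  refine Submodule.span_le.2 ?_ h
  rintro _ ⟨_, ⟨j, w, hw, rfl⟩, rfl⟩
  rw [List.length_finRange] at hw
  simp only [LinearMap.coe_restrictScalars, LinearMap.smul_apply, LinearMap.id_apply, smul_smul]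
  rw [show (2 : R') ^ m * (⅟2 : R') ^ j = algebraMap R R' (2 ^ (m - j)) by
    rw [map_pow, map_ofNat, ← Nat.sub_add_cancel (show j ≤ m by omega), pow_add, mul_assoc,
      ← mul_pow, mul_invOf_self, one_pow, mul_one, Nat.add_sub_cancel], algebraMap_smul]
  exact Submodule.smul_mem _ _ (Submodule.subset_span ⟨w, ⟨m - j, by omega⟩, rfl⟩)

omit [Algebra R R'] [Module R M'] [IsScalarTower R R' M'] in
lemma top_wedge (v : M') :
    ι (0 : QuadraticForm R' M') v * mon 0 b' (List.finRange n) = 0 := by
  rw [← b'.sum_repr v, map_sum, Finset.sum_mul]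
  refine Finset.sum_eq_zero fun i _ => ?_
  rw [map_smul, smul_mul_assoc]
  have h := ExteriorAlgebra.ι_mul_prod_list (R := R') (fun j => b' j) i
  rw [List.ofFn_eq_map] at h
  exact (congrArg _ h).trans (smul_zero _)

lemma topElt_mem_even {m : ℕ} (hn : n = 2 * m)
    (hQ : ∀ i j, ∃ r, QuadraticMap.polar Q' (b' i) (b' j) = algebraMap R R' r) :
    topElt Q' b' m ∈ evenOdd Q' 0 := by
  have h := topElt_mem_span (R := R) Q' b' hn hQ
  have hle : Submodule.span R {x | ∃ w : List (Fin n), Even w.length ∧ x = mon Q' b' w} ≤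
      (evenOdd Q' 0).restrictScalars R := by
    rw [Submodule.span_le]
    rintro _ ⟨w, hw, rfl⟩
    have := mon_mem_evenOdd Q' b' w
    rwa [(ZMod.natCast_eq_zero_iff_even.2 hw)] at this
  exact hle h

lemma topElt_anticomm {m : ℕ} (hn : n = 2 * m)
    (hQ : ∀ i j, ∃ r, QuadraticMap.polar Q' (b' i) (b' j) = algebraMap R R' r) (v : M') :
    ι Q' v * topElt Q' b' m + topElt Q' b' m * ι Q' v = 0 := by
  have h := congrArg (symm' Q') (top_wedge b' v)
  rw [map_zero, symm', changeForm_ι_mul, ← symm'] at h
  have h' : ι Q' v * topElt Q' b' m -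
      contractLeft (QuadraticMap.associated (R := R') Q' v) (topElt Q' b' m) = 0 := by
    rw [topElt, mul_smul_comm, map_smul, ← smul_sub, h, smul_zero]
  rw [assoc_eq_half_polar, map_smul, LinearMap.smul_apply, contract_polar,
    involute_eq_of_mem_even (topElt_mem_even (R := R) Q' b' hn hQ)] at h'
  have h2 := congrArg ((2 : R') • ·) h'
  simp only [smul_sub, smul_zero, smul_smul, mul_invOf_self, one_smul, two_smul] at h2
  rw [← h2]; abel

omit [Algebra R R'] [Module R M'] [IsScalarTower R R' M'] [Invertible (2 : R')] in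
lemma mon_mul_ι (c : Fin n → M') (a : Fin n) :
    ∀ l : List (Fin n), (∀ i ∈ l, QuadraticMap.polar Q' (c a) (c i) = 0) →
      mon Q' c l * ι Q' (c a) = ((-1 : R') ^ l.length) • (ι Q' (c a) * mon Q' c l)
  | [], _ => by simp
  | i :: l, h => by
    have hi : ι Q' (c i) * ι Q' (c a) = -(ι Q' (c a) * ι Q' (c i)) := by
      rw [eq_neg_iff_add_eq_zero, ι_mul_ι_add_swap, QuadraticMap.polar_comm,
        h i (List.mem_cons_self ..), map_zero]
    rw [mon_cons, mul_assoc, mon_mul_ι c a l fun j hj => h j (List.mem_cons_of_mem _ hj),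
      mul_smul_comm, ← mul_assoc, hi, List.length_cons, pow_succ, mul_neg_one, neg_smul, neg_mul,
      smul_neg, mul_assoc]

omit [Algebra R R'] [Module R M'] [IsScalarTower R R' M'] [Invertible (2 : R')] in
lemma mon_sq (c : Fin n → M') (horth : ∀ i j, i ≠ j → QuadraticMap.polar Q' (c i) (c j) = 0) :
    ∀ l : List (Fin n), l.Nodup → ∃ ε : R', ε * ε = 1 ∧
      mon Q' c l * mon Q' c l = algebraMap R' _ (ε * (l.map fun i => Q' (c i)).prod)
  | [], _ => ⟨1, one_mul 1, by simp⟩
  | a :: l, h => by
    obtain ⟨ha, hl⟩ := List.nodup_cons.1 h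
    obtain ⟨ε, hε, he⟩ := mon_sq c horth l hl
    refine ⟨(-1) ^ l.length * ε, ?_, ?_⟩
    · rw [mul_mul_mul_comm, hε, mul_one, ← pow_add, Even.neg_one_pow ⟨_, rfl⟩]
    · rw [mon_cons, mul_assoc, ← mul_assoc (mon Q' c l), mon_mul_ι Q' c a l fun i hi => horth _ _ ?_,
        smul_mul_assoc, mul_assoc, he, mul_smul_comm, ← mul_assoc, ι_sq_scalar, ← map_mul,
        Algebra.smul_def, ← map_mul, List.map_cons, List.prod_cons]
      · congr 1; ring
      · rintro rfl; exact ha hi

end Top

section Field

variable {K : Type u} [Field K] [Invertible (2 : K)] {n : ℕ} (Q : QuadraticForm K (Fin n → K))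

/-- The square of the top element is the discriminant up to sign. -/
theorem topElt_sq {m : ℕ} (hn : n = 2 * m) :
    ∃ ε : K, ε * ε = 1 ∧
      topElt Q (Pi.basisFun K (Fin n)) m * topElt Q (Pi.basisFun K (Fin n)) m =
        algebraMap K _ (ε * (QuadGrpLib.polarMat (Pi.basisFun K (Fin n)) Q).det) := by
  classical
  set b := Pi.basisFun K (Fin n) with hb
  obtain ⟨v₀, hv₀⟩ := LinearMap.BilinForm.exists_orthogonal_basis
    (B := (Q.polarBilin : LinearMap.BilinForm K (Fin n → K)))
    ⟨fun x y => by simp [QuadraticMap.polar_comm]⟩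
  let v := v₀.reindex (finCongr (Module.finrank_fin_fun K))
  have horth : ∀ i j, i ≠ j → QuadraticMap.polar Q (v i) (v j) = 0 := fun i j hij => by
    simpa [v] using hv₀ (fun h => hij ((finCongr (Module.finrank_fin_fun K)).symm.injective h))
  have hc : b.det v ≠ 0 := (b.isUnit_det v).ne_zero
  have hwedge : mon (0 : QuadraticForm K (Fin n → K)) v (List.finRange n) =
      b.det v • mon (0 : QuadraticForm K (Fin n → K)) b (List.finRange n) := by
    refine (cbasis b (0 : QuadraticForm K (Fin n → K))).ext_elem fun s => ?_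
    have := AlternatingMap.eq_smul_basis_det b
      (((cbasis b (0 : QuadraticForm K (Fin n → K))).coord s).compAlternatingMap (ExteriorAlgebra.ιMulti K n))
    have h2 := congrArg (fun f => f v) this
    simp only [LinearMap.compAlternatingMap_apply, AlternatingMap.smul_apply, Module.Basis.coord_apply,
      ExteriorAlgebra.ιMulti_apply, List.ofFn_eq_map, smul_eq_mul] at h2
    rw [map_smul, Finsupp.smul_apply, smul_eq_mul, mul_comm]
    exact h2
  have hsym : symm' Q (mon 0 v (List.finRange n)) = mon Q v (List.finRange n) := by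
    refine changeForm_mon _ _ _ ((List.nodup_finRange n).imp fun hij => ?_)
    rw [assoc_eq_half_polar, LinearMap.smul_apply, QuadraticMap.polarBilin_apply_apply,
      horth _ _ hij, smul_zero]
  have hW : b.det v • topElt Q b m = (2 : K) ^ m • mon Q v (List.finRange n) := by
    rw [topElt, smul_comm, ← map_smul, ← hwedge, hsym]
  obtain ⟨ε, hε, hsq⟩ := mon_sq Q v horth (List.finRange n) (List.nodup_finRange n)
  refine ⟨ε, hε, ?_⟩
  have hdet : b.det v ^ 2 * (QuadGrpLib.polarMat b Q).det = 2 ^ n * ∏ i, Q (v i) := by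
    have h := LinearMap.BilinForm.toMatrix_mul_basis_toMatrix b v (Q.polarBilin : LinearMap.BilinForm K (Fin n → K))
    have hv : LinearMap.BilinForm.toMatrix v (Q.polarBilin : LinearMap.BilinForm K (Fin n → K)) =
        Matrix.diagonal fun i => 2 * Q (v i) := by
      ext i j
      rw [LinearMap.BilinForm.toMatrix_apply, QuadraticMap.polarBilin_apply_apply]
      rcases eq_or_ne i j with rfl | hij
      · simp [QuadraticMap.polar_self, two_mul, two_smul]
      · rw [Matrix.diagonal_apply_ne _ hij, horth i j hij]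
    have hP : LinearMap.BilinForm.toMatrix b (Q.polarBilin : LinearMap.BilinForm K (Fin n → K)) =
        QuadGrpLib.polarMat b Q := by
      ext i j; rw [LinearMap.BilinForm.toMatrix_apply]; rfl
    rw [hv, hP] at h
    have h' := congrArg Matrix.det h
    rw [Matrix.det_mul, Matrix.det_mul, Matrix.det_transpose, Matrix.det_diagonal,
      Finset.prod_mul_distrib, Finset.prod_const, Finset.card_univ, Fintype.card_fin,
      ← Module.Basis.det_apply] at h'
    linear_combination h'
  have h3 := congrArg (fun x => x * x) hW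
  simp only [smul_mul_smul_comm, hsq] at h3
  rw [Algebra.smul_def ((2 : K) ^ m * _), ← map_mul (algebraMap K (CliffordAlgebra Q))] at h3
  have h4 : (b.det v * b.det v) • (topElt Q b m * topElt Q b m) =
      (b.det v * b.det v) • algebraMap K (CliffordAlgebra Q) (ε * (QuadGrpLib.polarMat b Q).det) := by
    rw [h3, Algebra.smul_def, ← map_mul (algebraMap K (CliffordAlgebra Q))]
    congr 1
    rw [← List.ofFn_eq_map, List.prod_ofFn]
    linear_combination (-ε) * hdet + (-(ε * ∏ i, Q (v i))) * (by rw [hn]; ring : (2 : K) ^ n - 2 ^ m * 2 ^ m = 0)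
  exact smul_right_injective _ (mul_ne_zero hc hc) h4

end Field

section Universal

variable {n : ℕ}

/-- The triangular matrix of a coefficient table. -/
def upMat {R : Type u} [CommRing R] (a : Sym2 (Fin n) → R) : Matrix (Fin n) (Fin n) R :=
  Matrix.of fun i j => if i = j then a (Sym2.mk i j) else if i < j then a (Sym2.mk i j) else 0

/-- The quadratic form of a coefficient table. -/
noncomputable def qf {R : Type u} [CommRing R] (a : Sym2 (Fin n) → R) : QuadraticForm R (Fin n → R) :=
  LinearMap.BilinMap.toQuadraticMap (Matrix.toBilin' (upMat a))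

lemma qf_apply {R : Type u} [CommRing R] (a : Sym2 (Fin n) → R) (x : Fin n → R) :
    qf a x = ∑ i, ∑ j, x i * upMat a i j * x j := by
  rw [qf, LinearMap.BilinMap.toQuadraticMap_apply, Matrix.toBilin'_apply]

lemma qf_coeffs {R : Type u} [CommRing R] (Q : QuadraticForm R (Fin n → R)) :
    qf (QuadGrp.coeffs (Pi.basisFun R (Fin n)) (LinearEquiv.refl R R) Q) = Q := by
  conv_rhs => rw [← QuadraticMap.toQuadraticMap_toBilin Q (Pi.basisFun R (Fin n))]
  rw [qf]
  congr 1
  refine LinearMap.ext_basis (Pi.basisFun R (Fin n)) (Pi.basisFun R (Fin n)) fun i j => ?_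
  rw [QuadraticMap.toBilin_apply, Pi.basisFun_apply, Pi.basisFun_apply, Matrix.toBilin'_single,
    upMat, Matrix.of_apply]
  simp only [QuadGrp.coeffs_mk, LinearEquiv.refl_apply, Pi.basisFun_apply]
  split_ifs with h h'
  · subst h; rfl
  · rfl
  · rfl

lemma polarMat_qf {R : Type u} [CommRing R] (a : Sym2 (Fin n) → R) :
    QuadGrpLib.polarMat (Pi.basisFun R (Fin n)) (qf a) = QuadGrpLib.polarOf a := by
  ext i j
  rw [QuadGrpLib.polarMat, Matrix.of_apply, qf, LinearMap.BilinMap.polar_toQuadraticMap,
    Pi.basisFun_apply, Pi.basisFun_apply, Matrix.toBilin'_single, Matrix.toBilin'_single,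
    QuadGrpLib.polarOf, Matrix.of_apply, upMat, Matrix.of_apply, Matrix.of_apply]
  rcases lt_trichotomy i j with h | h | h
  · simp [h, h.ne, h.ne', h.not_gt]
  · subst h; simp [two_mul]
  · simp [h, h.ne, h.ne', h.not_gt, Sym2.eq_swap]

lemma map_qf {R : Type u} {R' : Type v} [CommRing R] [CommRing R'] [Algebra R R'] (a : Sym2 (Fin n) → R)
    (x : Fin n → R) :
    qf (algebraMap R R' ∘ a) ((Algebra.linearMap R R').compLeft (Fin n) x) = algebraMap R R' (qf a x) := by
  simp only [qf_apply, map_sum, map_mul, LinearMap.compLeft_apply, Function.comp_apply,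
    Algebra.linearMap_apply, upMat, Matrix.of_apply]
  refine Finset.sum_congr rfl fun i _ => Finset.sum_congr rfl fun j _ => ?_
  split_ifs <;> simp

lemma polarBilin_surjective {R : Type u} [CommRing R] (a : Sym2 (Fin n) → R)
    (h : IsUnit (QuadGrpLib.polarOf a).det) : Function.Surjective (qf a).polarBilin := by
  intro d
  refine ⟨(fun i => d (Pi.single i 1)) ᵥ* (QuadGrpLib.polarOf a)⁻¹, ?_⟩
  refine (Pi.basisFun R (Fin n)).ext fun j => ?_
  rw [QuadraticMap.polarBilin_apply_apply, QuadGrpLib.polar_eq_sum, polarMat_qf]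
  simp only [Pi.basisFun_repr]
  change (((fun i => d (Pi.single i 1)) ᵥ* (QuadGrpLib.polarOf a)⁻¹) ᵥ* QuadGrpLib.polarOf a) j = _
  rw [Matrix.vecMul_vecMul, Matrix.nonsing_inv_mul _ h, Matrix.vecMul_one, Pi.basisFun_apply]

lemma compLeft_single {R : Type u} {R' : Type v} [CommRing R] [CommRing R'] [Algebra R R'] (i : Fin n) :
    (Algebra.linearMap R R').compLeft (Fin n) (Pi.basisFun R (Fin n) i) = Pi.basisFun R' (Fin n) i := by
  funext j
  simp [Pi.single_apply, apply_ite (algebraMap R R')]

lemma anticomm_of_basis {R : Type u} [CommRing R] {M : Type v} [AddCommGroup M] [Module R M]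
    (b : Module.Basis (Fin n) R M) (Q : QuadraticForm R M) (z : CliffordAlgebra Q) (s : R)
    (h : ∀ i, ι Q (b i) * z + z * ι Q (b i) = s • ι Q (b i)) (v : M) :
    ι Q v * z + z * ι Q v = s • ι Q v := by
  conv_lhs => rw [← b.sum_repr v]
  conv_rhs => rw [← b.sum_repr v]
  simp only [map_sum, map_smul, Finset.sum_mul, Finset.mul_sum, smul_mul_assoc, mul_smul_comm,
    Finset.smul_sum, ← Finset.sum_add_distrib]
  exact Finset.sum_congr rfl fun i _ => by rw [← smul_add, h, smul_comm]

lemma eq_zero_of_two_smul {R : Type u} [CommRing R] [IsDomain R] (h2 : (2 : R) ≠ 0) {M : Type v}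
    [AddCommGroup M] [Module R M] (b : Module.Basis (Fin n) R M) (Q : QuadraticForm R M)
    {x : CliffordAlgebra Q} (h : (2 : R) • x = 0) : x = 0 := by
  refine (cbasis b Q).ext_elem fun s => ?_
  have := congrArg (fun y => (cbasis b Q).repr y s) h
  simp only [map_smul, Finsupp.smul_apply, smul_eq_mul, map_zero, Finsupp.zero_apply, mul_eq_zero] at this
  simpa using this.resolve_left h2

/-- The universal case. -/
theorem exists_centre_universal {U : Type u} [CommRing U] [IsDomain U] (h2 : (2 : U) ≠ 0) {m : ℕ}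
    (hn : n = 2 * m) (a : Sym2 (Fin n) → U) (hdet : IsUnit (QuadGrpLib.polarOf a).det) :
    ∃ z ∈ evenOdd (qf a) 0, ∃ s t : U, (∀ v, ι (qf a) v * z + z * ι (qf a) v = s • ι (qf a) v) ∧
      z * z = s • z + algebraMap U _ t ∧ IsUnit (s * s + 4 * t) := by
  classical
  set Q := qf a with hQ
  set b := Pi.basisFun U (Fin n) with hb
  let K := FractionRing U
  have hinj : Function.Injective (algebraMap U K) := IsFractionRing.injective U K
  have hK2 : (2 : K) ≠ 0 := by
    rw [← map_ofNat (algebraMap U K) 2]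
    exact fun h => h2 (hinj (h.trans (map_zero _).symm))
  letI : Invertible (2 : K) := invertibleOfNonzero hK2
  set b' := Pi.basisFun K (Fin n) with hb'
  set Q' := qf (algebraMap U K ∘ a) with hQ'
  let e := (Algebra.linearMap U K).compLeft (Fin n)
  have he : ∀ v, Q' (e v) = algebraMap U K (Q v) := fun v => map_qf a v
  have hbb : ∀ i, e (b i) = b' i := compLeft_single
  have hpol : ∀ i j, ∃ r, QuadraticMap.polar Q' (b' i) (b' j) = algebraMap U K r := fun i j =>
    ⟨QuadGrpLib.polarOf a i j, by
      have := congrFun (congrFun (polarMat_qf (algebraMap U K ∘ a)) i) j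
      rw [QuadGrpLib.polarMat, Matrix.of_apply, ← QuadGrpLib.map_polarOf, Matrix.map_apply] at this
      exact this⟩
  obtain ⟨W, hW0, hW⟩ : ∃ W ∈ evenOdd Q 0, cmap e he W = topElt Q' b' m := by
    have h := topElt_mem_span (R := U) Q' b' hn hpol
    have hle : Submodule.span U {x | ∃ w : List (Fin n), Even w.length ∧ x = mon Q' b' w} ≤
        (evenOdd Q 0).map (cmap e he).toLinearMap := by
      rw [Submodule.span_le]
      rintro _ ⟨w, hw, rfl⟩
      refine ⟨mon Q b w, ?_, cmap_mon e he b b' hbb w⟩
      have := mon_mem_evenOdd Q b w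
      rwa [ZMod.natCast_eq_zero_iff_even.2 hw] at this
    exact hle h
  have cinj := cmap_injective e he b b' hbb hinj
  have hanti : ∀ v, ι Q v * W + W * ι Q v = 0 := fun v => cinj (by
    rw [map_add, map_mul, map_mul, cmap_ι, hW, map_zero, topElt_anticomm (R := U) Q' b' hn hpol])
  -- reduction modulo two
  let k := U ⧸ Ideal.span {(2 : U)}
  have hk2 : (2 : k) = 0 := by
    rw [← map_ofNat (Ideal.Quotient.mk (Ideal.span {(2 : U)})) 2]
    exact Ideal.Quotient.eq_zero_iff_mem.2 (Ideal.mem_span_singleton_self _)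
  set Qk := qf (algebraMap U k ∘ a) with hQk
  let ek := (Algebra.linearMap U k).compLeft (Fin n)
  have hek : ∀ v, Qk (ek v) = algebraMap U k (Q v) := fun v => map_qf a v
  have hbk : ∀ i, ek (b i) = Pi.basisFun k (Fin n) i := compLeft_single
  have hWk0 : cmap ek hek W ∈ evenOdd Qk 0 := cmap_mem_evenOdd ek hek 0 hW0
  have hWk := eq_algebraMap_of_commute (Pi.basisFun k (Fin n))
    (polarBilin_surjective (algebraMap U k ∘ a) (by
      rw [← QuadGrpLib.map_polarOf, ← RingHom.mapMatrix_apply, ← RingHom.map_det]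
      exact hdet.map _)) hWk0 (fun v => by
      obtain ⟨v, rfl⟩ : ∃ w, ek w = v := by
        choose w hw using fun i => Ideal.Quotient.mk_surjective (v i)
        exact ⟨w, funext hw⟩
      have := congrArg (cmap ek hek) (hanti v)
      rw [map_add, map_mul, map_mul, cmap_ι, map_zero, add_eq_zero_iff_eq_neg] at this
      rw [this]
      have h0 : ∀ y : CliffordAlgebra Qk, y + y = 0 := fun y => by
        rw [← two_smul k y, hk2, zero_smul]
      exact neg_eq_of_add_eq_zero_left (h0 _))
  have hdiv : ∀ s, s ≠ ∅ → ∃ c, (cbasis b Q).repr W s = 2 * c := fun s hs => by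
    have := congrArg (fun y => (cbasis (Pi.basisFun k (Fin n)) Qk).repr y s) hWk
    simp only [cmap_repr ek hek b _ hbk] at this
    exact Ideal.mem_span_singleton.1 (Ideal.Quotient.eq_zero_iff_mem.1
      (this.trans ((algebraMap_repr _ _ _ _).trans (if_neg hs))))
  choose c hc using hdiv
  let z : CliffordAlgebra Q := ∑ s, if hs : s = ∅ then 0 else c s hs • cbasis b Q s
  let s₀ : U := -(cbasis b Q).repr W ∅
  have hWz : W = (2 : U) • z - algebraMap U _ s₀ := by
    refine (cbasis b Q).ext_elem fun s => ?_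
    have hz : (cbasis b Q).repr z s = if hs : s = ∅ then 0 else c s hs := by
      simp only [z, map_sum, Finsupp.coe_finsetSum, Finset.sum_apply]
      rw [Finset.sum_eq_single s]
      · split_ifs with hs
        · simp
        · rw [map_smul, Module.Basis.repr_self, Finsupp.smul_apply, Finsupp.single_eq_same,
            smul_eq_mul, mul_one]
      · intro t _ hts
        split_ifs with ht
        · simp
        · rw [map_smul, Module.Basis.repr_self, Finsupp.smul_apply,
            Finsupp.single_eq_of_ne (Ne.symm hts), smul_zero]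
      · simp
    rw [map_sub, map_smul, Finsupp.sub_apply, Finsupp.smul_apply, hz, algebraMap_repr, smul_eq_mul]
    split_ifs with hs
    · simp [s₀, hs]
    · rw [hc s hs, sub_zero]
  have h2z : (2 : U) • z = W + algebraMap U _ s₀ := by rw [hWz]; abel
  have hz0 : z ∈ evenOdd Q 0 := by
    obtain ⟨x₀, hx₀, x₁, hx₁, hzx⟩ := Submodule.mem_sup.1
      ((evenOdd_isCompl (Q := Q)).sup_eq_top.symm ▸ Submodule.mem_top : z ∈ evenOdd Q 0 ⊔ evenOdd Q 1)
    have hi : involute ((2 : U) • z) = (2 : U) • z := by
      rw [h2z, map_add, involute_eq_of_mem_even hW0, AlgHom.commutes]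
    rw [map_smul, ← hzx, map_add, involute_eq_of_mem_even hx₀, involute_eq_of_mem_odd hx₁] at hi
    have h4 : (2 : U) • ((2 : U) • x₁) = 0 := by
      have := sub_eq_zero.2 hi.symm
      rw [← this]; module
    rw [← hzx, eq_zero_of_two_smul h2 b Q (eq_zero_of_two_smul h2 b Q h4), add_zero]
    exact hx₀
  have hrel : ∀ v, ι Q v * z + z * ι Q v = s₀ • ι Q v := fun v => by
    refine sub_eq_zero.1 (eq_zero_of_two_smul h2 b Q ?_)
    rw [smul_sub, smul_add, ← mul_smul_comm, ← smul_mul_assoc, h2z, mul_add, add_mul,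
      ← Algebra.commutes, ← Algebra.smul_def, two_smul, ← sub_eq_zero.2 (hanti v)]
    abel
  have hcomm : ∀ v, ι Q v * (z * z - s₀ • z) = (z * z - s₀ • z) * ι Q v := fun v => by
    have h1 : ι Q v * z = s₀ • ι Q v - z * ι Q v := eq_sub_of_add_eq (hrel v)
    simp only [mul_sub, sub_mul, mul_smul_comm, smul_mul_assoc, ← mul_assoc, h1, smul_sub]
    rw [mul_assoc z, h1, mul_sub, mul_smul_comm, ← mul_assoc]
    abel
  have ht := eq_algebraMap_of_commute b (polarBilin_surjective a hdet)
    (Submodule.sub_mem _ (by simpa using SetLike.mul_mem_graded hz0 hz0)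
      (Submodule.smul_mem _ _ hz0)) hcomm
  set t := (cbasis b Q).repr (z * z - s₀ • z) ∅
  refine ⟨z, hz0, s₀, t, hrel, by rw [← ht]; abel, ?_⟩
  obtain ⟨ε, hε, hsq⟩ := topElt_sq Q' hn
  have hWW : W * W = algebraMap U _ (s₀ * s₀ + 4 * t) := by
    have hzz : z * z = s₀ • z + algebraMap U _ t := by rw [← ht]; abel
    rw [hWz, Algebra.algebraMap_eq_smul_one s₀, Algebra.algebraMap_eq_smul_one]
    simp only [mul_sub, sub_mul, smul_mul_assoc, mul_smul_comm, mul_one, one_mul, hzz,
      Algebra.algebraMap_eq_smul_one, smul_smul, smul_add]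
    module
  have h5 := congrArg (cmap e he) hWW
  rw [map_mul, hW, hsq, AlgHom.commutes, IsScalarTower.algebraMap_apply U K] at h5
  have h6 := algebraMap_injective b' Q' h5
  rw [polarMat_qf, ← QuadGrpLib.map_polarOf, ← RingHom.mapMatrix_apply, ← RingHom.map_det] at h6
  have h7 : (s₀ * s₀ + 4 * t) * (s₀ * s₀ + 4 * t) =
      (QuadGrpLib.polarOf a).det * (QuadGrpLib.polarOf a).det := hinj (by
    rw [map_mul, map_mul, ← h6]
    linear_combination (algebraMap U K (QuadGrpLib.polarOf a).det * algebraMap U K (QuadGrpLib.polarOf a).det) * hε)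
  exact isUnit_of_mul_isUnit_left (h7 ▸ hdet.mul hdet)

/-- Existence of the central element. -/
theorem exists_centre_elt {R : Type u} [CommRing R] {M : Type v} [AddCommGroup M] [Module R M]
    {m : ℕ} (b : Module.Basis (Fin (2 * m)) R M) {Q : QuadraticForm R M} (hQ : QuadGrp.IsRegular Q) :
    ∃ z ∈ evenOdd Q 0, ∃ s t : R, (∀ v, ι Q v * z + z * ι Q v = s • ι Q v) ∧
      z * z = s • z + algebraMap R _ t ∧ IsUnit (s * s + 4 * t) := by
  classical
  by_cases hR : Subsingleton R
  · haveI := hR
    haveI : Subsingleton (CliffordAlgebra Q) := Module.subsingleton R _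
    exact ⟨0, Submodule.zero_mem _, 0, 0, fun _ => Subsingleton.elim _ _, Subsingleton.elim _ _,
      isUnit_of_subsingleton _⟩
  let U₀ := MvPolynomial (Sym2 (Fin (2 * m))) ℤ
  let φ₀ : U₀ →+* R :=
    MvPolynomial.eval₂Hom (Int.castRingHom R) (QuadGrp.coeffs b (LinearEquiv.refl R R) Q)
  have hφ : φ₀ (QuadGrp.discUniv (2 * m)) = (QuadGrpLib.polarMat b Q).det := by
    rw [QuadGrp.discUniv, RingHom.map_det, QuadGrpLib.polarMat_eq_polarOf]
    congr 1
    ext i j
    rw [RingHom.mapMatrix_apply, QuadGrpLib.map_univPolarMat, QuadGrpLib.polarOf, Matrix.of_apply]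
    simp [φ₀]
  have hne : QuadGrp.discUniv (2 * m) ≠ 0 := fun h => by
    have := QuadGrpLib.isUnit_det_polarMat b hQ
    rw [← hφ, h, map_zero, isUnit_zero_iff] at this
    exact hR (subsingleton_of_zero_eq_one this)
  let U := Localization.Away (QuadGrp.discUniv (2 * m))
  haveI : IsDomain U := IsLocalization.isDomain_localization
    (Submonoid.powers_le.2 (mem_nonZeroDivisors_of_ne_zero hne))
  have h2 : (2 : U) ≠ 0 := by
    rw [← map_ofNat (algebraMap U₀ U) 2]
    intro h
    have h' := IsLocalization.injective U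
      (Submonoid.powers_le.2 (mem_nonZeroDivisors_of_ne_zero hne)) (h.trans (map_zero _).symm)
    have := congrArg (MvPolynomial.constantCoeff : U₀ →+* ℤ) h'
    simp [map_ofNat] at this
  let φ : U →+* R := IsLocalization.Away.lift (QuadGrp.discUniv (2 * m))
    (g := φ₀) (hφ ▸ QuadGrpLib.isUnit_det_polarMat b hQ)
  letI : Algebra U R := φ.toAlgebra
  let a : Sym2 (Fin (2 * m)) → U := fun x => algebraMap U₀ U (MvPolynomial.X x)
  have ha : algebraMap U R ∘ a = QuadGrp.coeffs b (LinearEquiv.refl R R) Q := by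
    funext x
    simp only [Function.comp_apply, a]
    rw [RingHom.algebraMap_toAlgebra, IsLocalization.Away.lift_eq]
    exact MvPolynomial.eval₂Hom_X' _ _ _
  have hdet : IsUnit (QuadGrpLib.polarOf a).det := by
    have : QuadGrpLib.polarOf a = (QuadGrp.univPolarMat (2 * m)).map (algebraMap U₀ U) := by
      ext i j
      rw [QuadGrpLib.map_univPolarMat, QuadGrpLib.polarOf, Matrix.of_apply]
    rw [this, ← RingHom.mapMatrix_apply, ← RingHom.map_det]
    exact IsLocalization.Away.algebraMap_isUnit (QuadGrp.discUniv (2 * m))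
  obtain ⟨z, hz, s, t, hrel, hzz, hd⟩ := exists_centre_universal h2 rfl a hdet
  let e₀ := (Algebra.linearMap U R).compLeft (Fin (2 * m))
  have hQe : ∀ x, qf (QuadGrp.coeffs b (LinearEquiv.refl R R) Q) x = Q (b.equivFun.symm x) := fun x => by
    have h := DFunLike.congr_fun (qf_coeffs (Q.comp (b.equivFun.symm : (Fin (2 * m) → R) →ₗ[R] M))) x
    rw [QuadraticMap.comp_apply] at h
    refine Eq.trans ?_ h
    congr 2
    funext p
    induction p using Sym2.ind with
    | h i j =>
      have hs : ∀ k, b.equivFun.symm (Pi.basisFun R (Fin (2 * m)) k) = b k := fun k => by simp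
      simp only [QuadGrp.coeffs_mk, QuadraticMap.polar, QuadraticMap.comp_apply, LinearEquiv.coe_coe,
        map_add, hs]
  letI : Module U M := Module.compHom M φ
  haveI : IsScalarTower U R M := ⟨fun u r x => by
    rw [Algebra.smul_def, mul_smul]; rfl⟩
  let e : (Fin (2 * m) → U) →ₗ[U] M :=
    ((b.equivFun.symm : (Fin (2 * m) → R) →ₗ[R] M).restrictScalars U) ∘ₗ e₀
  have he : ∀ x, Q (e x) = algebraMap U R (qf a x) := fun x => by
    rw [← map_qf, ha, hQe]; rfl
  refine ⟨cmap e he z, cmap_mem_evenOdd e he 0 hz, algebraMap U R s, algebraMap U R t,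
    anticomm_of_basis b Q _ _ fun i => ?_, ?_, ?_⟩
  · have hi : e (Pi.basisFun U (Fin (2 * m)) i) = b i := by
      change b.equivFun.symm (e₀ (Pi.basisFun U (Fin (2 * m)) i)) = b i
      rw [compLeft_single]
      simp
    have := congrArg (cmap e he) (hrel (Pi.basisFun U (Fin (2 * m)) i))
    rw [map_add, map_mul, map_mul, map_smul, cmap_ι, hi, ← algebraMap_smul R s] at this
    exact this
  · have := congrArg (cmap e he) hzz
    rw [map_mul, map_add, map_smul, AlgHom.commutes, ← algebraMap_smul R s,
      IsScalarTower.algebraMap_apply U R] at this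
    exact this
  · simpa [map_add, map_mul, map_ofNat] using hd.map (algebraMap U R)

end Universal

end Groth.Agent.CliffRegLib
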