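import Groth.Agent.QuadGrpLib.Refl
import Groth.Agent.QuadGrpLib.Polar
import Mathlib.RingTheory.LocalRing.ResidueField.Basic
import Mathlib.RingTheory.LocalRing.Module
import Mathlib.Algebra.Polynomial.Roots
import Mathlib.LinearAlgebra.Dimension.Constructions
import Mathlib.LinearAlgebra.FreeModule.Finite.Basic

/-!
# Isometries of regular forms over local rings with infinite residue field

Every isometry of a regular form of even rank is a product of reflections.
-/

set_option autoImplicit false
set_option backward.isDefEq.respectTransparency false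

universe u v

open Polynomial

namespace Groth.Agent.CliffRegLib

variable {R : Type u} [CommRing R]

/-- The subgroup generated by the reflections. -/
def reflSubgroup {M : Type v} [AddCommGroup M] [Module R M] (Q : QuadraticForm R M) :
    Subgroup (M ≃ₗ[R] M) :=
  Subgroup.closure {h | ∃ (u : M) (hu : IsUnit (Q u)), h = QuadGrpLib.refl Q hu}

section Local

variable [IsLocalRing R] [Infinite (IsLocalRing.ResidueField R)]

lemma exists_isUnit_eval {ι : Type*} (s : Finset ι) (p : ι → R[X])
    (h : ∀ i ∈ s, ∃ k, IsUnit ((p i).coeff k)) : ∃ t : R, ∀ i ∈ s, IsUnit ((p i).eval t) := by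
  classical
  set π := IsLocalRing.residue R
  have hne : ∀ i ∈ s, (p i).map π ≠ 0 := fun i hi h0 => by
    obtain ⟨k, hk⟩ := h i hi
    have := congrArg (fun q => Polynomial.coeff q k) h0
    simp only [Polynomial.coeff_map, Polynomial.coeff_zero] at this
    exact (IsLocalRing.residue_eq_zero_iff _).1 this hk
  obtain ⟨x, hx⟩ := Infinite.exists_notMem_finset (s.biUnion fun i => ((p i).map π).roots.toFinset)
  obtain ⟨t, rfl⟩ := IsLocalRing.residue_surjective x
  refine ⟨t, fun i hi => ?_⟩
  by_contra hu
  refine hx (Finset.mem_biUnion.2 ⟨i, hi, ?_⟩)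
  rw [Multiset.mem_toFinset, Polynomial.mem_roots (hne i hi), Polynomial.IsRoot,
    Polynomial.eval_map_apply, IsLocalRing.residue_eq_zero_iff]
  exact hu

lemma exists_isUnit_three (a₁ c₁ a₂ c₂ q₀ q₁ q₂ : R) (h₁ : IsUnit a₁ ∨ IsUnit c₁)
    (h₂ : IsUnit a₂ ∨ IsUnit c₂) (h₃ : IsUnit q₀ ∨ IsUnit q₂) :
    ∃ t : R, IsUnit (a₁ + t * c₁) ∧ IsUnit (a₂ + t * c₂) ∧ IsUnit (q₀ + t * q₁ + t * t * q₂) := by
  obtain ⟨t, ht⟩ := exists_isUnit_eval (Finset.univ : Finset (Fin 3))
    ![C a₁ + C c₁ * X, C a₂ + C c₂ * X, C q₀ + C q₁ * X + C q₂ * X ^ 2] (fun i _ => by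
      fin_cases i
      · rcases h₁ with h | h
        · exact ⟨0, by simpa using h⟩
        · exact ⟨1, by simpa [coeff_C] using h⟩
      · rcases h₂ with h | h
        · exact ⟨0, by simpa using h⟩
        · exact ⟨1, by simpa [coeff_C] using h⟩
      · rcases h₃ with h | h
        · exact ⟨0, by simpa using h⟩
        · exact ⟨2, by simpa [coeff_C, coeff_X] using h⟩)
  refine ⟨t, ?_, ?_, ?_⟩
  · have h := ht 0 (Finset.mem_univ _)
    simp at h
    convert h using 1; ring
  · have h := ht 1 (Finset.mem_univ _)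
    simp at h
    convert h using 1; ring
  · have h := ht 2 (Finset.mem_univ _)
    simp at h
    convert h using 1; ring

end Local

section Two

variable {M : Type v} [AddCommGroup M] [Module R M] (Q : QuadraticForm R M)

lemma refl_sub_maps {x y : M} (hxy : Q x = Q y) (hu : IsUnit (Q (x - y))) :
    QuadGrpLib.refl Q hu x = y := by
  have h : QuadraticMap.polar Q (x - y) x = Q (x - y) := by
    rw [QuadraticMap.polar_sub_left, QuadraticMap.polar_self, nsmul_eq_mul, sub_eq_add_neg x y,
      QuadraticMap.map_add Q, QuadraticMap.map_neg, QuadraticMap.polar_neg_right,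
      QuadraticMap.polar_comm Q x y, ← hxy]
    push_cast; ring
  rw [QuadGrpLib.refl_apply, h, IsUnit.val_inv_mul, one_smul]
  abel

lemma refl_apply_of_ortho {u x : M} (hu : IsUnit (Q u)) (h : QuadraticMap.polar Q u x = 0) :
    QuadGrpLib.refl Q hu x = x := by
  rw [QuadGrpLib.refl_apply, h, mul_zero, zero_smul, sub_zero]

variable [IsLocalRing R]

/-- Moving a vector to another one of the same length by one or two reflections. -/
lemma exists_move {x y : M} (hxy : Q x = Q y) (P : M → Prop)
    (hP : ∀ w, P w → ∀ hw : IsUnit (Q w), P (QuadGrpLib.refl Q hw x - y))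
    (hPd : P (x - y))
    (hw : ∃ w, P w ∧ IsUnit (Q w) ∧ IsUnit (QuadraticMap.polar Q w x) ∧ IsUnit (QuadraticMap.polar Q w y)) :
    ∃ h ∈ reflSubgroup Q, h x = y ∧
      ∀ e, (∀ w, P w → QuadraticMap.polar Q w e = 0) → h e = e := by
  by_cases hd : IsUnit (Q (x - y))
  · exact ⟨_, Subgroup.subset_closure ⟨_, hd, rfl⟩, refl_sub_maps Q hxy hd,
      fun e he => refl_apply_of_ortho Q hd (he _ hPd)⟩
  · obtain ⟨w, hwP, hwu, hwx, hwy⟩ := hw
    set x' := QuadGrpLib.refl Q hwu x with hx'
    set c : R := (↑hwu.unit⁻¹ : R) * QuadraticMap.polar Q w x with hc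
    have hu : IsUnit (Q (x' - y)) := by
      have h : Q (x' - y) = Q (x - y) + c * QuadraticMap.polar Q w y := by
        rw [hx', QuadGrpLib.refl_apply, ← hc, sub_right_comm, sub_eq_add_neg (x - y), ← neg_smul,
          QuadraticMap.map_add Q, QuadraticMap.map_smul, QuadraticMap.polar_smul_right,
          QuadraticMap.polar_comm Q (x - y), QuadraticMap.polar_sub_right, smul_eq_mul, smul_eq_mul]
        have : c * Q w = QuadraticMap.polar Q w x := by
          rw [hc, mul_right_comm, IsUnit.val_inv_mul, one_mul]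
        linear_combination c * this
      rw [h]
      refine IsLocalRing.notMem_maximalIdeal.1 fun hmem => ?_
      have hd' : Q (x - y) ∈ IsLocalRing.maximalIdeal R := hd
      have := (Ideal.add_mem_iff_right _ hd').1 hmem
      exact IsLocalRing.notMem_maximalIdeal.2
        (((Units.isUnit _).mul hwx).mul hwy) this
    refine ⟨QuadGrpLib.refl Q hu * QuadGrpLib.refl Q hwu,
      mul_mem (Subgroup.subset_closure ⟨_, hu, rfl⟩) (Subgroup.subset_closure ⟨_, hwu, rfl⟩), ?_, ?_⟩
    · rw [LinearEquiv.mul_apply, ← hx']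
      exact refl_sub_maps Q ((QuadGrpLib.refl_mem_O Q hwu x).trans hxy) hu
    · intro e he
      rw [LinearEquiv.mul_apply, refl_apply_of_ortho Q hwu (he _ hwP),
        refl_apply_of_ortho Q hu (he _ (hP w hwP hwu))]

lemma isUnit_coord {n : ℕ} (b : Module.Basis (Fin n) R M) {e : M} (he : IsUnit (Q e)) :
    ∃ i, IsUnit (b.repr e i) := by
  by_contra h
  push Not at h
  haveI := Module.Free.of_basis b
  obtain ⟨B, hB⟩ := LinearMap.BilinMap.toQuadraticMap_surjective Q
  refine IsLocalRing.notMem_maximalIdeal.2 he ?_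
  rw [← hB, LinearMap.BilinMap.toQuadraticMap_apply]
  have h1 := congrArg (fun x => B x e) (b.sum_repr e)
  simp only [map_sum, map_smul, LinearMap.sum_apply, LinearMap.smul_apply, smul_eq_mul] at h1
  rw [← h1]
  exact Ideal.sum_mem _ fun i _ => Ideal.mul_mem_right _ _ (h i)

/-- A hyperbolic-like pair. -/
lemma exists_pair {n : ℕ} (hn : 2 ≤ n) (b : Module.Basis (Fin n) R M) (hQ : QuadGrp.IsRegular Q) :
    ∃ e f, IsUnit (Q e) ∧ QuadraticMap.polar Q e f = 1 ∧ IsUnit (4 * Q e * Q f - 1) := by
  classical
  obtain ⟨e, he⟩ : ∃ e, IsUnit (Q e) := by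
    by_contra h
    push Not at h
    haveI : Nonempty (Fin n) := ⟨⟨0, by omega⟩⟩
    have hu := (QuadGrpLib.isUnit_det_polarMat b hQ).map (IsLocalRing.residue R)
    rw [RingHom.map_det] at hu
    have h0 : (IsLocalRing.residue R).mapMatrix (QuadGrpLib.polarMat b Q) = 0 := by
      ext i j
      rw [RingHom.mapMatrix_apply, Matrix.map_apply, Matrix.zero_apply, QuadGrpLib.polarMat,
        Matrix.of_apply, QuadraticMap.polar, IsLocalRing.residue_eq_zero_iff]
      exact Ideal.sub_mem _ (Ideal.sub_mem _ (h _) (h _)) (h _)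
    rw [h0, Matrix.det_zero] at hu
    exact not_isUnit_zero hu
  obtain ⟨i, hi⟩ := isUnit_coord Q b he
  obtain ⟨f₀, hf₀⟩ := hQ.2 ((↑hi.unit⁻¹ : R) • b.coord i)
  have hef : QuadraticMap.polar Q e f₀ = 1 := by
    rw [QuadraticMap.polar_comm, ← QuadraticMap.polarBilin_apply_apply, hf₀, LinearMap.smul_apply,
      Module.Basis.coord_apply, smul_eq_mul, IsUnit.val_inv_mul]
  by_cases h2 : IsUnit (2 : R)
  swap
  · refine ⟨e, f₀, he, hef, ?_⟩
    have : 4 * Q e * Q f₀ ∈ IsLocalRing.maximalIdeal R := by
      rw [show (4 : R) = 2 * 2 by norm_num, mul_assoc 2, mul_assoc 2, mul_assoc 2]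
      exact Ideal.mul_mem_right _ _ h2
    rw [← neg_sub, IsUnit.neg_iff]
    refine IsLocalRing.notMem_maximalIdeal.1 fun hm => ?_
    have h1 := Ideal.add_mem _ hm this
    rw [sub_add_cancel] at h1
    exact IsLocalRing.notMem_maximalIdeal.2 isUnit_one h1
  obtain ⟨c, hc⟩ := (h2.mul he)
  let π : M → M := fun y => y - ((↑c⁻¹ : R) * QuadraticMap.polar Q e y) • e
  have hπ : ∀ y, QuadraticMap.polar Q e (π y) = 0 := fun y => by
    simp only [π, QuadraticMap.polar_sub_right, QuadraticMap.polar_smul_right,
      QuadraticMap.polar_self, smul_eq_mul, nsmul_eq_mul, Nat.cast_ofNat, ← hc]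
    linear_combination (-(QuadraticMap.polar Q e y)) * c.inv_mul
  obtain ⟨x, hx, hxu⟩ : ∃ x, QuadraticMap.polar Q e x = 0 ∧ IsUnit (Q x) := by
    by_contra h
    push Not at h
    have hadd : ∀ y y', π y + π y' = π (y + y') := fun y y' => by
      simp only [π, QuadraticMap.polar_add_right, mul_add, add_smul]; abel
    have hpol : ∀ y y', QuadraticMap.polar Q y (π y') ∈ IsLocalRing.maximalIdeal R := by
      intro y y'
      have h1 : QuadraticMap.polar Q y (π y') = QuadraticMap.polar Q (π y) (π y') := by
        conv_rhs => rw [show π y = y - ((↑c⁻¹ : R) * QuadraticMap.polar Q e y) • e from rfl,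
          QuadraticMap.polar_sub_left, QuadraticMap.polar_smul_left, hπ, smul_zero, sub_zero]
      rw [h1, QuadraticMap.polar, hadd]
      exact Ideal.sub_mem _ (Ideal.sub_mem _ (h _ (hπ _)) (h _ (hπ _))) (h _ (hπ _))
    have hco : ∀ j k, b.repr (π (b j)) k ∈ IsLocalRing.maximalIdeal R := fun j k => by
      obtain ⟨y, hy⟩ := hQ.2 (b.coord k)
      have := hpol y (b j)
      rwa [← QuadraticMap.polarBilin_apply_apply, hy, Module.Basis.coord_apply] at this
    let i0 : Fin n := ⟨0, by omega⟩
    let i1 : Fin n := ⟨1, by omega⟩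
    have h00 := hco i0 i0
    have h01 := hco i0 i1
    have h11 := hco i1 i1
    have hne : i0 ≠ i1 := by simp [i0, i1, Fin.ext_iff]
    simp only [π, map_sub, map_smul, Finsupp.sub_apply, Finsupp.smul_apply, Module.Basis.repr_self,
      Finsupp.single_eq_same, Finsupp.single_eq_of_ne hne.symm, smul_eq_mul, zero_sub] at h00 h01 h11
    have hu0 := IsLocalRing.isUnit_one_sub_self_of_mem_nonunits _ h00
    rw [sub_sub_cancel] at hu0
    have hu1 := IsLocalRing.isUnit_one_sub_self_of_mem_nonunits _ h11
    rw [sub_sub_cancel] at hu1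
    refine IsLocalRing.notMem_maximalIdeal.2 ?_ ((Ideal.neg_mem_iff _).1 h01)
    exact (isUnit_of_mul_isUnit_left hu0).mul (isUnit_of_mul_isUnit_right hu1)
  refine ⟨e, x + (↑c⁻¹ : R) • e, he, ?_, ?_⟩
  · rw [QuadraticMap.polar_add_right, hx, QuadraticMap.polar_smul_right, QuadraticMap.polar_self,
      zero_add, smul_eq_mul, nsmul_eq_mul, Nat.cast_ofNat, ← hc, Units.inv_mul]
  · have : 4 * Q e * Q (x + (↑c⁻¹ : R) • e) - 1 = (2 * 2) * Q e * Q x := by
      rw [QuadraticMap.map_add Q, QuadraticMap.map_smul, QuadraticMap.polar_smul_right,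
        QuadraticMap.polar_comm Q x e, hx, smul_eq_mul, smul_eq_mul, mul_zero, add_zero]
      have h1 : 2 * Q e * (↑c⁻¹ : R) = 1 := by rw [← hc, Units.mul_inv]
      linear_combination (2 * Q e * (↑c⁻¹ : R) + 1) * h1
    rw [this]
    exact ((h2.mul h2).mul he).mul hxu

end Two

/-- Over a local ring with infinite residue field isometries of regular forms of even rank are
products of reflections. -/
theorem mem_reflSubgroup [IsLocalRing R] [Infinite (IsLocalRing.ResidueField R)] :
    ∀ (k : ℕ) {M : Type v} [AddCommGroup M] [Module R M] (_ : Module.Basis (Fin (2 * k)) R M)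
      (Q : QuadraticForm R M), QuadGrp.IsRegular Q →
      ∀ g ∈ QuadGrp.O Q, g ∈ reflSubgroup Q := by
  intro k
  induction k with
  | zero =>
    intro M _ _ b Q hQ g hg
    have : g = 1 := LinearEquiv.ext fun x => b.ext_elem fun i => i.elim0
    rw [this]
    exact one_mem _
  | succ k ih =>
    intro M _ _ b Q hQ g hg
    classical
    haveI := Module.Free.of_basis b
    haveI := Module.Finite.of_basis b
    obtain ⟨e, f, he, hef, hδ⟩ := exists_pair Q (by omega) b hQ
    have hgp : ∀ x y, QuadraticMap.polar Q (g x) (g y) = QuadraticMap.polar Q x y := fun x y => by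
      simp only [QuadraticMap.polar, ← map_add]; rw [hg, hg, hg]
    obtain ⟨h₁, hh₁, hh₁e, -⟩ := exists_move Q (hg e) (fun _ => True) (fun _ _ _ => trivial) trivial (by
      obtain ⟨t, ht1, ht2, -⟩ := exists_isUnit_three (QuadraticMap.polar Q f (g e))
        (QuadraticMap.polar Q (g f) (g e)) (QuadraticMap.polar Q f e) (QuadraticMap.polar Q (g f) e) 1 0 0
        (Or.inr (by rw [hgp, QuadraticMap.polar_comm, hef]; exact isUnit_one))
        (Or.inl (by rw [QuadraticMap.polar_comm, hef]; exact isUnit_one)) (Or.inl isUnit_one)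
      obtain ⟨T, hT1, hT2, hT3⟩ := exists_isUnit_three
        (QuadraticMap.polar Q (f + t • g f) (g e)) (QuadraticMap.polar Q e (g e))
        (QuadraticMap.polar Q (f + t • g f) e) (QuadraticMap.polar Q e e) (Q (f + t • g f))
        (QuadraticMap.polar Q (f + t • g f) e) (Q e)
        (Or.inl (by simpa [QuadraticMap.polar_add_left, QuadraticMap.polar_smul_left] using ht1))
        (Or.inl (by simpa [QuadraticMap.polar_add_left, QuadraticMap.polar_smul_left] using ht2))
        (Or.inr he)
      refine ⟨f + t • g f + T • e, trivial, ?_, ?_, ?_⟩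
      · convert hT3 using 1
        rw [QuadraticMap.map_add Q (f + t • g f), QuadraticMap.map_smul, QuadraticMap.polar_smul_right,
          smul_eq_mul, smul_eq_mul]
        ring
      · rw [QuadraticMap.polar_add_left, QuadraticMap.polar_smul_left, smul_eq_mul]; exact hT1
      · rw [QuadraticMap.polar_add_left, QuadraticMap.polar_smul_left, smul_eq_mul]; exact hT2)
    have hO : ∀ h ∈ reflSubgroup Q, h ∈ QuadGrp.O Q := fun h hh => by
      refine (Subgroup.closure_le (K := QuadGrp.O Q)).2 ?_ hh
      rintro _ ⟨u, hu, rfl⟩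
      exact QuadGrpLib.refl_mem_O Q hu
    set f' := h₁ (g f) with hf'
    have hef' : QuadraticMap.polar Q e f' = 1 := by
      have h1p : ∀ x y, QuadraticMap.polar Q (h₁ x) (h₁ y) = QuadraticMap.polar Q x y := fun x y => by
        have h := hO h₁ hh₁
        simp only [QuadraticMap.polar, ← map_add]; rw [h, h, h]
      conv_lhs => rw [hf', ← hh₁e]
      rw [h1p, hgp, hef]
    have hQf' : Q f' = Q f := by rw [hf', hO h₁ hh₁, hg]
    set a := Q e with ha
    have hw0 : ∀ y, QuadraticMap.polar Q e y = 1 → QuadraticMap.polar Q e ((2 * a) • y - e) = 0 :=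
      fun y hy => by
        rw [QuadraticMap.polar_sub_right, QuadraticMap.polar_smul_right, hy, QuadraticMap.polar_self,
          smul_eq_mul, nsmul_eq_mul, Nat.cast_ofNat, mul_one, sub_self]
    have hw1 : ∀ y, QuadraticMap.polar Q e y = 1 →
        QuadraticMap.polar Q ((2 * a) • y - e) y = 4 * a * Q y - 1 := fun y hy => by
      rw [QuadraticMap.polar_sub_left, QuadraticMap.polar_smul_left, hy, QuadraticMap.polar_self,
        smul_eq_mul, nsmul_eq_mul, Nat.cast_ofNat]
      ring
    obtain ⟨h₂, hh₂, hh₂f, hh₂e⟩ := exists_move Q hQf' (fun w => QuadraticMap.polar Q e w = 0)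
      (fun w hw hu => by
        rw [QuadGrpLib.refl_apply, QuadraticMap.polar_sub_right, QuadraticMap.polar_sub_right,
          QuadraticMap.polar_smul_right, hw, smul_zero, hef', hef, sub_zero, sub_self])
      (by rw [QuadraticMap.polar_sub_right, hef', hef, sub_self]) (by
      obtain ⟨T, hT1, hT2, hT3⟩ := exists_isUnit_three
        (QuadraticMap.polar Q ((2 * a) • f - e) f') (QuadraticMap.polar Q ((2 * a) • f' - e) f')
        (QuadraticMap.polar Q ((2 * a) • f - e) f) (QuadraticMap.polar Q ((2 * a) • f' - e) f)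
        (Q ((2 * a) • f - e)) (QuadraticMap.polar Q ((2 * a) • f - e) ((2 * a) • f' - e))
        (Q ((2 * a) • f' - e))
        (Or.inr (by rw [hw1 _ hef', hQf']; exact hδ)) (Or.inl (by rw [hw1 _ hef]; exact hδ))
        (Or.inl (by
          have : Q ((2 * a) • f - e) = a * (4 * a * Q f - 1) := by
            rw [sub_eq_add_neg, QuadraticMap.map_add Q, QuadraticMap.map_neg, QuadraticMap.map_smul,
              QuadraticMap.polar_neg_right, QuadraticMap.polar_smul_left,
              QuadraticMap.polar_comm Q f e, hef, smul_eq_mul, smul_eq_mul, ← ha]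
            ring
          rw [this]
          exact he.mul hδ))
      refine ⟨(2 * a) • f - e + T • ((2 * a) • f' - e), ?_, ?_, ?_, ?_⟩
      · rw [QuadraticMap.polar_add_right, QuadraticMap.polar_smul_right, hw0 f hef, hw0 f' hef',
          smul_zero, add_zero]
      · convert hT3 using 1
        rw [QuadraticMap.map_add Q ((2 * a) • f - e), QuadraticMap.map_smul,
          QuadraticMap.polar_smul_right, smul_eq_mul, smul_eq_mul]
        ring
      · rw [QuadraticMap.polar_add_left, QuadraticMap.polar_smul_left, smul_eq_mul]; exact hT1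
      · rw [QuadraticMap.polar_add_left, QuadraticMap.polar_smul_left, smul_eq_mul]; exact hT2)
    set g₂ := h₂ * h₁ * g with hg₂
    have hg₂O : g₂ ∈ QuadGrp.O Q := mul_mem (mul_mem (hO _ hh₂) (hO _ hh₁)) hg
    have hg₂e : g₂ e = e := by
      rw [hg₂, LinearEquiv.mul_apply, LinearEquiv.mul_apply, hh₁e]
      exact hh₂e e fun w hw => by rw [QuadraticMap.polar_comm]; exact hw
    have hg₂f : g₂ f = f := by
      rw [hg₂, LinearEquiv.mul_apply, LinearEquiv.mul_apply]; exact hh₂f
    suffices hmain : g₂ ∈ reflSubgroup Q by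
      have hgg : g = (h₂ * h₁)⁻¹ * g₂ := by rw [hg₂]; group
      rw [hgg]
      exact mul_mem (inv_mem (mul_mem hh₂ hh₁)) hmain
    -- the complement
    let W : Submodule R M := LinearMap.ker (Q.polarBilin e) ⊓ LinearMap.ker (Q.polarBilin f)
    obtain ⟨dlt, hdlt⟩ := hδ
    let α : M →ₗ[R] R := (↑dlt⁻¹ : R) • ((2 * Q f) • Q.polarBilin e - Q.polarBilin f)
    let β : M →ₗ[R] R := (↑dlt⁻¹ : R) • ((2 * a) • Q.polarBilin f - Q.polarBilin e)
    let p : M →ₗ[R] M := LinearMap.id - α.smulRight e - β.smulRight f
    have hp : ∀ y, p y ∈ W := fun y => by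
      have h1 : (↑dlt⁻¹ : R) * (4 * a * Q f - 1) = 1 := by rw [← hdlt, Units.inv_mul]
      refine ⟨?_, ?_⟩ <;> rw [SetLike.mem_coe, LinearMap.mem_ker]
      · simp only [p, α, β, LinearMap.sub_apply, LinearMap.id_apply, LinearMap.smulRight_apply,
          LinearMap.smul_apply, map_sub, map_smul, QuadraticMap.polarBilin_apply_apply, smul_eq_mul,
          QuadraticMap.polar_self, nsmul_eq_mul, Nat.cast_ofNat, hef, ← ha]
        linear_combination (-(QuadraticMap.polar Q e y)) * h1
      · simp only [p, α, β, LinearMap.sub_apply, LinearMap.id_apply, LinearMap.smulRight_apply,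
          LinearMap.smul_apply, map_sub, map_smul, QuadraticMap.polarBilin_apply_apply, smul_eq_mul,
          QuadraticMap.polar_self, nsmul_eq_mul, Nat.cast_ofNat, QuadraticMap.polar_comm Q f e, hef, ← ha]
        linear_combination (-(QuadraticMap.polar Q f y)) * h1
    have hfix : ∀ w ∈ W, p w = w := fun w hw => by
      have h1 : QuadraticMap.polar Q e w = 0 := hw.1
      have h2 : QuadraticMap.polar Q f w = 0 := hw.2
      simp [p, α, β, h1, h2]
    let pW : M →ₗ[R] W := p.codRestrict W hp
    have hsplit : pW ∘ₗ W.subtype = LinearMap.id := LinearMap.ext fun w => Subtype.ext (hfix w w.2)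
    haveI : Module.Projective R W := Module.Projective.of_split W.subtype pW hsplit
    haveI : Module.Finite R W := Module.Finite.of_surjective pW fun w =>
      ⟨(w : M), Subtype.ext (hfix _ w.2)⟩
    haveI : Module.Free R W := Module.free_of_flat_of_isLocalRing
    have hα : ∀ x y : R, ∀ w : W, α (x • e + y • f + (w : M)) = x ∧ β (x • e + y • f + (w : M)) = y := by
      intro x y w
      have h1 : QuadraticMap.polar Q e (w : M) = 0 := w.2.1
      have h2 : QuadraticMap.polar Q f (w : M) = 0 := w.2.2
      have h3 : (↑dlt⁻¹ : R) * (4 * a * Q f - 1) = 1 := by rw [← hdlt, Units.inv_mul]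
      constructor <;>
      · simp only [α, β, LinearMap.smul_apply, LinearMap.sub_apply, map_add, map_smul,
          QuadraticMap.polarBilin_apply_apply, smul_eq_mul, QuadraticMap.polar_self, nsmul_eq_mul,
          Nat.cast_ofNat, QuadraticMap.polar_comm Q f e, hef, h1, h2, ← ha]
        first
          | linear_combination x * h3
          | linear_combination y * h3
    let E : ((R × R) × W) ≃ₗ[R] M :=
      { toFun := fun x => x.1.1 • e + x.1.2 • f + (x.2 : M)
        invFun := fun y => ((α y, β y), pW y)
        map_add' := fun x y => by simp [add_smul]; abel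
        map_smul' := fun c x => by simp [smul_smul, smul_add]
        left_inv := fun x => by
          obtain ⟨h1, h2⟩ := hα x.1.1 x.1.2 x.2
          refine Prod.ext (Prod.ext h1 h2) (Subtype.ext ?_)
          simp only [pW, LinearMap.codRestrict_apply, p, LinearMap.sub_apply, LinearMap.id_apply,
            LinearMap.smulRight_apply, h1, h2]
          abel
        right_inv := fun y => by simp [pW, p] }
    have hrank : Module.finrank R W = 2 * k := by
      have := E.finrank_eq
      rw [Module.finrank_prod, Module.finrank_prod, Module.finrank_self,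
        Module.finrank_eq_card_basis b, Fintype.card_fin] at this
      omega
    let bW : Module.Basis (Fin (2 * k)) R W := Module.finBasisOfFinrankEq R W hrank
    let QW : QuadraticForm R W := Q.comp W.subtype
    have hpolW : ∀ w w' : W, QuadraticMap.polar QW w w' = QuadraticMap.polar Q (w : M) (w' : M) :=
      fun w w' => rfl
    have hdec : ∀ y : M, y = α y • e + β y • f + p y := fun y => by simp [p]
    have hQW : QuadGrp.IsRegular QW := by
      refine ⟨fun w w' hww => ?_, fun d => ?_⟩
      · refine Subtype.ext (hQ.1 (LinearMap.ext fun y => ?_))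
        have h1 := LinearMap.congr_fun hww (pW y)
        rw [QuadraticMap.polarBilin_apply_apply, QuadraticMap.polarBilin_apply_apply, hpolW, hpolW] at h1
        have hz : ∀ x : W, QuadraticMap.polar Q (x : M) y = QuadraticMap.polar Q (x : M) (p y) := fun x => by
          conv_lhs => rw [hdec y]
          rw [QuadraticMap.polar_add_right, QuadraticMap.polar_add_right, QuadraticMap.polar_smul_right,
            QuadraticMap.polar_smul_right, QuadraticMap.polar_comm Q (x : M) e,
            QuadraticMap.polar_comm Q (x : M) f, show QuadraticMap.polar Q e (x : M) = 0 from x.2.1,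
            show QuadraticMap.polar Q f (x : M) = 0 from x.2.2, smul_zero, smul_zero, zero_add, zero_add]
        rw [QuadraticMap.polarBilin_apply_apply, QuadraticMap.polarBilin_apply_apply, hz, hz]
        exact h1
      · obtain ⟨y, hy⟩ := hQ.2 (d ∘ₗ pW)
        refine ⟨pW y, LinearMap.ext fun w => ?_⟩
        rw [QuadraticMap.polarBilin_apply_apply, hpolW]
        have h1 := LinearMap.congr_fun hy (w : M)
        rw [QuadraticMap.polarBilin_apply_apply, hdec y, LinearMap.comp_apply,
          show pW (w : M) = w from LinearMap.congr_fun hsplit w, QuadraticMap.polar_add_left,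
          QuadraticMap.polar_add_left, QuadraticMap.polar_smul_left, QuadraticMap.polar_smul_left,
          show QuadraticMap.polar Q e (w : M) = 0 from w.2.1,
          show QuadraticMap.polar Q f (w : M) = 0 from w.2.2, smul_zero, smul_zero, zero_add,
          zero_add] at h1
        exact h1
    have hgW : ∀ h : M ≃ₗ[R] M, h ∈ QuadGrp.O Q → h e = e → h f = f → ∀ w ∈ W, h w ∈ W := by
      intro h hh h1 h2 w hw
      have hp' : ∀ x y, QuadraticMap.polar Q (h x) (h y) = QuadraticMap.polar Q x y := fun x y => by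
        simp only [QuadraticMap.polar, ← map_add]; rw [hh, hh, hh]
      refine ⟨?_, ?_⟩ <;>
        rw [SetLike.mem_coe, LinearMap.mem_ker, QuadraticMap.polarBilin_apply_apply]
      · conv => lhs; arg 2; rw [← h1]
        rw [hp']; exact hw.1
      · conv => lhs; arg 2; rw [← h2]
        rw [hp']; exact hw.2
    have hinv : ∀ x, g₂ x = x → g₂⁻¹ x = x := fun x hx => by
      conv_lhs => rw [← hx]
      exact g₂.symm_apply_apply x
    let gW : W ≃ₗ[R] W :=
      { toFun := fun w => ⟨g₂ w, hgW g₂ hg₂O hg₂e hg₂f w w.2⟩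
        invFun := fun w => ⟨g₂⁻¹ (w : M), hgW g₂⁻¹ (inv_mem hg₂O) (hinv e hg₂e) (hinv f hg₂f) w w.2⟩
        map_add' := fun x y => Subtype.ext (by simp)
        map_smul' := fun c x => Subtype.ext (by simp)
        left_inv := fun w => Subtype.ext (g₂.symm_apply_apply _)
        right_inv := fun w => Subtype.ext (g₂.apply_symm_apply _) }
    have hgWmem := ih bW QW hQW gW fun w => hg₂O w
    let P : (W ≃ₗ[R] W) → Prop := fun h => ∃ h' ∈ reflSubgroup Q, h' e = e ∧ h' f = f ∧
      ∀ w : W, h' (w : M) = (h w : M)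
    have hP : P gW := by
      suffices hall : ∀ h ∈ reflSubgroup QW, P h from hall _ hgWmem
      intro h hh
      induction hh using Subgroup.closure_induction with
      | mem x hx =>
        obtain ⟨u, hu, rfl⟩ := hx
        have hu' : IsUnit (Q (u : M)) := hu
        refine ⟨QuadGrpLib.refl Q hu', Subgroup.subset_closure ⟨_, hu', rfl⟩,
          refl_apply_of_ortho Q hu' (by rw [QuadraticMap.polar_comm]; exact u.2.1),
          refl_apply_of_ortho Q hu' (by rw [QuadraticMap.polar_comm]; exact u.2.2), fun w => ?_⟩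
        rw [QuadGrpLib.refl_apply, QuadGrpLib.refl_apply]
        rfl
      | one => exact ⟨1, one_mem _, rfl, rfl, fun _ => rfl⟩
      | mul x y _ _ hx hy =>
        obtain ⟨x', h1, h2, h3, h4⟩ := hx
        obtain ⟨y', k1, k2, k3, k4⟩ := hy
        exact ⟨x' * y', mul_mem h1 k1, by rw [LinearEquiv.mul_apply, k2, h2],
          by rw [LinearEquiv.mul_apply, k3, h3], fun w => by
            rw [LinearEquiv.mul_apply, k4, h4]; rfl⟩
      | inv x _ hx =>
        obtain ⟨x', h1, h2, h3, h4⟩ := hx
        refine ⟨x'⁻¹, inv_mem h1, ?_, ?_, fun w => ?_⟩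
        · conv_lhs => rw [← h2]
          exact x'.symm_apply_apply e
        · conv_lhs => rw [← h3]
          exact x'.symm_apply_apply f
        · have := h4 (x⁻¹ w)
          rw [show x (x⁻¹ w) = w from x.apply_symm_apply w] at this
          conv_lhs => rw [← this]
          exact x'.symm_apply_apply _
    obtain ⟨h', hh', h1, h2, h3⟩ := hP
    have : g₂ = h' := LinearEquiv.ext fun y => by
      rw [hdec y]
      simp only [map_add, map_smul, h1, h2, hg₂e, hg₂f]
      exact congrArg _ (h3 ⟨p y, hp y⟩).symm
    rw [this]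
    exact hh'

end Groth.Agent.CliffRegLib
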