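import Groth.Agent.CliffRegLib.StructEven
import Groth.Agent.CliffRegLib.Reflections
import Groth.Agent.QuadGrpLib.Generic
import Mathlib.LinearAlgebra.Charpoly.BaseChange
import Mathlib.RingTheory.Localization.AtPrime.Basic
import Mathlib.RingTheory.Polynomial.Quotient

/-!
# The determinant of an isometry is given by its Dickson invariant
-/

set_option autoImplicit false
set_option backward.isDefEq.respectTransparency false

universe u v w

open CliffordAlgebra TensorProduct Polynomial

namespace Groth.Agent.CliffRegLib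

variable {R : Type u} [CommRing R] {M : Type v} [AddCommGroup M] [Module R M]

lemma isRegular_of_isUnit_det {n : ℕ} (b : Module.Basis (Fin n) R M) {Q : QuadraticForm R M}
    (h : IsUnit (QuadGrpLib.polarMat b Q).det) : QuadGrp.IsRegular Q := by
  classical
  set P := QuadGrpLib.polarMat b Q
  refine ⟨(injective_iff_map_eq_zero _).2 fun v hv => ?_, fun d => ?_⟩
  · have h0 : Matrix.vecMul (fun c => b.repr v c) P = 0 := funext fun j =>
      (QuadGrpLib.polar_eq_sum b Q v j).symm.trans (LinearMap.congr_fun hv (b j))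
    have h1 := congrArg (fun w => Matrix.vecMul w P⁻¹) h0
    simp only [Matrix.vecMul_vecMul, Matrix.mul_nonsing_inv _ h, Matrix.vecMul_one,
      Matrix.zero_vecMul] at h1
    exact b.ext_elem fun i => (congrFun h1 i).trans (by simp)
  · refine ⟨b.equivFun.symm (Matrix.vecMul (fun j => d (b j)) P⁻¹), b.ext fun j => ?_⟩
    rw [QuadraticMap.polarBilin_apply_apply, QuadGrpLib.polar_eq_sum b]
    have hr : ∀ (c : Fin n → R) k, b.repr (b.equivFun.symm c) k = c k := fun c k => by
      simp [Module.Basis.equivFun_symm_apply, Finsupp.single_apply]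
    simp only [hr]
    change Matrix.vecMul (Matrix.vecMul (fun j => d (b j)) P⁻¹) P j = _
    rw [Matrix.vecMul_vecMul, Matrix.nonsing_inv_mul _ h, Matrix.vecMul_one]

lemma form_ext_basis {n : ℕ} (b : Module.Basis (Fin n) R M) {Q₁ Q₂ : QuadraticForm R M}
    (h1 : ∀ i, Q₁ (b i) = Q₂ (b i))
    (h2 : ∀ i j, QuadraticMap.polar Q₁ (b i) (b j) = QuadraticMap.polar Q₂ (b i) (b j)) :
    Q₁ = Q₂ := by
  rw [← QuadraticMap.toQuadraticMap_toBilin Q₁ b, ← QuadraticMap.toQuadraticMap_toBilin Q₂ b]
  congr 1
  refine LinearMap.ext_basis b b fun i j => ?_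
  rw [QuadraticMap.toBilin_apply, QuadraticMap.toBilin_apply, h1, h2]

lemma fmap_refl_inv {Q : QuadraticForm R M} {u : M} (hu : IsUnit (Q u)) :
    (QuadGrpLib.refl Q hu)⁻¹ = QuadGrpLib.refl Q hu := Module.reflection_inv _

/-- Over a local ring with infinite residue field, the determinant is given by the Dickson invariant. -/
theorem det_eq_local [IsLocalRing R] [Infinite (IsLocalRing.ResidueField R)] {m : ℕ} (hm : 1 ≤ m)
    (b : Module.Basis (Fin (2 * m)) R M) {Q : QuadraticForm R M} (hQ : QuadGrp.IsRegular Q)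
    {z : CliffordAlgebra Q} {s t : R} (D : CentreDatum Q z s t) (g : M ≃ₗ[R] M)
    (hg : g ∈ QuadGrp.O Q) {ε : R}
    (hε : fmap g hg z = ε • z + (1 - ε) • (algebraMap R _ s - z)) :
    ((LinearEquiv.det g : Rˣ) : R) = 2 * ε - 1 := by
  classical
  haveI := Module.Free.of_basis b
  haveI := Module.Finite.of_basis b
  have hspan := span_range_eq_top b (by omega) hQ
  let P : (M ≃ₗ[R] M) → Prop := fun h => ∀ hh : h ∈ QuadGrp.O Q, ∃ ε : R,
    fmap h hh z = ε • z + (1 - ε) • (algebraMap R _ s - z) ∧
      ((LinearEquiv.det h : Rˣ) : R) = 2 * ε - 1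
  have hO : ∀ h ∈ reflSubgroup Q, h ∈ QuadGrp.O Q := fun h hh => by
    refine (Subgroup.closure_le (K := QuadGrp.O Q)).2 ?_ hh
    rintro _ ⟨u, hu, rfl⟩
    exact QuadGrpLib.refl_mem_O Q hu
  have hstep : ∀ (x : M) (hx : IsUnit (Q x)) (h : M ≃ₗ[R] M), h ∈ reflSubgroup Q → P h →
      P (QuadGrpLib.refl Q hx * h) := by
    intro x hx h hh hP hhh
    obtain ⟨ε', h1, h2⟩ := hP (hO h hh)
    refine ⟨1 - ε', ?_, ?_⟩
    · have hcomp : fmap (QuadGrpLib.refl Q hx * h) hhh =
          (fmap (QuadGrpLib.refl Q hx) (QuadGrpLib.refl_mem_O Q hx)).comp (fmap h (hO h hh)) :=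
        CliffordAlgebra.hom_ext (LinearMap.ext fun v => by simp)
      rw [hcomp, AlgHom.comp_apply, h1, map_add, map_smul, map_smul, map_sub, AlgHom.commutes,
        D.fmap_refl hx, sub_sub_cancel, sub_sub_cancel, add_comm]
    · rw [map_mul, Units.val_mul, h2, QuadGrpLib.det_refl, Units.val_neg, Units.val_one]
      ring
  have hall : ∀ h ∈ reflSubgroup Q, P h := by
    intro h hh
    induction hh using Subgroup.closure_induction_left with
    | one =>
      intro h1
      refine ⟨1, ?_, by simp; norm_num⟩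
      rw [show fmap (1 : M ≃ₗ[R] M) h1 = AlgHom.id R _ from
        CliffordAlgebra.hom_ext (LinearMap.ext fun v => by simp), AlgHom.id_apply, one_smul, sub_self,
        zero_smul, add_zero]
    | mul_left x hx y hy ih =>
      obtain ⟨u, hu, rfl⟩ := hx
      exact hstep u hu y hy ih
    | inv_mul_cancel x hx y hy ih =>
      obtain ⟨u, hu, rfl⟩ := hx
      rw [fmap_refl_inv]
      exact hstep u hu y hy ih
  obtain ⟨ε', h1, h2⟩ := hall g (mem_reflSubgroup m b Q hQ g hg) hg
  rw [h2, D.dickson_unique hspan b (h1.symm.trans hε)]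

/-- The scalar extension of an automorphism, in coordinates. -/
noncomputable def matEquiv {R' : Type u} [CommRing R'] {n : ℕ} (b : Module.Basis (Fin n) R M)
    (g : M ≃ₗ[R] M) (φ : R →+* R') : (Fin n → R') ≃ₗ[R'] (Fin n → R') :=
  Matrix.toLin'OfInv
    (M := (LinearMap.toMatrix b b g.symm.toLinearMap).map φ)
    (M' := (LinearMap.toMatrix b b g.toLinearMap).map φ)
    (by
      rw [← Matrix.map_mul, ← LinearMap.toMatrix_comp, show g.symm.toLinearMap ∘ₗ g.toLinearMap =
        LinearMap.id from LinearMap.ext g.symm_apply_apply, LinearMap.toMatrix_id,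
        Matrix.map_one φ (map_zero φ) (map_one φ)])
    (by
      rw [← Matrix.map_mul, ← LinearMap.toMatrix_comp, show g.toLinearMap ∘ₗ g.symm.toLinearMap =
        LinearMap.id from LinearMap.ext g.apply_symm_apply, LinearMap.toMatrix_id,
        Matrix.map_one φ (map_zero φ) (map_one φ)])

lemma matEquiv_apply {R' : Type u} [CommRing R'] [Algebra R R'] {n : ℕ}
    (b : Module.Basis (Fin n) R M) (g : M ≃ₗ[R] M) (v : M) :
    matEquiv b g (algebraMap R R')
        (((Algebra.linearMap R R').compLeft (Fin n) ∘ₗ (b.equivFun : M →ₗ[R] Fin n → R)) v) =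
      ((Algebra.linearMap R R').compLeft (Fin n) ∘ₗ (b.equivFun : M →ₗ[R] Fin n → R)) (g v) := by
  funext i
  have h := congrFun (LinearMap.toMatrix_mulVec_repr b b g.toLinearMap v) i
  rw [LinearEquiv.coe_coe] at h
  simp only [matEquiv, LinearMap.comp_apply, LinearEquiv.coe_coe, LinearMap.compLeft_apply,
    Function.comp_apply, Algebra.linearMap_apply, Module.Basis.equivFun_apply, ← h]
  rw [Matrix.mulVec, dotProduct, map_sum]
  simp [Matrix.toLin'OfInv, Matrix.mulVec, dotProduct]

/-- Transfer to a local algebra with infinite residue field. -/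
theorem det_eq_transfer {R' : Type u} [CommRing R'] [Algebra R R'] [IsLocalRing R']
    [Infinite (IsLocalRing.ResidueField R')] {M' : Type w} [AddCommGroup M'] [Module R' M']
    [Module R M'] [IsScalarTower R R' M'] {m : ℕ} (hm : 1 ≤ m)
    (b : Module.Basis (Fin (2 * m)) R M) (b' : Module.Basis (Fin (2 * m)) R' M')
    (e : M →ₗ[R] M') (hb : ∀ i, e (b i) = b' i)
    {Q : QuadraticForm R M} (hQ : QuadGrp.IsRegular Q) {Q' : QuadraticForm R' M'}
    (he : ∀ v, Q' (e v) = algebraMap R R' (Q v))
    {z : CliffordAlgebra Q} {s t : R} (D : CentreDatum Q z s t)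
    (g : M ≃ₗ[R] M) (hg : g ∈ QuadGrp.O Q) (g' : M' ≃ₗ[R'] M') (hgg : ∀ v, g' (e v) = e (g v))
    {ε : R} (hε : fmap g hg z = ε • z + (1 - ε) • (algebraMap R _ s - z)) :
    algebraMap R R' (((LinearEquiv.det g : Rˣ) : R) - (2 * ε - 1)) = 0 := by
  classical
  have hp : ∀ x y, QuadraticMap.polar Q' (e x) (e y) = algebraMap R R' (QuadraticMap.polar Q x y) :=
    fun x y => by simp only [QuadraticMap.polar, ← map_add e, he, map_sub]
  have hQ' : QuadGrp.IsRegular Q' := by
    refine isRegular_of_isUnit_det b' ?_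
    have : QuadGrpLib.polarMat b' Q' = (QuadGrpLib.polarMat b Q).map (algebraMap R R') := by
      ext i j
      rw [Matrix.map_apply, QuadGrpLib.polarMat, Matrix.of_apply, ← hb, ← hb, hp]
      rfl
    rw [this, ← RingHom.mapMatrix_apply, ← RingHom.map_det]
    exact (QuadGrpLib.isUnit_det_polarMat b hQ).map _
  have hg' : g' ∈ QuadGrp.O Q' := by
    have h : Q'.comp g'.toLinearMap = Q' := by
      refine form_ext_basis b' (fun i => ?_) fun i j => ?_
      · rw [QuadraticMap.comp_apply, ← hb, LinearEquiv.coe_coe, hgg, he, hg, he]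
      · rw [← hb, ← hb]
        simp only [QuadraticMap.polar, QuadraticMap.comp_apply, LinearEquiv.coe_coe]
        rw [← map_add e, hgg, hgg, hgg, he, he, he, he, he, he, hg, hg, hg]
    intro v
    exact DFunLike.congr_fun h v
  let φ := cmap (Q := Q) (Q' := Q') e he
  have D' : CentreDatum Q' (φ z) (algebraMap R R' s) (algebraMap R R' t) := by
    refine ⟨cmap_mem_evenOdd e he 0 D.even, anticomm_of_basis b' Q' _ _ fun i => ?_, ?_, ?_⟩
    · have := congrArg φ (D.rel (b i))
      rw [map_add, map_mul, map_mul, map_smul, cmap_ι, hb, ← algebraMap_smul R' s] at this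
      exact this
    · have := congrArg φ D.sq
      rw [map_mul, map_add, map_smul, AlgHom.commutes, ← algebraMap_smul R' s,
        IsScalarTower.algebraMap_apply R R'] at this
      exact this
    · simpa [map_add, map_mul, map_ofNat] using D.unit.map (algebraMap R R')
  have hε' : fmap g' hg' (φ z) = algebraMap R R' ε • φ z +
      (1 - algebraMap R R' ε) • (algebraMap R' _ (algebraMap R R' s) - φ z) := by
    have hnat : ((fmap g' hg').restrictScalars R).comp φ = φ.comp (fmap g hg) :=
      CliffordAlgebra.hom_ext (LinearMap.ext fun v => by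
        change fmap g' hg' (φ (ι Q v)) = φ (fmap g hg (ι Q v))
        simp only [φ, cmap_ι, fmap_ι, hgg])
    have := DFunLike.congr_fun hnat z
    simp only [AlgHom.comp_apply, AlgHom.coe_restrictScalars'] at this
    rw [this, hε, map_add, map_smul, map_smul, map_sub, AlgHom.commutes,
      ← IsScalarTower.algebraMap_apply R R', ← algebraMap_smul R' ε, ← algebraMap_smul R' (1 - ε),
      map_sub, map_one]
  have hdet := det_eq_local hm b' hQ' D' g' hg' hε'
  have hrepr : ∀ x i, b'.repr (e x) i = algebraMap R R' (b.repr x i) := fun x i => by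
    conv_lhs => rw [← b.sum_repr x]
    simp only [map_sum, map_smul, hb, ← algebraMap_smul R' (b.repr x _), Module.Basis.repr_self,
      Finsupp.coe_finsetSum, Finset.sum_apply, Finsupp.smul_apply]
    rw [Finset.sum_eq_single i]
    · simp
    · intro j _ hj; simp [Ne.symm hj]
    · simp
  have hmat : LinearMap.toMatrix b' b' g'.toLinearMap =
      (LinearMap.toMatrix b b g.toLinearMap).map (algebraMap R R') := by
    ext i j
    rw [LinearMap.toMatrix_apply, Matrix.map_apply, LinearMap.toMatrix_apply, LinearEquiv.coe_coe,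
      LinearEquiv.coe_coe, ← hb, hgg, hrepr]
  rw [LinearEquiv.coe_det, ← LinearMap.det_toMatrix b', hmat, ← RingHom.mapMatrix_apply,
    ← RingHom.map_det, LinearMap.det_toMatrix, ← LinearEquiv.coe_det] at hdet
  rw [map_sub, map_sub, map_mul, map_ofNat, map_one, sub_eq_zero]
  exact hdet

/-- The determinant of an isometry is `2ε - 1`, `ε` its Dickson invariant. -/
theorem det_eq {m : ℕ} (hm : 1 ≤ m) (b : Module.Basis (Fin (2 * m)) R M) {Q : QuadraticForm R M}
    (hQ : QuadGrp.IsRegular Q) {z : CliffordAlgebra Q} {s t : R} (D : CentreDatum Q z s t)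
    (g : M ≃ₗ[R] M) (hg : g ∈ QuadGrp.O Q) {ε : R}
    (hε : fmap g hg z = ε • z + (1 - ε) • (algebraMap R _ s - z)) :
    ((LinearEquiv.det g : Rˣ) : R) = 2 * ε - 1 := by
  classical
  haveI := Module.Free.of_basis b
  haveI := Module.Finite.of_basis b
  have hcoe : QuadGrp.coeffs b (LinearEquiv.refl R R) Q =
      QuadGrp.coeffs (Pi.basisFun R (Fin (2 * m))) (LinearEquiv.refl R R)
        (Q.comp (b.equivFun.symm : (Fin (2 * m) → R) →ₗ[R] M)) := by
    funext p
    induction p using Sym2.ind with
    | h i j =>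
      have hs : ∀ k, b.equivFun.symm (Pi.basisFun R (Fin (2 * m)) k) = b k := fun k => by simp
      simp only [QuadGrp.coeffs_mk, QuadraticMap.polar, QuadraticMap.comp_apply, LinearEquiv.coe_coe,
        map_add, hs]
  set δ : R := ((LinearEquiv.det g : Rˣ) : R) - (2 * ε - 1) with hδ
  by_contra hne
  let I : Ideal R := LinearMap.ker (LinearMap.toSpanSingleton R R δ)
  have hI : I ≠ ⊤ := fun h => hne (sub_eq_zero.1 (by
    have : (1 : R) ∈ I := h ▸ Submodule.mem_top
    simpa [I, hδ] using this))
  obtain ⟨p, hp, hle⟩ := Ideal.exists_le_maximal I hI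
  haveI := hp.isPrime
  let q : Ideal R[X] := p.map (C : R →+* R[X])
  haveI : q.IsPrime := Ideal.isPrime_map_C_of_isPrime
  let R' := Localization.AtPrime q
  haveI : Infinite (IsLocalRing.ResidueField R') := by
    refine Infinite.of_injective
      (fun i : ℕ => IsLocalRing.residue R' (algebraMap R[X] R' (X ^ i))) fun i j hij => ?_
    by_contra hne'
    have h : IsLocalRing.residue R' (algebraMap R[X] R' (X ^ i - X ^ j)) = 0 := by
      rw [map_sub, map_sub, sub_eq_zero]; exact hij
    rw [IsLocalRing.residue_eq_zero_iff, IsLocalization.AtPrime.to_map_mem_maximal_iff R' q,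
      Ideal.mem_map_C_iff] at h
    have := h i
    rw [coeff_sub, coeff_X_pow, coeff_X_pow, if_pos rfl, if_neg hne', sub_zero] at this
    exact hp.ne_top ((Ideal.eq_top_iff_one p).2 this)
  have hsingle : ∀ i, ((Algebra.linearMap R R').compLeft (Fin (2 * m)) ∘ₗ
      (b.equivFun : M →ₗ[R] Fin (2 * m) → R)) (b i) = Pi.basisFun R' (Fin (2 * m)) i := fun i => by
    have h : b.equivFun (b i) = Pi.basisFun R (Fin (2 * m)) i := by
      funext j; simp [Finsupp.single_apply, Pi.single_apply, eq_comm]
    rw [LinearMap.comp_apply, LinearEquiv.coe_coe, h]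
    exact compLeft_single i
  have hmapQ : ∀ v, qf (algebraMap R R' ∘ QuadGrp.coeffs b (LinearEquiv.refl R R) Q)
      (((Algebra.linearMap R R').compLeft (Fin (2 * m)) ∘ₗ
        (b.equivFun : M →ₗ[R] Fin (2 * m) → R)) v) = algebraMap R R' (Q v) := fun v => by
    rw [LinearMap.comp_apply, map_qf]
    congr 1
    rw [hcoe, qf_coeffs]
    simp
  have hzero : algebraMap R R' δ = 0 :=
    det_eq_transfer (R' := R') (M' := Fin (2 * m) → R') hm b (Pi.basisFun R' (Fin (2 * m)))
      ((Algebra.linearMap R R').compLeft (Fin (2 * m)) ∘ₗ (b.equivFun : M →ₗ[R] Fin (2 * m) → R))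
      hsingle hQ hmapQ
      D g hg (matEquiv b g (algebraMap R R')) (matEquiv_apply b g) hε
  rw [IsScalarTower.algebraMap_apply R R[X] R', IsLocalization.map_eq_zero_iff q.primeCompl] at hzero
  obtain ⟨⟨F, hF⟩, hF0⟩ := hzero
  refine hF (Ideal.mem_map_C_iff.2 fun i => hle ?_)
  have := congrArg (fun G => Polynomial.coeff G i) hF0
  simpa [I, Polynomial.coeff_mul_C, Polynomial.algebraMap_eq] using this

end Groth.Agent.CliffRegLib
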