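import Groth.Agent.CliffRegLib.DetDickson

/-!
# The Dickson condition and the determinant
-/

set_option autoImplicit false
set_option backward.isDefEq.respectTransparency false

universe u v

open CliffordAlgebra

namespace Groth.Agent.CliffRegLib

variable {R : Type u} [CommRing R] {M : Type v} [AddCommGroup M] [Module R M]

/-- The Dickson invariant `ε`, the determinant `2ε - 1`, and the Dickson condition `ε = 1`. -/
theorem exists_dickson_det [Nontrivial R] [Module.Free R M] [Module.Finite R M] {m : ℕ} (hm : 1 ≤ m)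
    (hM : Module.finrank R M = 2 * m) {Q : QuadraticForm R M} (hQ : QuadGrp.IsRegular Q)
    (g : M ≃ₗ[R] M) (hg : g ∈ QuadGrp.O Q) :
    ∃ ε : R, ε * ε = ε ∧ ((LinearEquiv.det g : Rˣ) : R) = 2 * ε - 1 ∧
      (QuadGrp.IsDicksonTrivial Q g hg ↔ ε = 1) := by
  let b := Module.finBasisOfFinrankEq R M hM
  have hspan := span_range_eq_top b (by omega) hQ
  obtain ⟨z, s, t, D⟩ := exists_centreDatum b hQ
  obtain ⟨ε, hε, hεz⟩ := D.exists_dickson g hg hspan b hQ
  refine ⟨ε, hε, det_eq hm b hQ D g hg hεz, ?_⟩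
  rw [D.dicksonTrivial_iff g hg hspan b hQ, hεz]
  refine ⟨fun h => D.dickson_unique hspan b (h.trans ?_), fun h => ?_⟩
  · rw [one_smul, sub_self, zero_smul, add_zero]
  · rw [h, one_smul, sub_self, zero_smul, add_zero]

lemma det_eq_one_of_subsingleton [Subsingleton R] (g : M ≃ₗ[R] M) : LinearEquiv.det g = 1 :=
  Units.ext (Subsingleton.elim _ _)

end Groth.Agent.CliffRegLib
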