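import Mathlib.RingTheory.Etale.StandardEtale
import Mathlib.RingTheory.AdjoinRoot
import Mathlib.RingTheory.Spectrum.Prime.FreeLocus
import Mathlib.RingTheory.TensorProduct.Free
import Mathlib.Algebra.Module.Projective
import Mathlib.RingTheory.Flat.Basic

/-!
# Quadratic algebras with unit discriminant
-/

set_option autoImplicit false
set_option backward.isDefEq.respectTransparency false

universe u v w

open Polynomial TensorProduct

namespace Groth.Agent.CliffRegLib

variable {A : Type u} [CommRing A] {Z : Type v} [CommRing Z] [Algebra A Z]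

/-- Hypotheses: `1, z` is a basis and `z² = s z + t` with `s² + 4t` a unit. -/
structure QuadGen (z : Z) (s t : A) : Prop where
  sq : z * z = s • z + algebraMap A Z t
  unit : IsUnit (s * s + 4 * t)
  span : ∀ x : Z, ∃ a c : A, x = a • z + algebraMap A Z c
  indep : ∀ a c : A, a • z + algebraMap A Z c = 0 → a = 0 ∧ c = 0

namespace QuadGen

variable {z : Z} {s t : A} (G : QuadGen z s t)
include G

/-- The basis `1, z`. -/
theorem nonempty_basis : Nonempty (Module.Basis (Fin 2) A Z) := by
  refine ⟨Module.Basis.mk (v := ![1, z]) ?_ ?_⟩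
  · refine LinearIndependent.pair_iff.2 fun a b h => ?_
    rw [← Algebra.algebraMap_eq_smul_one, add_comm] at h
    exact (G.indep b a h).symm
  · rintro x -
    obtain ⟨a, c, rfl⟩ := G.span x
    refine Submodule.add_mem _ (Submodule.smul_mem _ _ (Submodule.subset_span ⟨1, rfl⟩)) ?_
    rw [Algebra.algebraMap_eq_smul_one]
    exact Submodule.smul_mem _ _ (Submodule.subset_span ⟨0, rfl⟩)

theorem finite : Module.Finite A Z := Module.Finite.of_basis G.nonempty_basis.some

theorem projective : Module.Projective A Z := Module.Projective.of_basis G.nonempty_basis.some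

theorem rankAtStalk_eq (p : PrimeSpectrum A) : Module.rankAtStalk Z p = 2 := by
  haveI : Nontrivial A := PrimeSpectrum.nonempty_iff_nontrivial.1 ⟨p⟩
  haveI := G.finite
  haveI := Module.Free.of_basis G.nonempty_basis.some
  rw [Module.rankAtStalk_eq_finrank_of_free]
  exact (Module.finrank_eq_card_basis G.nonempty_basis.some).trans (Fintype.card_fin 2)

theorem etale : Algebra.Etale A Z := by
  rcases subsingleton_or_nontrivial A with hA | hA
  · haveI : Subsingleton Z := Module.subsingleton A Z
    exact Algebra.Etale.of_equiv (AlgEquiv.ofBijective (Algebra.ofId A Z)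
      ⟨fun _ _ _ => Subsingleton.elim _ _, fun x => ⟨0, Subsingleton.elim _ _⟩⟩)
  obtain ⟨d, hd⟩ := G.unit
  let f : A[X] := X ^ 2 - (C s * X + C t)
  have hdeg : (C s * X + C t).degree < (X ^ 2 : A[X]).degree := by
    rw [degree_X_pow]
    exact lt_of_le_of_lt degree_linear_le (by norm_num)
  have hmonic : f.Monic := monic_X_pow_sub (lt_of_le_of_lt degree_linear_le (by norm_num))
  have hfd : f.natDegree = 2 := by
    have : f.degree = 2 := (degree_sub_eq_left_of_degree_lt hdeg).trans (degree_X_pow 2)
    exact natDegree_eq_of_degree_eq_some this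
  let P : StandardEtalePair A :=
    { f := f
      monic_f := hmonic
      g := 1
      cond := ⟨C ↑d⁻¹ * (2 * X - C s), -(4 * C ↑d⁻¹), 0, by
        have h : (C (↑d⁻¹ : A) : A[X]) * (C s * C s + 4 * C t) = 1 := by
          rw [← C_ofNat, ← C_mul, ← C_mul, ← C_add, ← C_mul, ← hd, Units.inv_mul, C_1]
        simp only [f, derivative_sub, derivative_add, derivative_mul, derivative_C, derivative_X,
          derivative_X_pow, Nat.cast_ofNat, pow_one, zero_mul, zero_add, mul_one, add_zero, pow_zero,
          Nat.add_one_sub_one, map_ofNat]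
        linear_combination h⟩ }
  haveI : IsLocalization.Away (1 : AdjoinRoot P.f) (Localization.Away (AdjoinRoot.mk P.f P.g)) := by
    have : AdjoinRoot.mk P.f P.g = (1 : AdjoinRoot P.f) := map_one _
    rw [this]; infer_instance
  haveI : Algebra.Etale A (AdjoinRoot f) := Algebra.Etale.of_equiv (P.equivAwayAdjoinRoot.trans
    ((IsLocalization.atOne (AdjoinRoot P.f)
      (Localization.Away (AdjoinRoot.mk P.f P.g))).symm.restrictScalars A))
  have hz : f.eval₂ (Algebra.ofId A Z) z = 0 := by
    simp only [f, eval₂_sub, eval₂_add, eval₂_mul, eval₂_pow, eval₂_C, eval₂_X]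
    rw [pow_two, G.sq, Algebra.smul_def]
    exact sub_self _
  let φ : AdjoinRoot f →ₐ[A] Z := AdjoinRoot.liftAlgHom f (Algebra.ofId A Z) z hz
  have hroot : φ (AdjoinRoot.root f) = z := AdjoinRoot.liftAlgHom_root _ _ _ hz
  have hsurj : Function.Surjective φ := fun x => by
    obtain ⟨a, c, rfl⟩ := G.span x
    exact ⟨a • AdjoinRoot.root f + algebraMap A _ c, by
      rw [map_add, map_smul, hroot, AlgHom.commutes]⟩
  have hinj : Function.Injective φ := by
    refine (injective_iff_map_eq_zero _).2 fun x hx => ?_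
    obtain ⟨q, rfl⟩ := AdjoinRoot.mk_surjective x
    rw [← AdjoinRoot.mk_eq_mk.2 (show f ∣ q %ₘ f - q from ⟨-(q /ₘ f), by
      linear_combination modByMonic_add_div q f⟩)] at hx ⊢
    have hlt : (q %ₘ f).degree ≤ 1 := by
      have := natDegree_modByMonic_lt q hmonic (fun h => by rw [h] at hfd; simp at hfd)
      rw [hfd] at this
      exact degree_le_of_natDegree_le (Nat.lt_succ_iff.1 this)
    rw [eq_X_add_C_of_degree_le_one hlt] at hx ⊢
    rw [map_add, map_mul, AdjoinRoot.mk_C, AdjoinRoot.mk_X, AdjoinRoot.mk_C,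
      ← AdjoinRoot.algebraMap_eq, map_add, map_mul, hroot, AlgHom.commutes, AlgHom.commutes,
      ← Algebra.smul_def] at hx
    obtain ⟨h1, h0⟩ := G.indep _ _ hx
    rw [h1, h0, map_zero, zero_mul, add_zero, map_zero]
  exact Algebra.Etale.of_equiv (AlgEquiv.ofBijective φ ⟨hinj, hsurj⟩)

/-- The separability idempotent. -/
theorem exists_sep : ∃ e : Z ⊗[A] Z,
    (∀ c : Z, (c ⊗ₜ[A] (1 : Z)) * e = ((1 : Z) ⊗ₜ[A] c) * e) ∧ LinearMap.mul' A Z e = 1 := by
  obtain ⟨d, hd⟩ := G.unit
  refine ⟨(↑d⁻¹ : A) • ((s * s + 2 * t) • ((1 : Z) ⊗ₜ[A] (1 : Z)) -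
    s • ((1 : Z) ⊗ₜ[A] z + z ⊗ₜ[A] (1 : Z)) + (2 : A) • (z ⊗ₜ[A] z)), fun c => ?_, ?_⟩
  · obtain ⟨a, b, rfl⟩ := G.span c
    simp only [Algebra.algebraMap_eq_smul_one, TensorProduct.add_tmul, TensorProduct.tmul_add,
      TensorProduct.smul_tmul', TensorProduct.tmul_smul, add_mul, smul_mul_assoc, mul_smul_comm,
      mul_add, mul_sub, Algebra.TensorProduct.tmul_mul_tmul, one_mul, mul_one, G.sq,
      ← TensorProduct.smul_tmul', smul_smul, smul_add, smul_sub]
    module
  · simp only [map_add, map_sub, map_smul, LinearMap.mul'_apply, mul_one, one_mul, G.sq,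
      Algebra.algebraMap_eq_smul_one]
    have h : (↑d⁻¹ : A) * (s * s + 4 * t) = 1 := by rw [← hd, Units.inv_mul]
    refine Eq.trans ?_ ((congrArg (fun a => a • (1 : Z)) h).trans (one_smul A 1))
    module

/-- A `Z`-module which is projective over `A` is projective over `Z`. -/
theorem projective_of_projective (N : Type w) [AddCommGroup N] [Module A N] [Module Z N]
    [IsScalarTower A Z N] [Module.Projective A N] : Module.Projective Z N := by
  obtain ⟨e, he, he1⟩ := G.exists_sep
  let Φ : N → Z ⊗[A] Z →ₗ[A] Z ⊗[A] N := fun n =>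
    LinearMap.lTensor Z ((LinearMap.toSpanSingleton Z N n).restrictScalars A)
  have hsmul : ∀ (c : Z) n (x : Z ⊗[A] Z), Φ n ((c ⊗ₜ[A] (1 : Z)) * x) = c • Φ n x := by
    intro c n x
    induction x using TensorProduct.induction_on with
    | zero => simp
    | tmul p q => simp [Φ, TensorProduct.smul_tmul']
    | add p q hp hq => rw [mul_add, map_add, map_add, hp, hq, smul_add]
  have hin : ∀ (c : Z) n (x : Z ⊗[A] Z), Φ n (((1 : Z) ⊗ₜ[A] c) * x) = Φ (c • n) x := by
    intro c n x
    induction x using TensorProduct.induction_on with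
    | zero => simp
    | tmul p q => simp [Φ, smul_smul, mul_comm]
    | add p q hp hq => rw [mul_add, map_add, map_add, hp, hq]
  have hadd : ∀ n n' (x : Z ⊗[A] Z), Φ (n + n') x = Φ n x + Φ n' x := by
    intro n n' x
    induction x using TensorProduct.induction_on with
    | zero => simp
    | tmul p q => simp [Φ, TensorProduct.tmul_add]
    | add p q hp hq => rw [map_add, map_add, map_add, hp, hq]; abel
  let σ : N →ₗ[Z] Z ⊗[A] N :=
    { toFun := fun n => Φ n e
      map_add' := fun n n' => hadd n n' e
      map_smul' := fun c n => by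
        change Φ (c • n) e = c • Φ n e
        rw [← hin, ← he, hsmul] }
  let μ : Z ⊗[A] N →ₗ[Z] N := LinearMap.liftBaseChange Z (LinearMap.id : N →ₗ[A] N)
  have hμ : ∀ n (x : Z ⊗[A] Z), μ (Φ n x) = LinearMap.mul' A Z x • n := by
    intro n x
    induction x using TensorProduct.induction_on with
    | zero => simp
    | tmul p q => simp [Φ, μ, smul_smul]
    | add p q hp hq => rw [map_add, map_add, map_add, hp, hq, add_smul]
  exact Module.Projective.of_split σ μ (LinearMap.ext fun n => by
    change μ (Φ n e) = n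
    rw [hμ, he1, one_smul])

end QuadGen

end Groth.Agent.CliffRegLib
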