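import Mathlib.Algebra.Azumaya.Defs
import Mathlib.RingTheory.TensorProduct.Maps
import Mathlib.RingTheory.Finiteness.Basic
import Mathlib.LinearAlgebra.FreeModule.Finite.Basic
import Mathlib.LinearAlgebra.TensorProduct.Basis
import Mathlib.RingTheory.Nakayama
import Mathlib.RingTheory.LocalRing.Basic
import Mathlib.RingTheory.LocalRing.MaximalIdeal.Basic
import Mathlib.RingTheory.Jacobson.Ideal
import Mathlib.RingTheory.FiniteType
import Mathlib.LinearAlgebra.Matrix.ToLin

/-!
# Automorphisms of a free algebra whose two-sided multiplications give all endomorphisms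
-/

set_option autoImplicit false
set_option backward.isDefEq.respectTransparency false

universe u v

open TensorProduct MulOpposite

namespace Groth.Agent.CliffRegLib

variable {R : Type u} [CommRing R] {A : Type v} [Ring A] [Algebra R A]

/-- Surjectivity of the sandwich map implies bijectivity, for a finite free algebra. -/
theorem bijective_mulLeftRight {ι : Type*} [Fintype ι] [DecidableEq ι] (b : Module.Basis ι R A)
    (h : Function.Surjective (AlgHom.mulLeftRight R A)) :
    Function.Bijective (AlgHom.mulLeftRight R A) := by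
  refine ⟨?_, h⟩
  let e : (A ⊗[R] Aᵐᵒᵖ) ≃ₗ[R] Module.End R A :=
    (b.tensorProduct (b.map (opLinearEquiv R))).equiv b.end (Equiv.refl _)
  haveI : Module.Finite R (A ⊗[R] Aᵐᵒᵖ) :=
    Module.Finite.of_basis (b.tensorProduct (b.map (opLinearEquiv R)))
  have := OrzechProperty.injective_of_surjective_endomorphism
    (e.symm.toLinearMap ∘ₗ (AlgHom.mulLeftRight R A).toLinearMap) (e.symm.surjective.comp h)
  exact (e.symm.injective.of_comp_iff _).1 this

/-- The twist of the sandwich map by an endomorphism of the algebra. -/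
noncomputable def twist (σ : A →ₐ[R] A) : A ⊗[R] Aᵐᵒᵖ →ₐ[R] A ⊗[R] Aᵐᵒᵖ :=
  Algebra.TensorProduct.map σ (AlgHom.id R Aᵐᵒᵖ)

/-- Skolem–Noether over a local ring. -/
theorem exists_unit_intertwiner [IsLocalRing R] {ι : Type*} [Fintype ι] [DecidableEq ι]
    (b : Module.Basis ι R A) (hsurj : Function.Surjective (AlgHom.mulLeftRight R A))
    (π : A →ₗ[R] R) (hπ : π 1 = 1) (σ : A ≃ₐ[R] A) :
    ∃ u : Aˣ, ∀ a, σ a * (u : A) = (u : A) * a := by
  classical
  haveI := Module.Finite.of_basis b
  have hinj := (bijective_mulLeftRight b hsurj).1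
  obtain ⟨e, he⟩ := hsurj (π.smulRight 1)
  have hcomm : ∀ a : A, (a ⊗ₜ[R] (1 : Aᵐᵒᵖ)) * e = ((1 : A) ⊗ₜ[R] op a) * e := by
    intro a
    apply hinj
    ext y
    rw [map_mul, map_mul, Module.End.mul_apply, Module.End.mul_apply, AlgHom.mulLeftRight_apply,
      AlgHom.mulLeftRight_apply, he, LinearMap.smulRight_apply, one_mul, unop_one, mul_one, unop_op,
      mul_smul_comm, smul_mul_assoc, mul_one, one_mul]
  let P : Module.End R A := AlgHom.mulLeftRight R A (twist σ.toAlgHom e)
  have hP1 : ∀ a x, σ a * P x = P x * a := by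
    intro a x
    have h := congrArg (fun t => AlgHom.mulLeftRight R A (twist σ.toAlgHom t) x) (hcomm a)
    simp only [map_mul, Module.End.mul_apply, twist, Algebra.TensorProduct.map_tmul, map_one,
      AlgHom.coe_id, id_eq, AlgHom.mulLeftRight_apply, AlgEquiv.toAlgHom_eq_coe, AlgHom.coe_coe,
      unop_one, mul_one, unop_op, one_mul] at h
    exact h
  have hP2 : ∀ x, (∀ a, σ a * x = x * a) → P x = x := by
    intro x hx
    have h : ∀ t, AlgHom.mulLeftRight R A (twist σ.toAlgHom t) x =
        x * AlgHom.mulLeftRight R A t 1 := by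
      intro t
      induction t using TensorProduct.induction_on with
      | zero => simp
      | tmul c d =>
        simp only [twist, Algebra.TensorProduct.map_tmul, AlgHom.coe_id, id_eq,
          AlgHom.mulLeftRight_apply, AlgEquiv.toAlgHom_eq_coe, AlgHom.coe_coe, mul_one]
        change σ c * x * d.unop = x * (c * d.unop)
        rw [hx, mul_assoc]
      | add p q hp hq => rw [map_add, map_add, LinearMap.add_apply, hp, hq, map_add,
          LinearMap.add_apply, mul_add]
    change AlgHom.mulLeftRight R A (twist σ.toAlgHom e) x = x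
    rw [h, he, LinearMap.smulRight_apply, hπ, one_smul, mul_one]
  have hP0 : P ≠ 0 := by
    intro h
    have hback : twist σ.symm.toAlgHom (twist σ.toAlgHom e) = e := by
      have hc : (twist (R := R) σ.symm.toAlgHom).comp (twist σ.toAlgHom) = AlgHom.id R _ :=
        Algebra.TensorProduct.ext' fun c d => by simp [twist]
      exact DFunLike.congr_fun hc e
    have h0 : twist σ.toAlgHom e = 0 := hinj (h.trans (map_zero _).symm)
    rw [h0, map_zero] at hback
    have h1 : (π.smulRight (1 : A)) 1 = 0 := by rw [← he, ← hback, map_zero, LinearMap.zero_apply]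
    rw [LinearMap.smulRight_apply, hπ, one_smul] at h1
    have := congrArg π h1
    rw [hπ, map_zero] at this
    exact one_ne_zero this
  obtain ⟨j, x, hu⟩ : ∃ j x, IsUnit (b.repr (P x) j) := by
    by_contra hne
    push Not at hne
    refine hP0 (LinearMap.range_eq_bot.1 (Submodule.eq_bot_of_le_smul_of_le_jacobson_bot
      (IsLocalRing.maximalIdeal R) (LinearMap.range P) (Module.Finite.fg_top.map P |> fun h => by
        rwa [Submodule.map_top] at h) ?_ (IsLocalRing.maximalIdeal_le_jacobson ⊥)))
    rintro _ ⟨x, rfl⟩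
    rw [← hP2 (P x) (fun a => hP1 a x), ← b.sum_repr (P x), map_sum]
    refine Submodule.sum_mem _ fun j _ => ?_
    rw [map_smul]
    exact Submodule.smul_mem_smul ((IsLocalRing.mem_maximalIdeal _).2 (hne j x))
      (LinearMap.mem_range_self _ _)
  set y := P x with hy
  have hy1 : ∀ a, σ a * y = y * a := fun a => hP1 a x
  obtain ⟨t, ht⟩ := hsurj ((b.coord j).smulRight 1)
  have hright : ∀ t, ∃ z, AlgHom.mulLeftRight R A t y = y * z := by
    intro t
    induction t using TensorProduct.induction_on with
    | zero => exact ⟨0, by simp⟩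
    | tmul c d =>
      exact ⟨σ.symm c * d.unop, by
        rw [AlgHom.mulLeftRight_apply, ← mul_assoc, ← hy1, AlgEquiv.apply_symm_apply]⟩
    | add p q hp hq =>
      obtain ⟨z, hz⟩ := hp
      obtain ⟨z', hz'⟩ := hq
      exact ⟨z + z', by rw [map_add, LinearMap.add_apply, hz, hz', mul_add]⟩
  obtain ⟨z, hz⟩ := hright t
  rw [ht, LinearMap.smulRight_apply, Module.Basis.coord_apply] at hz
  obtain ⟨r, hr⟩ := hu
  have hyz : y * ((↑r⁻¹ : R) • z) = 1 := by
    rw [mul_smul_comm, ← hz, smul_smul, ← hr, Units.inv_mul, one_smul]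
  have hzy : ((↑r⁻¹ : R) • z) * y = 1 := by
    have hs : Function.Surjective (LinearMap.mulLeft R y) := fun a =>
      ⟨((↑r⁻¹ : R) • z) * a, by rw [LinearMap.mulLeft_apply, ← mul_assoc, hyz, one_mul]⟩
    refine OrzechProperty.injective_of_surjective_endomorphism _ hs ?_
    rw [LinearMap.mulLeft_apply, LinearMap.mulLeft_apply, ← mul_assoc, hyz, one_mul, mul_one]
  exact ⟨⟨y, _, hyz, hzy⟩, hy1⟩

end Groth.Agent.CliffRegLib
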