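import Groth.Agent.CliffRegLib.Azumaya
import Groth.Agent.CliffRegLib.SkolemLocal
import Groth.Agent.CliffRegLib.SeparableQuad
import Mathlib.LinearAlgebra.CliffordAlgebra.Even
import Mathlib.Algebra.Algebra.Opposite

/-!
# The even Clifford algebra is Azumaya over its centre
-/

set_option autoImplicit false
set_option backward.isDefEq.respectTransparency false

universe u v

open CliffordAlgebra TensorProduct MulOpposite

namespace Groth.Agent.CliffRegLib

variable {R : Type u} [CommRing R] {M : Type v} [AddCommGroup M] [Module R M] {n : ℕ}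
  (Q : QuadraticForm R M)

/-- The centre of the even part. -/
abbrev EvenZ : Type (max u v) := ↥(Subalgebra.center R ↥(CliffordAlgebra.even Q))

/-- The even part as an algebra over its centre. -/
noncomputable abbrev evenZAlgebra : Algebra (EvenZ Q) ↥(CliffordAlgebra.even Q) :=
  (Subalgebra.center R ↥(CliffordAlgebra.even Q)).val.toRingHom.toAlgebra'
    (fun c x => (Subalgebra.mem_center_iff.mp c.2 x).symm)

attribute [local instance] evenZAlgebra

instance : IsScalarTower R (EvenZ Q) ↥(CliffordAlgebra.even Q) :=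
  IsScalarTower.of_algebraMap_eq fun _ => rfl

lemma smul_coe (c : EvenZ Q) (x : ↥(CliffordAlgebra.even Q)) :
    ((c • x : ↥(CliffordAlgebra.even Q)) : CliffordAlgebra Q) =
      ((c : ↥(CliffordAlgebra.even Q)) : CliffordAlgebra Q) * (x : CliffordAlgebra Q) := rfl

/-- The inclusion of the centre of the even part. -/
noncomputable def jZ : EvenZ Q →ₐ[R] CliffordAlgebra Q :=
  (CliffordAlgebra.even Q).val.comp (Subalgebra.center R ↥(CliffordAlgebra.even Q)).val

/-- The projection onto the even part. -/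
noncomputable def p0 : CliffordAlgebra Q →ₗ[R] ↥(CliffordAlgebra.even Q) :=
  Submodule.projectionOnto (evenOdd Q 0) (evenOdd Q 1) (evenOdd_isCompl (Q := Q))

lemma p0_even (x : ↥(CliffordAlgebra.even Q)) : p0 Q (x : CliffordAlgebra Q) = x :=
  Submodule.projectionOnto_apply_of_mem_left (evenOdd_isCompl (Q := Q)) x.2

lemma p0_odd {x : CliffordAlgebra Q} (hx : x ∈ evenOdd Q 1) : p0 Q x = 0 :=
  Submodule.projectionOnto_apply_of_mem_right (evenOdd_isCompl (Q := Q)) hx

lemma exists_parts (a : CliffordAlgebra Q) :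
    ∃ (a₀ : ↥(CliffordAlgebra.even Q)) (a₁ : CliffordAlgebra Q),
      a₁ ∈ evenOdd Q 1 ∧ a = (a₀ : CliffordAlgebra Q) + a₁ := by
  obtain ⟨x₀, hx₀, x₁, hx₁, rfl⟩ := Submodule.mem_sup.1
    ((evenOdd_isCompl (Q := Q)).sup_eq_top.symm ▸ Submodule.mem_top : a ∈ evenOdd Q 0 ⊔ evenOdd Q 1)
  exact ⟨⟨x₀, hx₀⟩, x₁, hx₁, rfl⟩

lemma mul_mem_odd {x y : CliffordAlgebra Q} (hx : x ∈ evenOdd Q 1) (hy : y ∈ evenOdd Q 0) :
    x * y ∈ evenOdd Q 1 := by simpa using SetLike.mul_mem_graded hx hy

lemma mul_mem_odd' {x y : CliffordAlgebra Q} (hx : x ∈ evenOdd Q 0) (hy : y ∈ evenOdd Q 1) :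
    x * y ∈ evenOdd Q 1 := by simpa using SetLike.mul_mem_graded hx hy

lemma mul_mem_even {x y : CliffordAlgebra Q} (hx : x ∈ evenOdd Q 1) (hy : y ∈ evenOdd Q 1) :
    x * y ∈ evenOdd Q 0 := by
  have h := SetLike.mul_mem_graded hx hy
  rwa [show (1 : ZMod 2) + 1 = 0 from by decide] at h

lemma even_projective (b : Module.Basis (Fin n) R M) : Module.Projective R ↥(CliffordAlgebra.even Q) := by
  haveI : Module.Projective R (CliffordAlgebra Q) := Module.Projective.of_basis (cbasis b Q)
  exact Module.Projective.of_split (CliffordAlgebra.even Q).val.toLinearMap (p0 Q)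
    (LinearMap.ext fun x => p0_even Q x)

lemma even_finite (b : Module.Basis (Fin n) R M) : Module.Finite R ↥(CliffordAlgebra.even Q) := by
  haveI : Module.Finite R (CliffordAlgebra Q) := Module.Finite.of_basis (cbasis b Q)
  exact Module.Finite.of_surjective (p0 Q) fun x => ⟨x, p0_even Q x⟩

/-- Scalar-free sandwich map on the even part. -/
noncomputable def psiMap :
    CliffordAlgebra Q ⊗[R] (CliffordAlgebra Q)ᵐᵒᵖ →ₗ[R]
      ↥(CliffordAlgebra.even Q) ⊗[EvenZ Q] (↥(CliffordAlgebra.even Q))ᵐᵒᵖ :=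
  TensorProduct.lift
    (LinearMap.mk₂ R (fun a b => p0 Q a ⊗ₜ[EvenZ Q] op (p0 Q b.unop))
      (fun a a' b => by rw [map_add, TensorProduct.add_tmul])
      (fun r a b => by rw [map_smul, TensorProduct.smul_tmul'])
      (fun a b b' => by rw [unop_add, map_add, op_add, TensorProduct.tmul_add])
      (fun r a b => by rw [unop_smul, map_smul, op_smul, TensorProduct.tmul_smul]))

@[simp] lemma psiMap_tmul (a b : CliffordAlgebra Q) :
    psiMap Q (a ⊗ₜ[R] op b) = p0 Q a ⊗ₜ[EvenZ Q] op (p0 Q b) := rfl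

namespace CentreDatum

variable {Q} {z : CliffordAlgebra Q} {s t : R} (D : CentreDatum Q z s t)
include D

lemma z_central : (⟨z, D.even⟩ : ↥(CliffordAlgebra.even Q)) ∈
    Subalgebra.center R ↥(CliffordAlgebra.even Q) :=
  Subalgebra.mem_center_iff.2 fun y => Subtype.ext (D.commute_even y.2).symm

/-- `z` as an element of the centre of the even part. -/
def zZ : EvenZ Q := ⟨⟨z, D.even⟩, D.z_central⟩

theorem quadGen (hspan : Ideal.span (Set.range Q) = ⊤) (b : Module.Basis (Fin n) R M)
    (hQ : QuadGrp.IsRegular Q) : QuadGen D.zZ s t where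
  sq := Subtype.ext (Subtype.ext D.sq)
  unit := D.unit
  span x := by
    obtain ⟨a, c, hac⟩ := D.centre_even hspan b hQ x.1.2 fun y hy =>
      congrArg Subtype.val (Subalgebra.mem_center_iff.1 x.2 ⟨y, hy⟩)
    exact ⟨a, c, Subtype.ext (Subtype.ext hac)⟩
  indep a c h := D.eq_zero_of_smul_z hspan b (congrArg (fun x : EvenZ Q => x.1.1) h)

lemma anti_odd {x : CliffordAlgebra Q} (hx : x ∈ evenOdd Q 1) (h : z * x = x * z) : x = 0 := by
  refine D.eq_zero_of_anticomm ?_
  rw [D.odd_mul hx, sub_mul] at h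
  rw [sub_mul, smul_mul_assoc, two_smul]
  nth_rewrite 1 [h]
  abel

theorem mulLeftRight_even_surjective (b : Module.Basis (Fin n) R M) (hQ : QuadGrp.IsRegular Q) :
    Function.Surjective (AlgHom.mulLeftRight (EvenZ Q) ↥(CliffordAlgebra.even Q)) := by
  intro f
  obtain ⟨u, hu⟩ := D.mulLeftRight_surjective b hQ
    ((CliffordAlgebra.even Q).val.toLinearMap ∘ₗ (f.restrictScalars R) ∘ₗ p0 Q)
  let zz : ↥(CliffordAlgebra.even Q) := ⟨z, D.even⟩
  let G : CliffordAlgebra Q ⊗[R] (CliffordAlgebra Q)ᵐᵒᵖ → ↥(CliffordAlgebra.even Q) →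
      CliffordAlgebra Q := fun u x =>
    (p0 Q (AlgHom.mulLeftRight R _ u (x : CliffordAlgebra Q)) : CliffordAlgebra Q) -
      (AlgHom.mulLeftRight (EvenZ Q) _ (psiMap Q u) x : CliffordAlgebra Q)
  have hG : ∀ u x, G u (zz * x) = (algebraMap R _ s - z) * G u x := by
    intro u x
    induction u using TensorProduct.induction_on with
    | zero => simp [G]
    | tmul a b' =>
      obtain ⟨c, rfl⟩ := op_surjective b'
      obtain ⟨a₀, a₁, ha, rfl⟩ := exists_parts Q a
      obtain ⟨c₀, c₁, hc, rfl⟩ := exists_parts Q c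
      have key : ∀ y : ↥(CliffordAlgebra.even Q),
          G (((a₀ : CliffordAlgebra Q) + a₁) ⊗ₜ[R] op ((c₀ : CliffordAlgebra Q) + c₁)) y =
            a₁ * (y : CliffordAlgebra Q) * c₁ := by
        intro y
        have e1 : a₁ * (y : CliffordAlgebra Q) * (c₀ : CliffordAlgebra Q) ∈ evenOdd Q 1 :=
          mul_mem_odd Q (mul_mem_odd Q ha y.2) c₀.2
        have e2 : (a₀ : CliffordAlgebra Q) * (y : CliffordAlgebra Q) * c₁ ∈ evenOdd Q 1 :=
          mul_mem_odd' Q (a₀ * y).2 hc
        have e3 : a₁ * (y : CliffordAlgebra Q) * c₁ ∈ evenOdd Q 0 :=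
          mul_mem_even Q (mul_mem_odd Q ha y.2) hc
        simp only [G, AlgHom.mulLeftRight_apply, unop_op, psiMap_tmul, add_mul, mul_add, map_add,
          p0_even, p0_odd Q ha, p0_odd Q hc, add_zero, p0_odd Q e1, p0_odd Q e2, zero_add]
        rw [show p0 Q ((a₀ : CliffordAlgebra Q) * (y : CliffordAlgebra Q) * (c₀ : CliffordAlgebra Q)) =
            a₀ * y * c₀ from p0_even Q (a₀ * y * c₀),
          show p0 Q (a₁ * (y : CliffordAlgebra Q) * c₁) = ⟨_, e3⟩ from p0_even Q ⟨_, e3⟩]
        simp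
      rw [key, key]
      change a₁ * (z * (x : CliffordAlgebra Q)) * c₁ = _
      rw [← mul_assoc, D.odd_mul ha]
      simp only [mul_assoc]
    | add p q hp hq =>
      have : ∀ y, G (p + q) y = G p y + G q y := fun y => by
        simp only [G, map_add, LinearMap.add_apply, Submodule.coe_add, Subalgebra.coe_add]
        abel
      rw [this, this, hp, hq, mul_add]
  refine ⟨psiMap Q u, LinearMap.ext fun x => Subtype.ext ?_⟩
  have hGu : ∀ y, G u y = (f y : CliffordAlgebra Q) -
      (AlgHom.mulLeftRight (EvenZ Q) _ (psiMap Q u) y : CliffordAlgebra Q) := fun y => by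
    simp only [G, hu]
    change ((p0 Q ((f (p0 Q (y : CliffordAlgebra Q)) : ↥(CliffordAlgebra.even Q)) :
      CliffordAlgebra Q) : ↥(CliffordAlgebra.even Q)) : CliffordAlgebra Q) - _ = _
    rw [p0_even, p0_even]
  have h := hG u x
  have hz1 : ∀ g : Module.End (EvenZ Q) ↥(CliffordAlgebra.even Q),
      (g (zz * x) : CliffordAlgebra Q) = z * (g x : CliffordAlgebra Q) := fun g => by
    rw [show zz * x = D.zZ • x from rfl, map_smul]
    rfl
  rw [hGu, hGu, hz1, hz1, ← mul_sub] at h
  refine (sub_eq_zero.1 (D.eq_zero_of_anticomm ?_)).symm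
  rw [sub_mul, smul_mul_assoc, two_smul]
  rw [sub_mul] at h
  nth_rewrite 1 [h]
  abel

theorem mulLeftRight_even_injective (hspan : Ideal.span (Set.range Q) = ⊤)
    (b : Module.Basis (Fin n) R M) (hQ : QuadGrp.IsRegular Q) :
    Function.Injective (AlgHom.mulLeftRight (EvenZ Q) ↥(CliffordAlgebra.even Q)) := by
  classical
  have hCinj := (bijective_mulLeftRight (cbasis b Q) (D.mulLeftRight_surjective b hQ)).1
  obtain ⟨e, he, he1⟩ := (D.quadGen hspan b hQ).exists_sep
  let jop : EvenZ Q →ₐ[R] (CliffordAlgebra Q)ᵐᵒᵖ :=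
    (jZ Q).toOpposite fun x y => ((Commute.all x y).map (jZ Q))
  let J : EvenZ Q ⊗[R] EvenZ Q →ₐ[R] CliffordAlgebra Q ⊗[R] (CliffordAlgebra Q)ᵐᵒᵖ :=
    Algebra.TensorProduct.map (jZ Q) jop
  have hE : ∀ c : EvenZ Q, (jZ Q c ⊗ₜ[R] (1 : (CliffordAlgebra Q)ᵐᵒᵖ)) * J e =
      ((1 : CliffordAlgebra Q) ⊗ₜ[R] op (jZ Q c)) * J e := by
    intro c
    have := congrArg J (he c)
    simp only [map_mul, J, Algebra.TensorProduct.map_tmul, map_one] at this
    exact this
  let Φ : ↥(CliffordAlgebra.even Q) ⊗[EvenZ Q] (↥(CliffordAlgebra.even Q))ᵐᵒᵖ →+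
      CliffordAlgebra Q ⊗[R] (CliffordAlgebra Q)ᵐᵒᵖ :=
    TensorProduct.liftAddHom
      (AddMonoidHom.mk' (fun a : ↥(CliffordAlgebra.even Q) => AddMonoidHom.mk'
          (fun c : (↥(CliffordAlgebra.even Q))ᵐᵒᵖ =>
            ((a : CliffordAlgebra Q) ⊗ₜ[R] op (c.unop : CliffordAlgebra Q)) * J e)
          (fun c c' => by simp [TensorProduct.tmul_add, add_mul]))
        (fun a a' => by ext c; simp [TensorProduct.add_tmul, add_mul]))
      (fun r a c => by
        have h1 : ((r • a : ↥(CliffordAlgebra.even Q)) : CliffordAlgebra Q) =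
            (a : CliffordAlgebra Q) * jZ Q r :=
          (congrArg Subtype.val (Subalgebra.mem_center_iff.1 r.2 a)).symm
        simp only [AddMonoidHom.mk'_apply, h1, unop_smul, smul_coe]
        rw [show ((a : CliffordAlgebra Q) * jZ Q r) ⊗ₜ[R] op (c.unop : CliffordAlgebra Q) =
            ((a : CliffordAlgebra Q) ⊗ₜ[R] op (c.unop : CliffordAlgebra Q)) *
              (jZ Q r ⊗ₜ[R] (1 : (CliffordAlgebra Q)ᵐᵒᵖ)) by simp,
          mul_assoc, hE, ← mul_assoc]
        simp [jZ, ← op_mul])
  have hΦ : ∀ (a c : ↥(CliffordAlgebra.even Q)), Φ (a ⊗ₜ[EvenZ Q] op c) =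
      ((a : CliffordAlgebra Q) ⊗ₜ[R] op (c : CliffordAlgebra Q)) * J e := fun a c => rfl
  have hΨ : ∀ w, psiMap Q (Φ w) = w := by
    intro w
    induction w using TensorProduct.induction_on with
    | zero => simp
    | tmul a c' =>
      obtain ⟨c, rfl⟩ := op_surjective c'
      rw [hΦ]
      have : ∀ x : EvenZ Q ⊗[R] EvenZ Q,
          psiMap Q (((a : CliffordAlgebra Q) ⊗ₜ[R] op (c : CliffordAlgebra Q)) * J x) =
            a ⊗ₜ[EvenZ Q] op (LinearMap.mul' R (EvenZ Q) x • c) := by
        intro x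
        induction x using TensorProduct.induction_on with
        | zero => simp
        | tmul p q =>
          simp only [J, Algebra.TensorProduct.map_tmul, Algebra.TensorProduct.tmul_mul_tmul,
            LinearMap.mul'_apply]
          change psiMap Q ((((a * (p : ↥(CliffordAlgebra.even Q))) : ↥(CliffordAlgebra.even Q)) :
              CliffordAlgebra Q) ⊗ₜ[R] op (((q • c : ↥(CliffordAlgebra.even Q))) : CliffordAlgebra Q)) = _
          rw [psiMap_tmul, p0_even, p0_even,
            show a * (p : ↥(CliffordAlgebra.even Q)) = p • a from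
              Subalgebra.mem_center_iff.1 p.2 a,
            TensorProduct.smul_tmul, ← op_smul, smul_smul]
        | add p q hp hq => rw [map_add, mul_add, map_add, hp, hq, map_add, add_smul, op_add,
            TensorProduct.tmul_add]
      rw [this, he1, one_smul]
    | add p q hp hq => rw [map_add, map_add, hp, hq]
  refine (injective_iff_map_eq_zero _).2 fun w hw => ?_
  have heven : ∀ x : ↥(CliffordAlgebra.even Q),
      AlgHom.mulLeftRight R _ (J e) (x : CliffordAlgebra Q) = x := by
    intro x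
    have : ∀ y, AlgHom.mulLeftRight R _ (J y) (x : CliffordAlgebra Q) =
        jZ Q (LinearMap.mul' R (EvenZ Q) y) * (x : CliffordAlgebra Q) := by
      intro y
      induction y using TensorProduct.induction_on with
      | zero => simp
      | tmul p q =>
        simp only [J, Algebra.TensorProduct.map_tmul, AlgHom.mulLeftRight_apply, LinearMap.mul'_apply,
          map_mul]
        change jZ Q p * (x : CliffordAlgebra Q) * jZ Q q = _
        rw [mul_assoc, mul_assoc]
        congr 1
        exact congrArg Subtype.val (Subalgebra.mem_center_iff.1 q.2 x)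
      | add p q hp hq => rw [map_add, map_add, LinearMap.add_apply, hp, hq, map_add, map_add, add_mul]
    rw [this, he1, map_one, one_mul]
  have hodd : ∀ x ∈ evenOdd Q 1, AlgHom.mulLeftRight R _ (J e) x = 0 := by
    intro x hx
    refine D.anti_odd ?_ ?_
    · have : ∀ y, AlgHom.mulLeftRight R _ (J y) x ∈ evenOdd Q 1 := by
        intro y
        induction y using TensorProduct.induction_on with
        | zero => simp
        | tmul p q =>
          simp only [J, Algebra.TensorProduct.map_tmul, AlgHom.mulLeftRight_apply]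
          exact mul_mem_odd Q (mul_mem_odd' Q p.1.2 hx) q.1.2
        | add p q hp hq => rw [map_add, map_add, LinearMap.add_apply]; exact add_mem hp hq
      exact this e
    · have h := congrArg (fun T => AlgHom.mulLeftRight R (CliffordAlgebra Q) T x) (hE D.zZ)
      simp only [map_mul, Module.End.mul_apply, AlgHom.mulLeftRight_apply, unop_one, mul_one, unop_op,
        one_mul] at h
      exact h
  have hzero : ∀ (v : ↥(CliffordAlgebra.even Q) ⊗[EvenZ Q] (↥(CliffordAlgebra.even Q))ᵐᵒᵖ),
      (∀ x : ↥(CliffordAlgebra.even Q), AlgHom.mulLeftRight R _ (Φ v) (x : CliffordAlgebra Q) =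
        (AlgHom.mulLeftRight (EvenZ Q) _ v x : CliffordAlgebra Q)) ∧
      ∀ x ∈ evenOdd Q 1, AlgHom.mulLeftRight R _ (Φ v) x = 0 := by
    intro v
    induction v using TensorProduct.induction_on with
    | zero => simp
    | tmul a c' =>
      obtain ⟨c, rfl⟩ := op_surjective c'
      refine ⟨fun x => ?_, fun x hx => ?_⟩
      · rw [hΦ, map_mul, Module.End.mul_apply, heven, AlgHom.mulLeftRight_apply,
          AlgHom.mulLeftRight_apply]
        rfl
      · rw [hΦ, map_mul, Module.End.mul_apply, hodd x hx, map_zero]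
    | add p q hp hq =>
      refine ⟨fun x => ?_, fun x hx => ?_⟩
      · rw [map_add, map_add, LinearMap.add_apply, hp.1, hq.1, map_add, LinearMap.add_apply]
        rfl
      · rw [map_add, map_add, LinearMap.add_apply, hp.2 x hx, hq.2 x hx, add_zero]
  have hΦw : Φ w = 0 := hCinj (LinearMap.ext fun y => by
    obtain ⟨y₀, y₁, hy, rfl⟩ := exists_parts Q y
    rw [map_add, (hzero w).1, (hzero w).2 _ hy, hw, map_zero]
    simp)
  rw [← hΨ w, hΦw, map_zero]

/-- The even Clifford algebra is Azumaya over its centre. -/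
theorem isAzumaya_even (hspan : Ideal.span (Set.range Q) = ⊤) (b : Module.Basis (Fin n) R M)
    (hQ : QuadGrp.IsRegular Q) : IsAzumaya (EvenZ Q) ↥(CliffordAlgebra.even Q) := by
  haveI := even_projective Q b
  haveI := even_finite Q b
  haveI : Module.Finite (EvenZ Q) ↥(CliffordAlgebra.even Q) :=
    Module.Finite.of_restrictScalars_finite R (EvenZ Q) _
  haveI : Module.Projective (EvenZ Q) ↥(CliffordAlgebra.even Q) :=
    (D.quadGen hspan b hQ).projective_of_projective ↥(CliffordAlgebra.even Q)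
  haveI : FaithfulSMul (EvenZ Q) ↥(CliffordAlgebra.even Q) :=
    (faithfulSMul_iff_algebraMap_injective (EvenZ Q) ↥(CliffordAlgebra.even Q)).2 Subtype.val_injective
  exact { bij := ⟨D.mulLeftRight_even_injective hspan b hQ, D.mulLeftRight_even_surjective b hQ⟩ }

end CentreDatum

end Groth.Agent.CliffRegLib
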