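import Groth.Agent.CliffRegLib.Azumaya
import Groth.Agent.CliffRegLib.SkolemLocal

/-!
# Over a local ring every isometry of a regular form of even rank is inner on the Clifford algebra
-/

set_option autoImplicit false
set_option backward.isDefEq.respectTransparency false

universe u v

open CliffordAlgebra

namespace Groth.Agent.CliffRegLib

variable {R : Type u} [CommRing R] {M : Type v} [AddCommGroup M] [Module R M] {n : ℕ}

/-- An isometry is induced by conjugation by a unit. -/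
theorem CentreDatum.exists_inner [IsLocalRing R] {Q : QuadraticForm R M} {z : CliffordAlgebra Q} {s t : R}
    (D : CentreDatum Q z s t) (b : Module.Basis (Fin n) R M) (hQ : QuadGrp.IsRegular Q)
    (g : M ≃ₗ[R] M) (hg : g ∈ QuadGrp.O Q) :
    ∃ u ∈ QuadGrp.GPin' Q, (∀ v : M, (u : CliffordAlgebra Q) * ι Q v * ↑u⁻¹ = ι Q (g v)) ∧
      ∀ x, fmap g hg x * (u : CliffordAlgebra Q) = (u : CliffordAlgebra Q) * x := by
  classical
  have hg' : g.symm ∈ QuadGrp.O Q := (QuadGrp.O Q).inv_mem hg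
  let σ : CliffordAlgebra Q ≃ₐ[R] CliffordAlgebra Q :=
    AlgEquiv.ofAlgHom (fmap g hg) (fmap g.symm hg')
      (CliffordAlgebra.hom_ext (LinearMap.ext fun v => by simp))
      (CliffordAlgebra.hom_ext (LinearMap.ext fun v => by simp))
  obtain ⟨u, hu⟩ := exists_unit_intertwiner (cbasis b Q) (D.mulLeftRight_surjective b hQ)
    ((cbasis b Q).coord ∅) (by rw [← one_eq_cbasis b Q, Module.Basis.coord_apply,
      Module.Basis.repr_self, Finsupp.single_eq_same]) σ
  have hv : ∀ v : M, (u : CliffordAlgebra Q) * ι Q v * ↑u⁻¹ = ι Q (g v) := fun v => by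
    rw [← hu, mul_assoc, Units.mul_inv, mul_one]
    exact fmap_ι g hg v
  refine ⟨u, ?_, hv, hu⟩
  rw [QuadGrp.mem_GPin']
  refine le_antisymm ?_ ?_
  · rintro _ ⟨_, ⟨v, rfl⟩, rfl⟩
    exact ⟨g v, (hv v).symm⟩
  · rintro _ ⟨v, rfl⟩
    exact ⟨ι Q (g.symm v), ⟨_, rfl⟩, (hv _).trans (by rw [LinearEquiv.apply_symm_apply])⟩

end Groth.Agent.CliffRegLib
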