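import Mathlib.LinearAlgebra.CliffordAlgebra.Contraction
import Mathlib.LinearAlgebra.CliffordAlgebra.Grading
import Mathlib.LinearAlgebra.CliffordAlgebra.Conjugation
import Mathlib.LinearAlgebra.ExteriorAlgebra.Basis
import Mathlib.LinearAlgebra.QuadraticForm.Basis
import Mathlib.Data.Finset.Sort

/-!
# The monomial basis of a Clifford algebra over an arbitrary commutative ring
-/

set_option autoImplicit false

universe u v w x

open CliffordAlgebra

namespace Groth.Agent.CliffRegLib

variable {R : Type u} [CommRing R] {M : Type v} [AddCommGroup M] [Module R M] {n : ℕ}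

/-- The product of basis vectors along a list. -/
noncomputable def mon (Q : QuadraticForm R M) (b : Fin n → M) (l : List (Fin n)) : CliffordAlgebra Q :=
  (l.map fun i => ι Q (b i)).prod

@[simp] lemma mon_nil (Q : QuadraticForm R M) (b : Fin n → M) : mon Q b [] = 1 := rfl

@[simp] lemma mon_cons (Q : QuadraticForm R M) (b : Fin n → M) (i : Fin n) (l : List (Fin n)) :
    mon Q b (i :: l) = ι Q (b i) * mon Q b l := by simp [mon]

lemma mon_append (Q : QuadraticForm R M) (b : Fin n → M) (l l' : List (Fin n)) :
    mon Q b (l ++ l') = mon Q b l * mon Q b l' := by simp [mon]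

lemma mon_mem_evenOdd (Q : QuadraticForm R M) (b : Fin n → M) :
    ∀ l : List (Fin n), mon Q b l ∈ evenOdd Q (l.length : ZMod 2)
  | [] => by
    rw [mon_nil, List.length_nil, Nat.cast_zero]
    exact SetLike.one_mem_graded (evenOdd Q)
  | i :: l => by
    rw [mon_cons, List.length_cons, Nat.cast_add, Nat.cast_one, add_comm]
    exact SetLike.mul_mem_graded (ι_mem_evenOdd_one Q _) (mon_mem_evenOdd Q b l)

lemma contract_mon_eq_zero (Q : QuadraticForm R M) (b : Fin n → M) (d : Module.Dual R M) :
    ∀ l : List (Fin n), (∀ i ∈ l, d (b i) = 0) → contractLeft d (mon Q b l) = 0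
  | [], _ => by rw [mon_nil, contractLeft_one]
  | i :: l, h => by
    rw [mon_cons, contractLeft_ι_mul, h i (List.mem_cons_self ..), zero_smul,
      contract_mon_eq_zero Q b d l fun j hj => h j (List.mem_cons_of_mem _ hj), mul_zero, sub_zero]

lemma changeForm_mon {Q Q' : QuadraticForm R M} {B : LinearMap.BilinForm R M}
    (h : B.toQuadraticMap = Q' - Q) (b : Fin n → M) :
    ∀ l : List (Fin n), l.Pairwise (fun i j => B (b i) (b j) = 0) →
      changeForm h (mon Q b l) = mon Q' b l
  | [], _ => by simp
  | i :: l, hp => by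
    obtain ⟨hi, hl⟩ := List.pairwise_cons.1 hp
    rw [mon_cons, changeForm_ι_mul, changeForm_mon h b l hl, contract_mon_eq_zero Q' b (B (b i)) l hi,
      sub_zero, mon_cons]

/-- The triangular bilinear form lifting `Q`, vanishing on `(bᵢ, bⱼ)` for `i < j`. -/
noncomputable def lowBilin (b : Module.Basis (Fin n) R M) (Q : QuadraticForm R M) :
    LinearMap.BilinForm R M :=
  LinearMap.flip (Q.toBilin b)

lemma lowBilin_spec (b : Module.Basis (Fin n) R M) (Q : QuadraticForm R M) :
    (lowBilin b Q).toQuadraticMap = Q - 0 := by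
  rw [sub_zero]
  ext x
  simp only [lowBilin, LinearMap.BilinMap.toQuadraticMap_apply, LinearMap.flip_apply]
  exact DFunLike.congr_fun (QuadraticMap.toQuadraticMap_toBilin Q b) x

lemma lowBilin_eq_zero (b : Module.Basis (Fin n) R M) (Q : QuadraticForm R M) {i j : Fin n}
    (h : i < j) : lowBilin b Q (b i) (b j) = 0 := by
  rw [lowBilin, LinearMap.flip_apply, QuadraticMap.toBilin_apply, if_neg h.ne', if_neg h.not_gt]

/-- The monomial basis. -/
noncomputable def cbasis (b : Module.Basis (Fin n) R M) (Q : QuadraticForm R M) :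
    Module.Basis (Finset (Fin n)) R (CliffordAlgebra Q) :=
  (b.ExteriorAlgebra : Module.Basis (Finset (Fin n)) R (CliffordAlgebra (0 : QuadraticForm R M))).map
    (changeFormEquiv (lowBilin_spec b Q))

lemma ofFn_orderEmb (s : Finset (Fin n)) :
    List.ofFn (s.orderEmbOfFin rfl) = s.sort (fun i j => i ≤ j) := by
  refine List.ext_getElem (by simp) fun k h1 h2 => ?_
  rw [List.getElem_ofFn]
  simp [Finset.orderEmbOfFin_apply]

lemma exterior_basis_eq (b : Module.Basis (Fin n) R M) (s : Finset (Fin n)) :
    (b.ExteriorAlgebra s : CliffordAlgebra (0 : QuadraticForm R M)) =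
      mon (0 : QuadraticForm R M) b (s.sort (fun i j => i ≤ j)) := by
  rw [ExteriorAlgebra.basis_apply, ← ofFn_orderEmb]
  simp only [ExteriorAlgebra.ιMulti_family, ExteriorAlgebra.ιMulti_apply, mon, List.map_ofFn]
  rfl

@[simp] lemma cbasis_apply (b : Module.Basis (Fin n) R M) (Q : QuadraticForm R M)
    (s : Finset (Fin n)) : cbasis b Q s = mon Q b (s.sort (fun i j => i ≤ j)) := by
  rw [cbasis, Module.Basis.map_apply, changeFormEquiv_apply]
  refine (congrArg _ (exterior_basis_eq b s)).trans (changeForm_mon _ _ _ ?_)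
  exact (Finset.sortedLT_sort s).pairwise.imp fun h => lowBilin_eq_zero b Q h

lemma span_mon_eq_top (b : Module.Basis (Fin n) R M) (Q : QuadraticForm R M) :
    Submodule.span R (Set.range (mon Q b)) = ⊤ := by
  rw [eq_top_iff, ← (cbasis b Q).span_eq, Submodule.span_le]
  rintro _ ⟨s, rfl⟩
  exact Submodule.subset_span ⟨_, (cbasis_apply b Q s).symm⟩

lemma cbasis_mem_evenOdd (b : Module.Basis (Fin n) R M) (Q : QuadraticForm R M)
    (s : Finset (Fin n)) : cbasis b Q s ∈ evenOdd Q (s.card : ZMod 2) := by
  rw [cbasis_apply, ← Finset.length_sort (fun i j : Fin n => i ≤ j)]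
  exact mon_mem_evenOdd Q b _

lemma one_eq_cbasis (b : Module.Basis (Fin n) R M) (Q : QuadraticForm R M) :
    cbasis b Q ∅ = 1 := by
  rw [cbasis_apply, Finset.sort_empty, mon_nil]

lemma cbasis_singleton (b : Module.Basis (Fin n) R M) (Q : QuadraticForm R M) (i : Fin n) :
    cbasis b Q {i} = ι Q (b i) := by
  rw [cbasis_apply, Finset.sort_singleton, mon_cons, mon_nil, mul_one]

lemma algebraMap_repr (b : Module.Basis (Fin n) R M) (Q : QuadraticForm R M) (r : R)
    (s : Finset (Fin n)) :
    (cbasis b Q).repr (algebraMap R (CliffordAlgebra Q) r) s = if s = ∅ then r else 0 := by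
  rw [Algebra.algebraMap_eq_smul_one, ← one_eq_cbasis b Q, map_smul, Module.Basis.repr_self,
    Finsupp.smul_apply, Finsupp.single_apply]
  simp [eq_comm]

lemma algebraMap_injective (b : Module.Basis (Fin n) R M) (Q : QuadraticForm R M) :
    Function.Injective (algebraMap R (CliffordAlgebra Q)) := fun r r' h => by
  simpa [algebraMap_repr] using congrArg (fun x => (cbasis b Q).repr x ∅) h

lemma coord_contract_exterior (b : Module.Basis (Fin n) R M) (i : Fin n) :
    ∀ l : List (Fin n), l.Nodup → i ∈ l →
      ∃ ε : Rˣ, contractLeft (b.coord i) (mon (0 : QuadraticForm R M) b l) =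
        (ε : R) • mon (0 : QuadraticForm R M) b (l.erase i)
  | [], _, h => by simp at h
  | a :: l, hnd, h => by
    classical
    obtain ⟨ha, hl⟩ := List.nodup_cons.1 hnd
    rw [mon_cons, contractLeft_ι_mul]
    by_cases hai : a = i
    · subst hai
      refine ⟨1, ?_⟩
      rw [Module.Basis.coord_apply, Module.Basis.repr_self, Finsupp.single_eq_same, one_smul,
        contract_mon_eq_zero _ _ _ l (fun j hj => ?_), mul_zero, sub_zero, List.erase_cons_head,
        Units.val_one, one_smul]
      rw [Module.Basis.coord_apply, Module.Basis.repr_self, Finsupp.single_eq_of_ne]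
      rintro rfl
      exact ha hj
    · obtain ⟨ε, hε⟩ := coord_contract_exterior b i l hl
        ((List.mem_cons.1 h).resolve_left (Ne.symm hai))
      refine ⟨-ε, ?_⟩
      rw [Module.Basis.coord_apply, Module.Basis.repr_self, Finsupp.single_eq_of_ne (Ne.symm hai),
        zero_smul, zero_sub, hε, List.erase_cons_tail (by simpa using hai), mon_cons, mul_smul_comm,
        Units.val_neg, neg_smul]

/-- An element of the Clifford algebra killed by all contractions is a scalar. -/
theorem eq_algebraMap_of_contract (b : Module.Basis (Fin n) R M) (Q : QuadraticForm R M)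
    (x : CliffordAlgebra Q) (h : ∀ d : Module.Dual R M, contractLeft d x = 0) :
    x = algebraMap R (CliffordAlgebra Q) ((cbasis b Q).repr x ∅) := by
  classical
  set E := changeFormEquiv (lowBilin_spec b Q) with hE
  let EB : Module.Basis (Finset (Fin n)) R (CliffordAlgebra (0 : QuadraticForm R M)) := b.ExteriorAlgebra
  set y := E.symm x with hy
  have hrep : ∀ s, (cbasis b Q).repr x s = EB.repr y s := fun s => rfl
  refine (cbasis b Q).ext_elem fun s => ?_
  rw [algebraMap_repr]
  split_ifs with hs
  · rw [hs]
  obtain ⟨i, hi⟩ := Finset.nonempty_of_ne_empty hs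
  have hd : ∀ d : Module.Dual R M, contractLeft d y = 0 := fun d => by
    apply E.injective
    rw [map_zero, hE, changeFormEquiv_apply, changeForm_contractLeft, ← changeFormEquiv_apply, ← hE,
      hy, LinearEquiv.apply_symm_apply, h]
  have hbasis : ∀ t : Finset (Fin n),
      ∃ ε : Rˣ, contractLeft (b.coord i) (EB t) = if i ∈ t then (ε : R) • EB (t.erase i) else 0 := by
    intro t
    by_cases hit : i ∈ t
    · obtain ⟨ε, hε⟩ := coord_contract_exterior b i (t.sort (fun p q => p ≤ q)) (Finset.sort_nodup _ _)
        ((Finset.mem_sort _).2 hit)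
      refine ⟨ε, ?_⟩
      rw [if_pos hit]
      simp only [EB, exterior_basis_eq]
      rw [hε]
      congr 2
      refine (List.Perm.eq_of_pairwise' ((Finset.pairwise_sort t (fun a c => a ≤ c)).sublist (List.erase_sublist ..))
        (Finset.pairwise_sort _ (fun a c => a ≤ c)) ?_)
      rw [List.perm_ext_iff_of_nodup ((Finset.sort_nodup _ _).erase _) (Finset.sort_nodup _ _)]
      intro a
      simp [(Finset.sort_nodup _ _).mem_erase_iff, Finset.mem_sort]
    · refine ⟨1, ?_⟩
      rw [if_neg hit]
      simp only [EB, exterior_basis_eq]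
      refine contract_mon_eq_zero _ _ _ _ fun j hj => ?_
      rw [Module.Basis.coord_apply, Module.Basis.repr_self, Finsupp.single_eq_of_ne]
      rintro rfl
      exact hit ((Finset.mem_sort _).1 hj)
  choose ε hε using hbasis
  have := congrArg (fun z => EB.repr z (s.erase i)) (hd (b.coord i))
  simp only [map_zero, Finsupp.zero_apply] at this
  rw [← EB.sum_repr y] at this
  simp only [map_sum, map_smul, hε, Finsupp.coe_finsetSum, Finset.sum_apply, Finsupp.smul_apply] at this
  rw [Finset.sum_eq_single s] at this
  · rw [if_pos hi, map_smul, Module.Basis.repr_self, Finsupp.smul_apply, Finsupp.single_eq_same,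
      smul_eq_mul, smul_eq_mul, mul_one] at this
    rw [hrep]
    exact (ε s).isUnit.mul_left_eq_zero.1 this
  · intro t _ hts
    by_cases hit : i ∈ t
    · rw [if_pos hit, map_smul, Module.Basis.repr_self, Finsupp.smul_apply, Finsupp.single_eq_of_ne]
      · simp
      · intro e
        exact hts (by rw [← Finset.insert_erase hit, ← e, Finset.insert_erase hi])
    · rw [if_neg hit, map_zero, Finsupp.zero_apply, smul_zero]
  · simp

/-- The commutator with a vector is the contraction by the polar form. -/
theorem contract_polar (Q : QuadraticForm R M) (v : M) (x : CliffordAlgebra Q) :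
    contractLeft (Q.polarBilin v) x = ι Q v * x - involute x * ι Q v := by
  induction x using CliffordAlgebra.left_induction with
  | algebraMap r => rw [contractLeft_algebraMap, AlgHom.commutes, Algebra.commutes, sub_self]
  | add x y hx hy => rw [map_add, map_add, hx, hy, mul_add, add_mul]; abel
  | ι_mul x a hx =>
    rw [contractLeft_ι_mul, hx, map_mul, involute_ι, QuadraticMap.polarBilin_apply_apply,
      Algebra.smul_def, ← ι_mul_ι_add_swap]
    simp only [add_mul, mul_sub, mul_assoc, neg_mul]
    abel

/-- An even element commuting with all vectors is a scalar, for a perfect polar form. -/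
theorem eq_algebraMap_of_commute (b : Module.Basis (Fin n) R M) {Q : QuadraticForm R M}
    (hQ : Function.Surjective Q.polarBilin) {x : CliffordAlgebra Q} (hx : x ∈ evenOdd Q 0)
    (h : ∀ v, ι Q v * x = x * ι Q v) :
    x = algebraMap R (CliffordAlgebra Q) ((cbasis b Q).repr x ∅) := by
  refine eq_algebraMap_of_contract b Q x fun d => ?_
  obtain ⟨v, rfl⟩ := hQ d
  rw [contract_polar, involute_eq_of_mem_even hx, h, sub_self]

section Map

variable {R' : Type w} [CommRing R'] [Algebra R R'] {M' : Type x} [AddCommGroup M'] [Module R' M']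
  [Module R M'] [IsScalarTower R R' M'] {Q : QuadraticForm R M} {Q' : QuadraticForm R' M'}
  (e : M →ₗ[R] M') (he : ∀ v, Q' (e v) = algebraMap R R' (Q v))

/-- Functoriality along a change of the ground ring. -/
noncomputable def cmap : CliffordAlgebra Q →ₐ[R] CliffordAlgebra Q' :=
  CliffordAlgebra.lift Q ⟨((ι Q').restrictScalars R) ∘ₗ e, fun v => by
    rw [LinearMap.comp_apply, LinearMap.coe_restrictScalars, ι_sq_scalar, he,
      ← IsScalarTower.algebraMap_apply]⟩

@[simp] lemma cmap_ι (v : M) : cmap e he (ι Q v) = ι Q' (e v) :=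
  lift_ι_apply _ _ _

lemma cmap_mem_evenOdd (i : ZMod 2) {x : CliffordAlgebra Q} (hx : x ∈ evenOdd Q i) :
    cmap e he x ∈ evenOdd Q' i := by
  induction x, hx using CliffordAlgebra.evenOdd_induction with
  | range_ι_pow v hv =>
    have : ∀ (k : ℕ), ∀ x ∈ LinearMap.range (ι Q) ^ k, cmap e he x ∈ evenOdd Q' (k : ZMod 2) := by
      intro k x hx
      induction hx using Submodule.pow_induction_on_left' with
      | algebraMap r =>
        rw [AlgHom.commutes, Nat.cast_zero, IsScalarTower.algebraMap_apply R R',
          Algebra.algebraMap_eq_smul_one]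
        exact Submodule.smul_mem _ _ (SetLike.one_mem_graded (evenOdd Q'))
      | add x y i hx hy ihx ihy => rw [map_add]; exact Submodule.add_mem _ ihx ihy
      | mem_mul m hm i x hx ih =>
        obtain ⟨v, rfl⟩ := hm
        rw [map_mul, cmap_ι, Nat.cast_succ, add_comm]
        exact SetLike.mul_mem_graded (ι_mem_evenOdd_one Q' _) ih
    simpa using this i.val v hv
  | add a b _ _ ha hb => rw [map_add]; exact Submodule.add_mem _ ha hb
  | ι_mul_ι_mul m₁ m₂ a _ ha =>
    rw [map_mul, map_mul, cmap_ι, cmap_ι, ← zero_add i]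
    exact SetLike.mul_mem_graded (ι_mul_ι_mem_evenOdd_zero Q' _ _) ha

variable (b : Module.Basis (Fin n) R M) (b' : Module.Basis (Fin n) R' M') (hb : ∀ i, e (b i) = b' i)
include hb

lemma cmap_mon : ∀ l, cmap e he (mon Q b l) = mon Q' b' l
  | [] => by simp
  | i :: l => by rw [mon_cons, map_mul, cmap_ι, hb, cmap_mon l, mon_cons]

lemma cmap_repr (x : CliffordAlgebra Q) (s : Finset (Fin n)) :
    (cbasis b' Q').repr (cmap e he x) s = algebraMap R R' ((cbasis b Q).repr x s) := by
  classical
  conv_lhs => rw [← (cbasis b Q).sum_repr x]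
  simp only [map_sum, map_smul, cbasis_apply, cmap_mon e he b b' hb, Finsupp.coe_finsetSum,
    Finset.sum_apply]
  rw [Finset.sum_eq_single s]
  · rw [← cbasis_apply b' Q', ← IsScalarTower.algebraMap_smul R' ((cbasis b Q).repr x s), map_smul,
      Module.Basis.repr_self, Finsupp.smul_apply, Finsupp.single_eq_same, smul_eq_mul, mul_one]
  · intro t _ hts
    rw [← cbasis_apply b' Q', ← IsScalarTower.algebraMap_smul R' ((cbasis b Q).repr x t), map_smul,
      Module.Basis.repr_self, Finsupp.smul_apply, Finsupp.single_eq_of_ne (Ne.symm hts), smul_zero]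
  · simp

lemma cmap_injective (h : Function.Injective (algebraMap R R')) :
    Function.Injective (cmap e he) := fun x y hxy =>
  (cbasis b Q).ext_elem fun s => h <| by
    rw [← cmap_repr e he b b' hb, ← cmap_repr e he b b' hb, hxy]

end Map

end Groth.Agent.CliffRegLib
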