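import Groth.Agent.CliffRegLib.Azumaya

/-!
# The top coefficient in the monomial basis
-/

set_option autoImplicit false
set_option backward.isDefEq.respectTransparency false

universe u v

open CliffordAlgebra

namespace Groth.Agent.CliffRegLib

variable {R : Type u} [CommRing R] {M : Type v} [AddCommGroup M] [Module R M] {n : ℕ}
  (b : Module.Basis (Fin n) R M)

/-- The span of the monomials of length less than `k` in the exterior algebra. -/
noncomputable def low (k : ℕ) : Submodule R (CliffordAlgebra (0 : QuadraticForm R M)) :=
  Submodule.span R {x | ∃ w : List (Fin n), w.length < k ∧ x = mon (0 : QuadraticForm R M) b w}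

lemma low_mono {k k' : ℕ} (h : k ≤ k') : low b k ≤ low b k' :=
  Submodule.span_mono fun _ ⟨w, hw, hx⟩ => ⟨w, lt_of_lt_of_le hw h, hx⟩

lemma ι_mul_low (v : M) {k : ℕ} {x : CliffordAlgebra (0 : QuadraticForm R M)} (hx : x ∈ low b k) :
    ι (0 : QuadraticForm R M) v * x ∈ low b (k + 1) := by
  rw [← b.sum_repr v, map_sum, Finset.sum_mul]
  refine Submodule.sum_mem _ fun i _ => ?_
  rw [map_smul, smul_mul_assoc]
  refine Submodule.smul_mem _ _ ?_
  have h := Submodule.mem_map_of_mem (f := LinearMap.mulLeft R (ι (0 : QuadraticForm R M) (b i))) hx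
  rw [low, Submodule.map_span] at h
  refine Submodule.span_mono ?_ h
  rintro _ ⟨_, ⟨w, hw, rfl⟩, rfl⟩
  exact ⟨i :: w, by rw [List.length_cons]; omega, by rw [LinearMap.mulLeft_apply, mon_cons]⟩

lemma contract_mon_low (d : Module.Dual R M) :
    ∀ w : List (Fin n), contractLeft d (mon (0 : QuadraticForm R M) b w) ∈ low b w.length
  | [] => by rw [mon_nil, contractLeft_one]; exact Submodule.zero_mem _
  | i :: w => by
    rw [mon_cons, contractLeft_ι_mul, List.length_cons]
    exact Submodule.sub_mem _ (Submodule.smul_mem _ _ (Submodule.subset_span ⟨w, Nat.lt_succ_self _, rfl⟩))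
      (ι_mul_low b _ (contract_mon_low d w))

lemma contract_low (d : Module.Dual R M) {k : ℕ} {x : CliffordAlgebra (0 : QuadraticForm R M)}
    (hx : x ∈ low b k) : contractLeft d x ∈ low b k := by
  have hle : low b k ≤ (low b k).comap (contractLeft (Q := (0 : QuadraticForm R M)) d) := by
    refine Submodule.span_le.2 ?_
    rintro _ ⟨w, hw, rfl⟩
    exact low_mono b hw.le (contract_mon_low b d w)
  exact hle hx

lemma mon_vec_low (v : Fin n → M) :
    ∀ l : List (Fin n), mon (0 : QuadraticForm R M) v l ∈ low b (l.length + 1)
  | [] => Submodule.subset_span ⟨[], by simp, by simp⟩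
  | i :: l => by rw [mon_cons, List.length_cons]; exact ι_mul_low b _ (mon_vec_low v l)

lemma contract_mon_vec_low (d : Module.Dual R M) (v : Fin n → M) :
    ∀ l : List (Fin n), contractLeft d (mon (0 : QuadraticForm R M) v l) ∈ low b l.length
  | [] => by rw [mon_nil, contractLeft_one]; exact Submodule.zero_mem _
  | i :: l => by
    rw [mon_cons, contractLeft_ι_mul, List.length_cons]
    exact Submodule.sub_mem _ (Submodule.smul_mem _ _ (mon_vec_low b v l))
      (ι_mul_low b _ (contract_mon_vec_low d v l))

variable (Q : QuadraticForm R M)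

lemma changeFormEquiv_ι_mul (v : M) (y : CliffordAlgebra (0 : QuadraticForm R M)) :
    changeFormEquiv (lowBilin_spec b Q) (ι (0 : QuadraticForm R M) v * y) =
      ι Q v * changeFormEquiv (lowBilin_spec b Q) y -
        changeFormEquiv (lowBilin_spec b Q) (contractLeft (lowBilin b Q v) y) := by
  simp only [changeFormEquiv_apply, changeForm_ι_mul, changeForm_contractLeft]

lemma mon_eq_changeForm (v : Fin n → M) :
    ∀ l : List (Fin n), ∃ y ∈ low b l.length,
      mon Q v l = changeFormEquiv (lowBilin_spec b Q) (mon (0 : QuadraticForm R M) v l + y)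
  | [] => ⟨0, Submodule.zero_mem _, by simp⟩
  | i :: l => by
    obtain ⟨y, hy, h⟩ := mon_eq_changeForm v l
    refine ⟨ι (0 : QuadraticForm R M) (v i) * y +
      contractLeft (lowBilin b Q (v i)) (mon (0 : QuadraticForm R M) v l + y), ?_, ?_⟩
    · rw [List.length_cons, map_add]
      exact Submodule.add_mem _ (ι_mul_low b _ hy) (Submodule.add_mem _
        (low_mono b (Nat.le_succ _) (contract_mon_vec_low b _ v l))
        (low_mono b (Nat.le_succ _) (contract_low b _ hy)))
    · rw [mon_cons, mon_cons, ← add_assoc, ← mul_add, map_add, changeFormEquiv_ι_mul, sub_add_cancel, h]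

lemma changeForm_mon_eq {B : LinearMap.BilinForm R M} (hB : B.toQuadraticMap = Q - 0) (v : Fin n → M) :
    ∀ l : List (Fin n), ∃ y ∈ low b l.length,
      changeForm hB (mon (0 : QuadraticForm R M) v l) =
        changeFormEquiv (lowBilin_spec b Q) (mon (0 : QuadraticForm R M) v l + y)
  | [] => ⟨0, Submodule.zero_mem _, by simp⟩
  | i :: l => by
    obtain ⟨y, hy, h⟩ := changeForm_mon_eq hB v l
    refine ⟨ι (0 : QuadraticForm R M) (v i) * y +
      contractLeft (lowBilin b Q (v i)) (mon (0 : QuadraticForm R M) v l + y) -
      contractLeft (B (v i)) (mon (0 : QuadraticForm R M) v l + y), ?_, ?_⟩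
    · rw [List.length_cons, map_add, map_add]
      exact Submodule.sub_mem _ (Submodule.add_mem _ (ι_mul_low b _ hy) (Submodule.add_mem _
        (low_mono b (Nat.le_succ _) (contract_mon_vec_low b _ v l))
        (low_mono b (Nat.le_succ _) (contract_low b _ hy))))
        (Submodule.add_mem _ (low_mono b (Nat.le_succ _) (contract_mon_vec_low b _ v l))
          (low_mono b (Nat.le_succ _) (contract_low b _ hy)))
    · rw [mon_cons, changeForm_ι_mul, ← add_sub_assoc, ← add_assoc, ← mul_add, map_sub, map_add,
        changeFormEquiv_ι_mul, sub_add_cancel, h]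
      congr 1
      simp only [changeFormEquiv_apply, changeForm_contractLeft]

/-- The top coefficient. -/
noncomputable def topc : CliffordAlgebra Q →ₗ[R] R := (cbasis b Q).coord Finset.univ

lemma topc_changeForm (y : CliffordAlgebra (0 : QuadraticForm R M)) :
    topc b Q (changeFormEquiv (lowBilin_spec b Q) y) = (ebasis b).repr y Finset.univ := by
  change (ebasis b).repr ((changeFormEquiv (lowBilin_spec b Q)).symm _) Finset.univ = _
  rw [LinearEquiv.symm_apply_apply]

lemma ebasis_repr_low {y : CliffordAlgebra (0 : QuadraticForm R M)} (hy : y ∈ low b n) :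
    (ebasis b).repr y Finset.univ = 0 := by
  classical
  induction hy using Submodule.span_induction with
  | zero => simp
  | add x y _ _ hx hy => rw [map_add, Finsupp.add_apply, hx, hy, add_zero]
  | smul c x _ hx => rw [map_smul, Finsupp.smul_apply, hx, smul_zero]
  | mem x hx =>
    obtain ⟨w, hw, rfl⟩ := hx
    obtain ⟨i, -, hi⟩ : ∃ i ∈ (Finset.univ : Finset (Fin n)), i ∉ w.toFinset := by
      refine Finset.exists_mem_notMem_of_card_lt_card ?_
      rw [Finset.card_univ, Fintype.card_fin]
      exact lt_of_le_of_lt (List.toFinset_card_le w) hw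
    have hd : contractLeft (b.coord i) (mon (0 : QuadraticForm R M) b w) = 0 := by
      refine contract_mon_eq_zero _ _ _ _ fun j hj => ?_
      rw [Module.Basis.coord_apply, Module.Basis.repr_self, Finsupp.single_eq_of_ne]
      rintro rfl
      exact hi (List.mem_toFinset.2 hj)
    set x := mon (0 : QuadraticForm R M) b w
    rw [← (ebasis b).sum_repr x, map_sum] at hd
    choose ε hε using fun t => contract_ebasis b i t
    simp only [map_smul, hε] at hd
    have h := congrArg (fun z => (ebasis b).repr z (Finset.univ.erase i)) hd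
    simp only [map_sum, Finsupp.coe_finsetSum, Finset.sum_apply, map_zero, Finsupp.zero_apply] at h
    rw [Finset.sum_eq_single Finset.univ] at h
    · rw [if_pos (Finset.mem_univ i), map_smul, map_smul, Module.Basis.repr_self, Finsupp.smul_apply,
        Finsupp.smul_apply, Finsupp.single_eq_same, smul_eq_mul, smul_eq_mul, mul_one] at h
      exact (ε Finset.univ).isUnit.mul_left_eq_zero.1 h
    · intro t _ ht
      by_cases hit : i ∈ t
      · rw [if_pos hit, map_smul, map_smul, Module.Basis.repr_self, Finsupp.smul_apply, Finsupp.smul_apply,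
          Finsupp.single_eq_of_ne]
        · simp
        · intro e
          exact ht (by rw [← Finset.insert_erase hit, ← e, Finset.insert_erase (Finset.mem_univ i)])
      · rw [if_neg hit, smul_zero, map_zero, Finsupp.zero_apply]
    · simp

lemma ebasis_repr_top (v : Fin n → M) :
    (ebasis b).repr (mon (0 : QuadraticForm R M) v (List.finRange n)) Finset.univ = b.det v := by
  classical
  have htop : mon (0 : QuadraticForm R M) b (List.finRange n) = ebasis b Finset.univ := by
    rw [ebasis_eq, Fin.sort_univ]
  have h := AlternatingMap.eq_smul_basis_det b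
    (((ebasis b).coord Finset.univ).compAlternatingMap (ExteriorAlgebra.ιMulti R n))
  have h2 := congrArg (fun f => f v) h
  simp only [LinearMap.compAlternatingMap_apply, AlternatingMap.smul_apply, Module.Basis.coord_apply,
    ExteriorAlgebra.ιMulti_apply, List.ofFn_eq_map, smul_eq_mul] at h2
  refine h2.trans ?_
  change (ebasis b).repr (mon (0 : QuadraticForm R M) b (List.finRange n)) Finset.univ * _ = _
  rw [htop, Module.Basis.repr_self, Finsupp.single_eq_same, one_mul]

lemma topc_mon_short (v : Fin n → M) {l : List (Fin n)} (h : l.length < n) : topc b Q (mon Q v l) = 0 := by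
  obtain ⟨y, hy, he⟩ := mon_eq_changeForm b Q v l
  rw [he, topc_changeForm]
  exact ebasis_repr_low b (Submodule.add_mem _ (low_mono b h (mon_vec_low b v l)) (low_mono b h.le hy))

lemma topc_mon_top (v : Fin n → M) : topc b Q (mon Q v (List.finRange n)) = b.det v := by
  obtain ⟨y, hy, he⟩ := mon_eq_changeForm b Q v (List.finRange n)
  rw [he, topc_changeForm, map_add, Finsupp.add_apply, ebasis_repr_top,
    ebasis_repr_low b (low_mono b (by simp) hy), add_zero]

lemma topc_changeForm_top {B : LinearMap.BilinForm R M} (hB : B.toQuadraticMap = Q - 0) :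
    topc b Q (changeForm hB (mon (0 : QuadraticForm R M) b (List.finRange n))) = 1 := by
  obtain ⟨y, hy, he⟩ := changeForm_mon_eq b Q hB b (List.finRange n)
  rw [he, topc_changeForm, map_add, Finsupp.add_apply, ebasis_repr_top,
    ebasis_repr_low b (low_mono b (by simp) hy), add_zero, Module.Basis.det_self]

/-- The top coefficient scales by the determinant under a change of variables. -/
theorem topc_cmap {Q' : QuadraticForm R M} (g : M →ₗ[R] M) (hg : ∀ v, Q (g v) = algebraMap R R (Q' v))
    (x : CliffordAlgebra Q') :
    topc b Q (cmap g hg x) = LinearMap.det g * topc b Q' x := by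
  classical
  conv_lhs => rw [← (cbasis b Q').sum_repr x]
  rw [map_sum, map_sum]
  have hmon : ∀ l, cmap g hg (mon Q' b l) = mon Q (g ∘ b) l := by
    intro l
    induction l with
    | nil => simp
    | cons i l ih => rw [mon_cons, mon_cons, map_mul, cmap_ι, ih]; rfl
  rw [Finset.sum_eq_single Finset.univ]
  · rw [map_smul, map_smul, cbasis_apply, hmon, Fin.sort_univ, topc_mon_top, smul_eq_mul,
      Module.Basis.det_comp, Module.Basis.det_self, mul_one, mul_comm]
    rfl
  · intro t _ ht
    rw [map_smul, map_smul, cbasis_apply, hmon, topc_mon_short b Q _ ?_, smul_zero]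
    rw [Finset.length_sort]
    simpa using Finset.card_lt_univ_of_notMem (Classical.choose_spec
      (not_forall.1 fun h => ht (Finset.eq_univ_iff_forall.2 h)))
  · simp

end Groth.Agent.CliffRegLib
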