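import Groth.Agent.CliffRegLib.CentreElt
import Groth.Agent.CliffRegLib.OddTop
import Groth.Agent.QuadGrpLib.Det
import Mathlib.LinearAlgebra.CliffordAlgebra.Star

/-!
# The odd central unit of the Clifford algebra of a semiregular form of odd rank
-/

set_option autoImplicit false
set_option backward.isDefEq.respectTransparency false

universe u v w x

open CliffordAlgebra

namespace Groth.Agent.CliffRegLib

lemma commute_of_basis {R : Type u} [CommRing R] {M : Type v} [AddCommGroup M] [Module R M] {n : ℕ}
    (b : Module.Basis (Fin n) R M) (Q : QuadraticForm R M) (η : CliffordAlgebra Q)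
    (h : ∀ i, ι Q (b i) * η = η * ι Q (b i)) (x : CliffordAlgebra Q) : x * η = η * x := by
  induction x using CliffordAlgebra.induction with
  | algebraMap r => rw [Algebra.commutes]
  | ι v =>
    rw [← b.sum_repr v, map_sum, Finset.sum_mul, Finset.mul_sum]
    exact Finset.sum_congr rfl fun i _ => by rw [map_smul, smul_mul_assoc, mul_smul_comm, h]
  | mul p q hp hq => rw [mul_assoc, hq, ← mul_assoc, hp, mul_assoc]
  | add p q hp hq => rw [add_mul, mul_add, hp, hq]

lemma cmap_star {R : Type u} [CommRing R] {M : Type v} [AddCommGroup M] [Module R M]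
    {Q : QuadraticForm R M} {R' : Type w} [CommRing R'] [Algebra R R'] {M' : Type x} [AddCommGroup M']
    [Module R' M'] [Module R M'] [IsScalarTower R R' M'] {Q' : QuadraticForm R' M'}
    (e : M →ₗ[R] M') (he : ∀ v, Q' (e v) = algebraMap R R' (Q v)) (y : CliffordAlgebra Q) :
    cmap e he (star y) = star (cmap e he y) := by
  induction y using CliffordAlgebra.induction with
  | algebraMap r =>
    rw [star_algebraMap, AlgHom.commutes, IsScalarTower.algebraMap_apply R R', star_algebraMap]
  | ι v => rw [star_ι, map_neg, cmap_ι, star_ι]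
  | mul p q hp hq => rw [star_mul, map_mul, map_mul, star_mul, hp, hq]
  | add p q hp hq => rw [star_add, map_add, map_add, star_add, hp, hq]

section Top

variable {R : Type u} [CommRing R] {R' : Type u} [CommRing R'] [Algebra R R'] [Invertible (2 : R')]
  {M' : Type w} [AddCommGroup M'] [Module R' M'] [Module R M'] [IsScalarTower R R' M'] {n : ℕ}
  (Q' : QuadraticForm R' M') (b' : Module.Basis (Fin n) R' M')

lemma topElt_mem_span_odd {m : ℕ} (hn : n = 2 * m + 1)
    (hQ : ∀ i j, ∃ r, QuadraticMap.polar Q' (b' i) (b' j) = algebraMap R R' r) :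
    topElt Q' b' m ∈ Submodule.span R {x | ∃ w : List (Fin n), Odd w.length ∧ x = mon Q' b' w} := by
  have h := Submodule.mem_map_of_mem
    (f := ((2 : R') ^ m • LinearMap.id : CliffordAlgebra Q' →ₗ[R'] CliffordAlgebra Q').restrictScalars R)
    (symm'_mon_mem Q' b' hQ (List.finRange n))
  rw [fil, Submodule.map_span] at h
  refine Submodule.span_le.2 ?_ h
  rintro _ ⟨_, ⟨j, w, hw, rfl⟩, rfl⟩
  rw [List.length_finRange] at hw
  simp only [LinearMap.coe_restrictScalars, LinearMap.smul_apply, LinearMap.id_apply, smul_smul]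
  rw [show (2 : R') ^ m * (⅟2 : R') ^ j = algebraMap R R' (2 ^ (m - j)) by
    rw [map_pow, map_ofNat, ← Nat.sub_add_cancel (show j ≤ m by omega), pow_add, mul_assoc,
      ← mul_pow, mul_invOf_self, one_pow, mul_one, Nat.add_sub_cancel], algebraMap_smul]
  exact Submodule.smul_mem _ _ (Submodule.subset_span ⟨w, ⟨m - j, by omega⟩, rfl⟩)

lemma topElt_mem_odd {m : ℕ} (hn : n = 2 * m + 1)
    (hQ : ∀ i j, ∃ r, QuadraticMap.polar Q' (b' i) (b' j) = algebraMap R R' r) :
    topElt Q' b' m ∈ evenOdd Q' 1 := by
  have h := topElt_mem_span_odd (R := R) Q' b' hn hQ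
  have hle : Submodule.span R {x | ∃ w : List (Fin n), Odd w.length ∧ x = mon Q' b' w} ≤
      (evenOdd Q' 1).restrictScalars R := by
    rw [Submodule.span_le]
    rintro _ ⟨w, hw, rfl⟩
    have := mon_mem_evenOdd Q' b' w
    rwa [(ZMod.natCast_eq_one_iff_odd.2 hw)] at this
  exact hle h

lemma topElt_comm {m : ℕ} (hn : n = 2 * m + 1)
    (hQ : ∀ i j, ∃ r, QuadraticMap.polar Q' (b' i) (b' j) = algebraMap R R' r) (v : M') :
    ι Q' v * topElt Q' b' m = topElt Q' b' m * ι Q' v := by
  have h := congrArg (symm' Q') (top_wedge b' v)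
  rw [map_zero, symm', changeForm_ι_mul, ← symm'] at h
  have h' : ι Q' v * topElt Q' b' m -
      contractLeft (QuadraticMap.associated (R := R') Q' v) (topElt Q' b' m) = 0 := by
    rw [topElt, mul_smul_comm, map_smul, ← smul_sub, h, smul_zero]
  rw [assoc_eq_half_polar, map_smul, LinearMap.smul_apply, contract_polar,
    involute_eq_of_mem_odd (topElt_mem_odd (R := R) Q' b' hn hQ), neg_mul, sub_neg_eq_add] at h'
  have h2 := congrArg ((2 : R') • ·) h'
  simp only [smul_sub, smul_zero, smul_smul, mul_invOf_self, one_smul, two_smul] at h2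
  rw [← sub_eq_zero, ← h2]; abel

omit [Algebra R R'] [Module R M'] [IsScalarTower R R' M'] [Invertible (2 : R')] in
lemma mon_star (c : Fin n → M') (horth : ∀ i j, i ≠ j → QuadraticMap.polar Q' (c i) (c j) = 0) :
    ∀ l : List (Fin n), l.Nodup →
      star (mon Q' c l) = ((-1 : R') ^ ((l.length + 1).choose 2)) • mon Q' c l
  | [], _ => by simp [mon_nil]
  | a :: l, h => by
    obtain ⟨ha, hl⟩ := List.nodup_cons.1 h
    rw [mon_cons, star_mul, star_ι, mon_star c horth l hl, mul_neg, smul_mul_assoc,
      mon_mul_ι Q' c a l fun i hi => horth _ _ ?_, smul_smul, ← neg_smul, List.length_cons,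
      Nat.choose_succ_succ' (l.length + 1) 1, Nat.choose_one_right, pow_add, pow_succ]
    · congr 1; ring
    · rintro rfl; exact ha hi

end Top

section Field

variable {K : Type u} [Field K] [Invertible (2 : K)] {n : ℕ} (Q : QuadraticForm K (Fin n → K))

/-- The square and the conjugate of the top element in odd rank. -/
theorem topElt_sq_star_odd {m : ℕ} (hn : n = 2 * m + 1) :
    (∃ ε : K, ε * ε = 1 ∧
      topElt Q (Pi.basisFun K (Fin n)) m * topElt Q (Pi.basisFun K (Fin n)) m =
        algebraMap K _ (ε * (QuadGrpLib.polarMat (Pi.basisFun K (Fin n)) Q).det * ⅟2)) ∧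
      star (topElt Q (Pi.basisFun K (Fin n)) m) =
        ((-1 : K) ^ (m + 1)) • topElt Q (Pi.basisFun K (Fin n)) m := by
  classical
  set b := Pi.basisFun K (Fin n) with hb
  obtain ⟨v₀, hv₀⟩ := LinearMap.BilinForm.exists_orthogonal_basis
    (B := (Q.polarBilin : LinearMap.BilinForm K (Fin n → K)))
    ⟨fun x y => by simp [QuadraticMap.polar_comm]⟩
  let v := v₀.reindex (finCongr (Module.finrank_fin_fun K))
  have horth : ∀ i j, i ≠ j → QuadraticMap.polar Q (v i) (v j) = 0 := fun i j hij => by
    simpa [v] using hv₀ (fun h => hij ((finCongr (Module.finrank_fin_fun K)).symm.injective h))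
  have hc : b.det v ≠ 0 := (b.isUnit_det v).ne_zero
  have hwedge : mon (0 : QuadraticForm K (Fin n → K)) v (List.finRange n) =
      b.det v • mon (0 : QuadraticForm K (Fin n → K)) b (List.finRange n) := by
    refine (cbasis b (0 : QuadraticForm K (Fin n → K))).ext_elem fun s => ?_
    have := AlternatingMap.eq_smul_basis_det b
      (((cbasis b (0 : QuadraticForm K (Fin n → K))).coord s).compAlternatingMap (ExteriorAlgebra.ιMulti K n))
    have h2 := congrArg (fun f => f v) this
    simp only [LinearMap.compAlternatingMap_apply, AlternatingMap.smul_apply, Module.Basis.coord_apply,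
      ExteriorAlgebra.ιMulti_apply, List.ofFn_eq_map, smul_eq_mul] at h2
    rw [map_smul, Finsupp.smul_apply, smul_eq_mul, mul_comm]
    exact h2
  have hsym : symm' Q (mon 0 v (List.finRange n)) = mon Q v (List.finRange n) := by
    refine changeForm_mon _ _ _ ((List.nodup_finRange n).imp fun hij => ?_)
    rw [assoc_eq_half_polar, LinearMap.smul_apply, QuadraticMap.polarBilin_apply_apply,
      horth _ _ hij, smul_zero]
  have hW : b.det v • topElt Q b m = (2 : K) ^ m • mon Q v (List.finRange n) := by
    rw [topElt, smul_comm, ← map_smul, ← hwedge, hsym]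
  refine ⟨?_, ?_⟩
  · obtain ⟨ε, hε, hsq⟩ := mon_sq Q v horth (List.finRange n) (List.nodup_finRange n)
    refine ⟨ε, hε, ?_⟩
    have hdet : b.det v ^ 2 * (QuadGrpLib.polarMat b Q).det = 2 ^ n * ∏ i, Q (v i) := by
      have h := LinearMap.BilinForm.toMatrix_mul_basis_toMatrix b v (Q.polarBilin : LinearMap.BilinForm K (Fin n → K))
      have hv : LinearMap.BilinForm.toMatrix v (Q.polarBilin : LinearMap.BilinForm K (Fin n → K)) =
          Matrix.diagonal fun i => 2 * Q (v i) := by
        ext i j
        rw [LinearMap.BilinForm.toMatrix_apply, QuadraticMap.polarBilin_apply_apply]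
        rcases eq_or_ne i j with rfl | hij
        · simp [QuadraticMap.polar_self, two_mul, two_smul]
        · rw [Matrix.diagonal_apply_ne _ hij, horth i j hij]
      have hP : LinearMap.BilinForm.toMatrix b (Q.polarBilin : LinearMap.BilinForm K (Fin n → K)) =
          QuadGrpLib.polarMat b Q := by
        ext i j; rw [LinearMap.BilinForm.toMatrix_apply]; rfl
      rw [hv, hP] at h
      have h' := congrArg Matrix.det h
      rw [Matrix.det_mul, Matrix.det_mul, Matrix.det_transpose, Matrix.det_diagonal,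
        Finset.prod_mul_distrib, Finset.prod_const, Finset.card_univ, Fintype.card_fin,
        ← Module.Basis.det_apply] at h'
      linear_combination h'
    have h3 := congrArg (fun x => x * x) hW
    simp only [smul_mul_smul_comm, hsq] at h3
    rw [Algebra.smul_def ((2 : K) ^ m * _), ← map_mul (algebraMap K (CliffordAlgebra Q))] at h3
    have h4 : (b.det v * b.det v) • (topElt Q b m * topElt Q b m) = (b.det v * b.det v) •
        algebraMap K (CliffordAlgebra Q) (ε * (QuadGrpLib.polarMat b Q).det * ⅟2) := by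
      rw [h3, Algebra.smul_def, ← map_mul (algebraMap K (CliffordAlgebra Q))]
      congr 1
      rw [← List.ofFn_eq_map, List.prod_ofFn]
      have hp : (2 : K) ^ n = 2 ^ m * 2 ^ m * 2 := by rw [hn]; ring
      rw [hp] at hdet
      linear_combination (-(ε * ⅟2)) * hdet + (-(ε * 2 ^ m * 2 ^ m * ∏ i, Q (v i))) * invOf_mul_self (2 : K)
    exact smul_right_injective _ (mul_ne_zero hc hc) h4
  · have hstar : ∀ (r : K) (y : CliffordAlgebra Q), star (r • y) = r • star y := fun r y => by
      rw [star_def, star_def, map_smul, map_smul]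
    refine smul_right_injective (CliffordAlgebra Q) hc ?_
    simp only
    rw [← hstar, smul_comm (b.det v) ((-1 : K) ^ (m + 1)), hW, hstar,
      mon_star Q v horth _ (List.nodup_finRange n), smul_comm ((2 : K) ^ m), List.length_finRange]
    congr 1
    subst hn
    have he : (2 * m + 1 + 1).choose 2 = (m + 1) * (2 * m + 1) := by
      rw [Nat.choose_two_right, show (2 * m + 1 + 1) * (2 * m + 1 + 1 - 1) = 2 * ((m + 1) * (2 * m + 1)) by
        rw [Nat.add_sub_cancel]; ring, Nat.mul_div_cancel_left _ (by norm_num)]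
    rw [he, mul_comm (m + 1), pow_mul, Odd.neg_one_pow ⟨m, rfl⟩]

end Field

section Universal

theorem exists_odd_centre_universal {U : Type u} [CommRing U] [IsDomain U] (h2 : (2 : U) ≠ 0)
    {n m : ℕ} (hn : n = 2 * m + 1) (a : Sym2 (Fin n) → U) (hd : IsUnit (QuadGrpLib.hd a)) :
    ∃ η ∈ evenOdd (qf a) 1, ∃ t : U, IsUnit t ∧ η * η = algebraMap U _ t ∧
      (∀ v, ι (qf a) v * η = η * ι (qf a) v) ∧ star η = ((-1 : U) ^ (m + 1)) • η ∧
      topc (Pi.basisFun U (Fin n)) (qf a) η = 2 ^ m := by
  classical
  set Q := qf a with hQ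
  set b := Pi.basisFun U (Fin n) with hb
  let K := FractionRing U
  have hinj : Function.Injective (algebraMap U K) := IsFractionRing.injective U K
  have hK2 : (2 : K) ≠ 0 := by
    rw [← map_ofNat (algebraMap U K) 2]
    exact fun h => h2 (hinj (h.trans (map_zero _).symm))
  letI : Invertible (2 : K) := invertibleOfNonzero hK2
  set b' := Pi.basisFun K (Fin n) with hb'
  set Q' := qf (algebraMap U K ∘ a) with hQ'
  let e := (Algebra.linearMap U K).compLeft (Fin n)
  have he : ∀ v, Q' (e v) = algebraMap U K (Q v) := fun v => map_qf a v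
  have hbb : ∀ i, e (b i) = b' i := compLeft_single
  have hpol : ∀ i j, ∃ r, QuadraticMap.polar Q' (b' i) (b' j) = algebraMap U K r := fun i j =>
    ⟨QuadGrpLib.polarOf a i j, by
      have := congrFun (congrFun (polarMat_qf (algebraMap U K ∘ a)) i) j
      rw [QuadGrpLib.polarMat, Matrix.of_apply, ← QuadGrpLib.map_polarOf, Matrix.map_apply] at this
      exact this⟩
  obtain ⟨W, hW1, hW⟩ : ∃ W ∈ evenOdd Q 1, cmap e he W = topElt Q' b' m := by
    have h := topElt_mem_span_odd (R := U) Q' b' hn hpol
    have hle : Submodule.span U {x | ∃ w : List (Fin n), Odd w.length ∧ x = mon Q' b' w} ≤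
        (evenOdd Q 1).map (cmap e he).toLinearMap := by
      rw [Submodule.span_le]
      rintro _ ⟨w, hw, rfl⟩
      refine ⟨mon Q b w, ?_, cmap_mon e he b b' hbb w⟩
      have := mon_mem_evenOdd Q b w
      rwa [ZMod.natCast_eq_one_iff_odd.2 hw] at this
    exact hle h
  have cinj := cmap_injective e he b b' hbb hinj
  obtain ⟨⟨ε, hε, hsq⟩, hst⟩ := topElt_sq_star_odd Q' hn
  set t : U := (cbasis b Q).repr (W * W) ∅
  have hWW : W * W = algebraMap U _ t := by
    refine (cbasis b Q).ext_elem fun s => hinj ?_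
    rw [← cmap_repr e he b b' hbb, map_mul, hW, hsq, algebraMap_repr, algebraMap_repr]
    split_ifs with hs
    · subst hs
      rw [← cmap_repr e he b b' hbb, map_mul, hW, hsq, algebraMap_repr, if_pos rfl]
    · rw [map_zero]
  refine ⟨W, hW1, t, ?_, hWW, fun v => cinj ?_, cinj ?_, hinj ?_⟩
  · have h5 := congrArg (cmap e he) hWW
    rw [map_mul, hW, hsq, AlgHom.commutes, IsScalarTower.algebraMap_apply U K] at h5
    have h6 := algebraMap_injective b' Q' h5
    rw [polarMat_qf, ← QuadGrpLib.map_polarOf, ← RingHom.mapMatrix_apply, ← RingHom.map_det,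
      ← QuadGrpLib.two_mul_hd (hn ▸ ⟨m, rfl⟩) a, map_mul, map_ofNat] at h6
    have h7 : t * t = QuadGrpLib.hd a * QuadGrpLib.hd a := hinj (by
      rw [map_mul, map_mul, ← h6]
      linear_combination (2 * algebraMap U K (QuadGrpLib.hd a) * ⅟2) ^ 2 * hε +
        (algebraMap U K (QuadGrpLib.hd a)) ^ 2 * (2 * ⅟2 + 1) * mul_invOf_self (2 : K))
    exact isUnit_of_mul_isUnit_left (h7 ▸ hd.mul hd)
  · rw [map_mul, map_mul, cmap_ι, hW, topElt_comm (R := U) Q' b' hn hpol]
  · rw [cmap_star, hW, hst, map_smul, hW, ← algebraMap_smul K ((-1 : U) ^ (m + 1)), map_pow, map_neg,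
      map_one]
  · rw [topc, Module.Basis.coord_apply, ← cmap_repr e he b b' hbb, hW, map_pow, map_ofNat, topElt,
      map_smul, Finsupp.smul_apply, smul_eq_mul]
    have h := topc_changeForm_top b' Q' (symBilin_spec (Q' := Q'))
    rw [topc, Module.Basis.coord_apply] at h
    rw [symm', h, mul_one]

/-- The odd central unit. -/
theorem exists_odd_centre {R : Type u} [CommRing R] {M : Type v} [AddCommGroup M] [Module R M]
    {m : ℕ} (b : Module.Basis (Fin (2 * m + 1)) R M) {Q : QuadraticForm R M}
    (hQ : QuadGrp.IsSemiregular b (LinearEquiv.refl R R) Q) :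
    ∃ η ∈ evenOdd Q 1, ∃ t : R, IsUnit t ∧ η * η = algebraMap R _ t ∧
      (∀ x, x * η = η * x) ∧ star η = ((-1 : R) ^ (m + 1)) • η := by
  classical
  by_cases hR : Subsingleton R
  · haveI := hR
    haveI : Subsingleton (CliffordAlgebra Q) := Module.subsingleton R _
    exact ⟨0, Submodule.zero_mem _, 0, isUnit_of_subsingleton _, Subsingleton.elim _ _,
      fun _ => Subsingleton.elim _ _, Subsingleton.elim _ _⟩
  let U₀ := MvPolynomial (Sym2 (Fin (2 * m + 1))) ℤ
  let φ₀ : U₀ →+* R :=
    MvPolynomial.eval₂Hom (Int.castRingHom R) (QuadGrp.coeffs b (LinearEquiv.refl R R) Q)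
  set g : U₀ := QuadGrp.halfDiscUniv (2 * m + 1) with hg
  have hφ : IsUnit (φ₀ g) := hQ
  have hne : g ≠ 0 := fun h => by
    rw [h, map_zero, isUnit_zero_iff] at hφ
    exact hR (subsingleton_of_zero_eq_one hφ)
  let U := Localization.Away g
  haveI : IsDomain U := IsLocalization.isDomain_localization
    (Submonoid.powers_le.2 (mem_nonZeroDivisors_of_ne_zero hne))
  have h2 : (2 : U) ≠ 0 := by
    rw [← map_ofNat (algebraMap U₀ U) 2]
    intro h
    have h' := IsLocalization.injective U
      (Submonoid.powers_le.2 (mem_nonZeroDivisors_of_ne_zero hne)) (h.trans (map_zero _).symm)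
    have := congrArg (MvPolynomial.constantCoeff : U₀ →+* ℤ) h'
    simp [map_ofNat] at this
  let φ : U →+* R := IsLocalization.Away.lift g (g := φ₀) hφ
  letI : Algebra U R := φ.toAlgebra
  let a : Sym2 (Fin (2 * m + 1)) → U := fun x => algebraMap U₀ U (MvPolynomial.X x)
  have ha : algebraMap U R ∘ a = QuadGrp.coeffs b (LinearEquiv.refl R R) Q := by
    funext x
    simp only [Function.comp_apply, a]
    rw [RingHom.algebraMap_toAlgebra, IsLocalization.Away.lift_eq]
    exact MvPolynomial.eval₂Hom_X' _ _ _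
  have hd : IsUnit (QuadGrpLib.hd a) := by
    have h : algebraMap U₀ U g = QuadGrpLib.hd a := by
      have := QuadGrpLib.map_hd (algebraMap U₀ U) (MvPolynomial.X : Sym2 (Fin (2 * m + 1)) → U₀)
      refine Eq.trans (congrArg _ ?_) this
      rw [QuadGrpLib.hd, hg]
      exact (MvPolynomial.eval₂_eta _).symm
    exact h ▸ IsLocalization.Away.algebraMap_isUnit g
  obtain ⟨η, hη, t, ht, hηη, hcomm, hstar, -⟩ := exists_odd_centre_universal h2 rfl a hd
  let e₀ := (Algebra.linearMap U R).compLeft (Fin (2 * m + 1))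
  have hQe : ∀ x, qf (QuadGrp.coeffs b (LinearEquiv.refl R R) Q) x = Q (b.equivFun.symm x) := fun x => by
    have h := DFunLike.congr_fun (qf_coeffs (Q.comp (b.equivFun.symm : (Fin (2 * m + 1) → R) →ₗ[R] M))) x
    rw [QuadraticMap.comp_apply] at h
    refine Eq.trans ?_ h
    congr 2
    funext p
    induction p using Sym2.ind with
    | h i j =>
      have hs : ∀ k, b.equivFun.symm (Pi.basisFun R (Fin (2 * m + 1)) k) = b k := fun k => by simp
      simp only [QuadGrp.coeffs_mk, QuadraticMap.polar, QuadraticMap.comp_apply, LinearEquiv.coe_coe,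
        map_add, hs]
  letI : Module U M := Module.compHom M φ
  haveI : IsScalarTower U R M := ⟨fun u r x => by
    rw [Algebra.smul_def, mul_smul]; rfl⟩
  let e : (Fin (2 * m + 1) → U) →ₗ[U] M :=
    ((b.equivFun.symm : (Fin (2 * m + 1) → R) →ₗ[R] M).restrictScalars U) ∘ₗ e₀
  have he : ∀ x, Q (e x) = algebraMap U R (qf a x) := fun x => by
    rw [← map_qf, ha, hQe]; rfl
  refine ⟨cmap e he η, cmap_mem_evenOdd e he 1 hη, algebraMap U R t, ht.map _, ?_,
    commute_of_basis b Q _ fun i => ?_, ?_⟩
  · have := congrArg (cmap e he) hηη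
    rw [map_mul, AlgHom.commutes, IsScalarTower.algebraMap_apply U R] at this
    exact this
  · have hi : e (Pi.basisFun U (Fin (2 * m + 1)) i) = b i := by
      change b.equivFun.symm (e₀ (Pi.basisFun U (Fin (2 * m + 1)) i)) = b i
      rw [compLeft_single]
      simp
    have := congrArg (cmap e he) (hcomm (Pi.basisFun U (Fin (2 * m + 1)) i))
    rw [map_mul, map_mul, cmap_ι, hi] at this
    exact this
  · rw [← cmap_star, hstar, map_smul, ← algebraMap_smul R ((-1 : U) ^ (m + 1)), map_pow, map_neg, map_one]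

end Universal

end Groth.Agent.CliffRegLib
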