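import Groth.Agent.CliffRegLib.CentreElt
import Groth.Agent.QuadGrpLib.Refl
import Mathlib.RingTheory.LocalRing.MaximalIdeal.Basic

/-!
# Structure of the Clifford algebra of a regular form of even rank
-/

set_option autoImplicit false
set_option backward.isDefEq.respectTransparency false

universe u v

open CliffordAlgebra

namespace Groth.Agent.CliffRegLib

variable {R : Type u} [CommRing R] {M : Type v} [AddCommGroup M] [Module R M] {n : ℕ}

/-- An even element with the properties of the generator of the centre of the even part. -/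
structure CentreDatum (Q : QuadraticForm R M) (z : CliffordAlgebra Q) (s t : R) : Prop where
  even : z ∈ evenOdd Q 0
  rel : ∀ v, ι Q v * z + z * ι Q v = s • ι Q v
  sq : z * z = s • z + algebraMap R _ t
  unit : IsUnit (s * s + 4 * t)

theorem exists_centreDatum {m : ℕ} (b : Module.Basis (Fin (2 * m)) R M) {Q : QuadraticForm R M}
    (hQ : QuadGrp.IsRegular Q) : ∃ z s t, CentreDatum Q z s t := by
  obtain ⟨z, hz, s, t, h1, h2, h3⟩ := exists_centre_elt b hQ
  exact ⟨z, s, t, ⟨hz, h1, h2, h3⟩⟩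

/-- The values of a regular form of positive rank generate the unit ideal. -/
theorem span_range_eq_top (b : Module.Basis (Fin n) R M) (hn : 0 < n) {Q : QuadraticForm R M}
    (hQ : QuadGrp.IsRegular Q) : Ideal.span (Set.range Q) = ⊤ := by
  classical
  by_contra hne
  obtain ⟨p, hp, hle⟩ := Ideal.exists_le_maximal _ hne
  haveI : Nonempty (Fin n) := ⟨⟨0, hn⟩⟩
  have h0 : (QuadGrpLib.polarMat b Q).map (Ideal.Quotient.mk p) = 0 := by
    ext i j
    rw [Matrix.map_apply, Matrix.zero_apply, Ideal.Quotient.eq_zero_iff_mem, QuadGrpLib.polarMat,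
      Matrix.of_apply, QuadraticMap.polar]
    have hm : ∀ x, Q x ∈ p := fun x => hle (Ideal.subset_span ⟨x, rfl⟩)
    exact Ideal.sub_mem _ (Ideal.sub_mem _ (hm _) (hm _)) (hm _)
  have hu := (QuadGrpLib.isUnit_det_polarMat b hQ).map (Ideal.Quotient.mk p)
  rw [RingHom.map_det, RingHom.mapMatrix_apply, h0, Matrix.det_zero] at hu
  haveI := Ideal.Quotient.nontrivial_iff.2 hp.ne_top
  exact not_isUnit_zero hu

/-- Cancellation by the values of the form. -/
lemma eq_zero_of_span {N : Type*} [AddCommGroup N] [Module R N] {Q : QuadraticForm R M}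
    (hspan : Ideal.span (Set.range Q) = ⊤) (x : N) (h : ∀ v, Q v • x = 0) : x = 0 := by
  have hle : Ideal.span (Set.range Q) ≤ LinearMap.ker (LinearMap.toSpanSingleton R N x) := by
    rw [Ideal.span_le]
    rintro _ ⟨v, rfl⟩
    simpa using h v
  have := hle (hspan ▸ Submodule.mem_top : (1 : R) ∈ Ideal.span (Set.range Q))
  simpa using this

lemma exists_isUnit_value [IsLocalRing R] {Q : QuadraticForm R M}
    (hspan : Ideal.span (Set.range Q) = ⊤) : ∃ v, IsUnit (Q v) := by
  by_contra h
  push Not at h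
  refine (inferInstance : (IsLocalRing.maximalIdeal R).IsMaximal).ne_top (top_le_iff.1 (hspan ▸ Ideal.span_le.2 ?_))
  rintro _ ⟨v, rfl⟩
  exact h v

namespace CentreDatum

variable {Q : QuadraticForm R M} {z : CliffordAlgebra Q} {s t : R} (D : CentreDatum Q z s t)
include D

lemma ι_mul (v : M) : ι Q v * z = (algebraMap R _ s - z) * ι Q v := by
  rw [sub_mul, ← Algebra.smul_def, ← D.rel v]; abel

lemma mul_ι (v : M) : z * ι Q v = ι Q v * (algebraMap R _ s - z) := by
  rw [mul_sub, ← Algebra.commutes, ← Algebra.smul_def, ← D.rel v]; abel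

/-- The square root of the discriminant. -/
lemma ι_mul_w (v : M) :
    ι Q v * ((2 : R) • z - algebraMap R _ s) = -(((2 : R) • z - algebraMap R _ s) * ι Q v) := by
  rw [mul_sub, sub_mul, mul_smul_comm, smul_mul_assoc, ← Algebra.commutes, two_smul, two_smul,
    eq_neg_iff_add_eq_zero]
  have h := D.rel v
  rw [Algebra.smul_def] at h
  calc _ = (ι Q v * z + z * ι Q v - algebraMap R _ s * ι Q v) +
      (ι Q v * z + z * ι Q v - algebraMap R _ s * ι Q v) := by abel
    _ = 0 := by rw [h, sub_self, add_zero]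

lemma w_sq : ((2 : R) • z - algebraMap R _ s) * ((2 : R) • z - algebraMap R _ s) =
    algebraMap R _ (s * s + 4 * t) := by
  simp only [Algebra.algebraMap_eq_smul_one, mul_sub, sub_mul, smul_mul_assoc, mul_smul_comm,
    mul_one, one_mul, D.sq, smul_smul, smul_add]
  module

lemma w_isUnit : IsUnit ((2 : R) • z - algebraMap R _ s) := by
  obtain ⟨u, hu⟩ := D.unit
  refine isUnit_iff_exists.2 ⟨(↑u⁻¹ : R) • ((2 : R) • z - algebraMap R _ s), ?_, ?_⟩
  · rw [mul_smul_comm, D.w_sq, ← hu, Algebra.smul_def, ← map_mul, Units.inv_mul, map_one]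
  · rw [smul_mul_assoc, D.w_sq, ← hu, Algebra.smul_def, ← map_mul, Units.inv_mul, map_one]

lemma w_mem : (2 : R) • z - algebraMap R _ s ∈ evenOdd Q 0 := by
  refine Submodule.sub_mem _ (Submodule.smul_mem _ _ D.even) ?_
  rw [Algebra.algebraMap_eq_smul_one]
  exact Submodule.smul_mem _ _ (SetLike.one_mem_graded (evenOdd Q))

lemma commute_even {x : CliffordAlgebra Q} (hx : x ∈ evenOdd Q 0) : z * x = x * z := by
  induction x, hx using CliffordAlgebra.even_induction with
  | algebraMap r => rw [Algebra.commutes]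
  | add x y _ _ hx hy => rw [mul_add, add_mul, hx, hy]
  | ι_mul_ι_mul m₁ m₂ x _ hx =>
    rw [mul_assoc (ι Q m₁ * ι Q m₂) x z, ← hx, ← mul_assoc, ← mul_assoc, ← mul_assoc, D.mul_ι m₁,
      mul_assoc (ι Q m₁) _ (ι Q m₂), ← D.ι_mul m₂, ← mul_assoc]

lemma odd_mul {x : CliffordAlgebra Q} (hx : x ∈ evenOdd Q 1) :
    x * z = (algebraMap R _ s - z) * x := by
  induction x, hx using CliffordAlgebra.odd_induction with
  | ι v => exact D.ι_mul v
  | add x y _ _ hx hy => rw [add_mul, mul_add, hx, hy]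
  | ι_mul_ι_mul m₁ m₂ x _ hx =>
    rw [mul_assoc, hx, ← mul_assoc, ← mul_assoc]
    congr 1
    have h : ι Q m₁ * ι Q m₂ ∈ evenOdd Q 0 := ι_mul_ι_mem_evenOdd_zero Q m₁ m₂
    rw [mul_sub, sub_mul, ← D.commute_even h, ← Algebra.commutes]

lemma eq_zero_of_anticomm {x : CliffordAlgebra Q}
    (h : ((2 : R) • z - algebraMap R _ s) * x = 0) : x = 0 := by
  obtain ⟨u, hu⟩ := D.w_isUnit
  rw [← hu] at h
  exact u.mul_right_eq_zero.1 h

/-- The centraliser of `z` is the even part. -/
lemma mem_even_of_commute {x : CliffordAlgebra Q} (h : z * x = x * z) : x ∈ evenOdd Q 0 := by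
  obtain ⟨x₀, hx₀, x₁, hx₁, rfl⟩ := Submodule.mem_sup.1
    ((evenOdd_isCompl (Q := Q)).sup_eq_top.symm ▸ Submodule.mem_top : x ∈ evenOdd Q 0 ⊔ evenOdd Q 1)
  rw [mul_add, add_mul, D.commute_even hx₀, D.odd_mul hx₁, add_left_cancel_iff] at h
  have h1 : x₁ = 0 := D.eq_zero_of_anticomm (by
    rw [sub_mul, smul_mul_assoc, two_smul]
    rw [sub_mul] at h
    nth_rewrite 1 [h]
    abel)
  rw [h1, add_zero]
  exact hx₀

/-- An element intertwining `z` with its conjugate is odd. -/
lemma mem_odd_of_anticommute {x : CliffordAlgebra Q} (h : x * z = (algebraMap R _ s - z) * x) :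
    x ∈ evenOdd Q 1 := by
  obtain ⟨x₀, hx₀, x₁, hx₁, rfl⟩ := Submodule.mem_sup.1
    ((evenOdd_isCompl (Q := Q)).sup_eq_top.symm ▸ Submodule.mem_top : x ∈ evenOdd Q 0 ⊔ evenOdd Q 1)
  rw [mul_add, add_mul, ← D.commute_even hx₀, D.odd_mul hx₁, add_right_cancel_iff] at h
  have h1 : x₀ = 0 := D.eq_zero_of_anticomm (by
    rw [sub_mul, smul_mul_assoc, two_smul]
    rw [sub_mul] at h
    nth_rewrite 1 [h]
    abel)
  rw [h1, zero_add]
  exact hx₁

/-- The centre of the Clifford algebra consists of scalars. -/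
lemma eq_scalar_of_central (b : Module.Basis (Fin n) R M) (hQ : QuadGrp.IsRegular Q)
    {x : CliffordAlgebra Q} (h : ∀ y, y * x = x * y) : ∃ r, x = algebraMap R _ r :=
  ⟨_, eq_algebraMap_of_commute b hQ.2 (D.mem_even_of_commute (h z)) fun v => h _⟩

variable (hspan : Ideal.span (Set.range Q) = ⊤)
include hspan

lemma eq_zero_of_smul_z {a c : R} (b : Module.Basis (Fin n) R M)
    (h : a • z + algebraMap R (CliffordAlgebra Q) c = 0) : a = 0 ∧ c = 0 := by
  have hw : a • ((2 : R) • z - algebraMap R (CliffordAlgebra Q) s) = 0 := by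
    refine eq_zero_of_span hspan _ fun v => ?_
    have h1 : ι Q v * (a • z + algebraMap R (CliffordAlgebra Q) c) -
        (a • z + algebraMap R (CliffordAlgebra Q) c) * ι Q v = 0 := by
      rw [h, mul_zero, zero_mul, sub_zero]
    rw [mul_add, add_mul, ← Algebra.commutes, mul_smul_comm, smul_mul_assoc, add_sub_add_right_eq_sub,
      ← smul_sub, D.ι_mul v, sub_mul] at h1
    have h2 : a • (((2 : R) • z - algebraMap R (CliffordAlgebra Q) s) * ι Q v) = 0 := by
      rw [sub_mul, smul_mul_assoc, two_smul, ← neg_eq_zero, ← smul_neg, ← h1]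
      congr 1; abel
    have h3 := congrArg (· * ι Q v) h2
    simp only [smul_mul_assoc, mul_assoc, ι_sq_scalar, zero_mul] at h3
    rw [← Algebra.commutes, ← Algebra.smul_def, smul_comm] at h3
    exact h3
  have ha : a = 0 := by
    have h2 := congrArg (· * ((2 : R) • z - algebraMap R (CliffordAlgebra Q) s)) hw
    simp only [smul_mul_assoc, D.w_sq, zero_mul] at h2
    rw [Algebra.smul_def, ← map_mul, ← map_zero (algebraMap R (CliffordAlgebra Q))] at h2
    exact D.unit.mul_left_eq_zero.1 (algebraMap_injective b Q h2)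
  refine ⟨ha, algebraMap_injective b Q ?_⟩
  rw [ha, zero_smul, zero_add] at h
  rw [h, map_zero]

/-- The centre of the even part is spanned by `1` and `z`. -/
theorem centre_even (b : Module.Basis (Fin n) R M) (hQ : QuadGrp.IsRegular Q) {x : CliffordAlgebra Q}
    (hx : x ∈ evenOdd Q 0) (h : ∀ y ∈ evenOdd Q 0, y * x = x * y) :
    ∃ a c : R, x = a • z + algebraMap R _ c := by
  classical
  set w := (2 : R) • z - algebraMap R (CliffordAlgebra Q) s with hw
  have hstar : ∀ u v, ι Q u * (ι Q v * x - x * ι Q v) = -((ι Q u * x - x * ι Q u) * ι Q v) := by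
    intro u v
    have := h _ (ι_mul_ι_mem_evenOdd_zero Q u v)
    rw [mul_sub, ← mul_assoc, this, sub_mul, neg_sub]
    simp only [mul_assoc]
  obtain ⟨l, hl⟩ := (Finsupp.mem_span_range_iff_exists_finsupp).1
    (hspan ▸ Submodule.mem_top : (1 : R) ∈ Ideal.span (Set.range Q))
  let K : CliffordAlgebra Q := ∑ u ∈ l.support, l u • -(ι Q u * (ι Q u * x - x * ι Q u))
  have hK0 : K ∈ evenOdd Q 0 := by
    refine Submodule.sum_mem _ fun u _ => Submodule.smul_mem _ _ (Submodule.neg_mem _ ?_)
    rw [mul_sub, ← mul_assoc, ι_sq_scalar, ← Algebra.smul_def, ← mul_assoc]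
    refine Submodule.sub_mem _ (Submodule.smul_mem _ _ hx) ?_
    have h11 : (1 : ZMod 2) + 0 + 1 = 0 := by decide
    have := SetLike.mul_mem_graded (SetLike.mul_mem_graded (ι_mem_evenOdd_one Q u) hx)
      (ι_mem_evenOdd_one Q u)
    rwa [h11] at this
  have hKv : ∀ v, ι Q v * x - x * ι Q v = K * ι Q v := by
    intro v
    have hsum : (∑ u ∈ l.support, l u • Q u) = 1 := hl
    calc ι Q v * x - x * ι Q v = (1 : R) • (ι Q v * x - x * ι Q v) := (one_smul _ _).symm
      _ = ∑ u ∈ l.support, (l u • Q u) • (ι Q v * x - x * ι Q v) := by rw [← Finset.sum_smul, hsum]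
      _ = K * ι Q v := by
        rw [Finset.sum_mul]
        refine Finset.sum_congr rfl fun u _ => ?_
        rw [smul_eq_mul, mul_smul, Algebra.smul_def (Q u), ← ι_sq_scalar, mul_assoc, hstar,
          smul_mul_assoc, mul_neg, neg_mul, mul_assoc]
  have hx' : ∀ v, ι Q v * x = (x + K) * ι Q v := fun v => by
    rw [add_mul, ← hKv]; abel
  have hx'' : ∀ v, ι Q v * (x + K) = x * ι Q v := by
    intro v
    refine sub_eq_zero.1 (eq_zero_of_span hspan _ fun u => ?_)
    rw [Algebra.smul_def, Algebra.commutes, ← ι_sq_scalar, ← mul_assoc, sub_mul, mul_assoc (ι Q v),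
      ← hx' u, ← mul_assoc, h _ (ι_mul_ι_mem_evenOdd_zero Q v u), ← mul_assoc, sub_self, zero_mul]
  have hanti : ∀ v, ι Q v * K = -(K * ι Q v) := fun v => by
    have h1 := hx'' v
    rw [mul_add] at h1
    rw [eq_sub_of_add_eq' h1, ← hKv, neg_sub]
  have hcomm : ∀ v, ι Q v * (w * K) = w * K * ι Q v := fun v => by
    rw [← mul_assoc, hw, D.ι_mul_w, neg_mul, mul_assoc, hanti, mul_neg, neg_neg, mul_assoc]
  have hwK := eq_algebraMap_of_commute b hQ.2
    (x := w * K) (by simpa using SetLike.mul_mem_graded D.w_mem hK0) hcomm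
  obtain ⟨d, hd⟩ := D.unit
  set κ := (↑d⁻¹ : R) * (cbasis b Q).repr (w * K) ∅ with hκ
  have hK : K = κ • w := by
    have h1 := congrArg (w * ·) hwK
    simp only [← mul_assoc] at h1
    rw [hw, D.w_sq, ← hd, ← Algebra.smul_def, ← Algebra.commutes, ← Algebra.smul_def, ← hw] at h1
    rw [hκ, mul_smul, ← h1, smul_smul, Units.inv_mul, one_smul]
  refine ⟨-κ, (cbasis b Q).repr (x + κ • z) ∅, ?_⟩
  have hy := eq_algebraMap_of_commute b hQ.2 (x := x + κ • z)
    (Submodule.add_mem _ hx (Submodule.smul_mem _ _ D.even)) fun v => by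
      rw [mul_add, add_mul, mul_smul_comm, smul_mul_assoc, hx', D.ι_mul, hK, hw]
      simp only [add_mul, sub_mul, smul_sub, smul_mul_assoc, two_smul, smul_add]
      abel
  rw [← hy, neg_smul]
  abel

end CentreDatum

section Isometry

variable {Q : QuadraticForm R M} (g : M ≃ₗ[R] M) (hg : g ∈ QuadGrp.O Q)

/-- The automorphism of the Clifford algebra induced by an isometry. -/
noncomputable def fmap : CliffordAlgebra Q →ₐ[R] CliffordAlgebra Q :=
  cmap g.toLinearMap (Q := Q) (Q' := Q) fun v => hg v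

@[simp] lemma fmap_ι (v : M) : fmap g hg (ι Q v) = ι Q (g v) := cmap_ι _ _ _

lemma map_eq_fmap : CliffordAlgebra.map (QuadGrp.isometryOfMem Q g hg) = fmap g hg :=
  CliffordAlgebra.hom_ext (LinearMap.ext fun v => by
    change map _ (ι Q v) = fmap g hg (ι Q v)
    rw [map_apply_ι, fmap_ι, QuadGrp.isometryOfMem_apply])

lemma fmap_mem_evenOdd (i : ZMod 2) {x : CliffordAlgebra Q} (hx : x ∈ evenOdd Q i) :
    fmap g hg x ∈ evenOdd Q i :=
  cmap_mem_evenOdd _ _ i hx

lemma fmap_fmap_inv (x : CliffordAlgebra Q) :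
    fmap g hg (fmap g⁻¹ ((QuadGrp.O Q).inv_mem hg) x) = x := by
  have : (fmap g hg).comp (fmap g⁻¹ ((QuadGrp.O Q).inv_mem hg)) = AlgHom.id R _ :=
    CliffordAlgebra.hom_ext (LinearMap.ext fun v => by simp)
  exact DFunLike.congr_fun this x

namespace CentreDatum

variable {z : CliffordAlgebra Q} {s t : R} (D : CentreDatum Q z s t)
include D

/-- The Dickson invariant of an isometry. -/
theorem exists_dickson (hspan : Ideal.span (Set.range Q) = ⊤) (b : Module.Basis (Fin n) R M)
    (hQ : QuadGrp.IsRegular Q) :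
    ∃ ε : R, ε * ε = ε ∧ fmap g hg z = ε • z + (1 - ε) • (algebraMap R _ s - z) := by
  have hrel : ∀ v, ι Q v * fmap g hg z + fmap g hg z * ι Q v = s • ι Q v := fun v => by
    have h := congrArg (fmap g hg) (D.rel (g.symm v))
    rw [map_add, map_mul, map_mul, map_smul, fmap_ι, LinearEquiv.apply_symm_apply] at h
    exact h
  have hsq : fmap g hg z * fmap g hg z = s • fmap g hg z + algebraMap R _ t := by
    rw [← map_mul, D.sq, map_add, map_smul, AlgHom.commutes]
  obtain ⟨a, c, hac⟩ := D.centre_even hspan b hQ (fmap_mem_evenOdd g hg 0 D.even) fun y hy => by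
    conv_lhs => rw [← fmap_fmap_inv g hg y]
    conv_rhs => rw [← fmap_fmap_inv g hg y]
    rw [← map_mul, ← map_mul, D.commute_even (fmap_mem_evenOdd _ _ 0 hy)]
  have h1 : a * s + 2 * c - s = 0 := by
    refine eq_zero_of_span hspan _ fun v => algebraMap_injective b Q ?_
    have h := hrel v
    rw [hac, mul_add, add_mul, ← Algebra.commutes, mul_smul_comm, smul_mul_assoc] at h
    have h' : (a * s + 2 * c - s) • ι Q v = 0 := by
      rw [← sub_eq_zero] at h
      rw [← h]
      simp only [Algebra.algebraMap_eq_smul_one, smul_mul_assoc, one_mul]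
      linear_combination (norm := module) (-a) • D.rel v
    have h'' := congrArg (· * ι Q v) h'
    rw [smul_mul_assoc, ι_sq_scalar, zero_mul, Algebra.smul_def, ← map_mul] at h''
    rw [map_zero, smul_eq_mul, mul_comm]
    exact h''
  have hzero := D.eq_zero_of_smul_z hspan (a := a * a * s + 2 * (a * c) - a * s)
    (c := a * a * t + c * c - s * c - t) b (by
      have h : fmap g hg z * fmap g hg z - (s • fmap g hg z + algebraMap R _ t) = 0 :=
        sub_eq_zero.2 hsq
      rw [hac] at h
      refine Eq.trans ?_ h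
      simp only [Algebra.algebraMap_eq_smul_one, mul_add, add_mul, smul_mul_assoc, mul_smul_comm,
        mul_one, one_mul, D.sq, smul_smul, smul_add]
      module)
  have ha2 : a * a = 1 := D.unit.mul_left_cancel (by
    linear_combination 4 * hzero.2 - (2 * c - s - a * s) * h1)
  obtain ⟨d, hd⟩ := D.unit
  set ε : R := (↑d⁻¹ : R) * (2 * (a + 1) * t - s * (c - s)) with hε
  have hεd : ε * (s * s + 4 * t) = 2 * (a + 1) * t - s * (c - s) := by
    rw [hε, ← hd, mul_right_comm, Units.inv_mul, one_mul]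
  have ha : a = 2 * ε - 1 := D.unit.mul_right_cancel (by
    linear_combination (-2) * hεd + s * h1)
  have hc : c = (1 - ε) * s := D.unit.mul_right_cancel (by
    linear_combination s * hεd + (2 * t) * h1)
  refine ⟨ε, D.unit.mul_right_cancel ?_, ?_⟩
  · linear_combination hzero.2 - t * (a + 2 * ε - 1) * ha - (c + (1 - ε) * s - s) * hc
  · rw [hac, ha, hc, Algebra.algebraMap_eq_smul_one, Algebra.algebraMap_eq_smul_one]
    module

lemma dickson_unique (hspan : Ideal.span (Set.range Q) = ⊤) (b : Module.Basis (Fin n) R M)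
    {ε ε' : R}
    (h : ε • z + (1 - ε) • (algebraMap R (CliffordAlgebra Q) s - z) =
      ε' • z + (1 - ε') • (algebraMap R (CliffordAlgebra Q) s - z)) : ε = ε' := by
  have := D.eq_zero_of_smul_z hspan (a := 2 * (ε - ε')) (c := -((ε - ε') * s)) b (by
    have h' := sub_eq_zero.2 h
    refine Eq.trans ?_ h'
    rw [Algebra.algebraMap_eq_smul_one, Algebra.algebraMap_eq_smul_one]
    module)
  refine sub_eq_zero.1 (D.unit.mul_left_eq_zero.1 ?_)
  linear_combination (-s) * this.2 + (2 * t) * this.1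

/-- The Dickson condition in terms of `z`. -/
theorem dicksonTrivial_iff (hspan : Ideal.span (Set.range Q) = ⊤) (b : Module.Basis (Fin n) R M)
    (hQ : QuadGrp.IsRegular Q) :
    QuadGrp.IsDicksonTrivial Q g hg ↔ fmap g hg z = z := by
  constructor
  · intro h
    have := h ⟨z, D.even⟩ (Subalgebra.mem_center_iff.2 fun y => Subtype.ext (D.commute_even y.2).symm)
    rwa [map_eq_fmap] at this
  · intro h y hy
    obtain ⟨a, c, hac⟩ := D.centre_even hspan b hQ y.2 fun x hx =>
      congrArg Subtype.val (Subalgebra.mem_center_iff.1 hy ⟨x, hx⟩)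
    rw [map_eq_fmap, hac, map_add, map_smul, h, AlgHom.commutes]

omit D in
lemma fmap_refl_mul {u : M} (hu : IsUnit (Q u)) (x : CliffordAlgebra Q) :
    fmap (QuadGrpLib.refl Q hu) (QuadGrpLib.refl_mem_O Q hu) x * ι Q u = ι Q u * involute x := by
  induction x using CliffordAlgebra.induction with
  | algebraMap r => rw [AlgHom.commutes, AlgHom.commutes, Algebra.commutes]
  | ι y => rw [fmap_ι, involute_ι, mul_neg, QuadGrpLib.ι_refl_mul]
  | mul a b ha hb => rw [map_mul, map_mul, mul_assoc, hb, ← mul_assoc, ha, mul_assoc]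
  | add a b ha hb => rw [map_add, map_add, add_mul, ha, hb, mul_add]

lemma fmap_refl {u : M} (hu : IsUnit (Q u)) :
    fmap (QuadGrpLib.refl Q hu) (QuadGrpLib.refl_mem_O Q hu) z = algebraMap R _ s - z := by
  refine (isUnit_ι_of_isUnit Q hu).mul_right_cancel ?_
  rw [fmap_refl_mul hu, involute_eq_of_mem_even D.even, D.ι_mul]

end CentreDatum

end Isometry

end Groth.Agent.CliffRegLib
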