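import Groth.Agent.CliffRegLib.OddStruct
import Groth.Agent.CliffRegLib.StructEven

/-!
# An isometry acts on the odd centre by its determinant
-/

set_option autoImplicit false
set_option backward.isDefEq.respectTransparency false

universe u v

open CliffordAlgebra

namespace Groth.Agent.CliffRegLib

section Generic

variable {n : ℕ} {R : Type u} [CommRing R]

lemma qf_co (B : Matrix (Fin n) (Fin n) R) :
    qf (QuadGrpLib.co B) = LinearMap.BilinMap.toQuadraticMap (Matrix.toBilin' B) := by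
  conv_rhs => rw [← qf_coeffs (LinearMap.BilinMap.toQuadraticMap (Matrix.toBilin' B))]
  rw [QuadGrpLib.coeffs_eq_co (Pi.basisFun R (Fin n)) _ (Matrix.toBilin' B) rfl]
  congr 2
  ext i j
  rw [Matrix.of_apply, Pi.basisFun_apply, Pi.basisFun_apply, Matrix.toBilin'_single]

lemma coeffs_qf (a : Sym2 (Fin n) → R) :
    QuadGrp.coeffs (Pi.basisFun R (Fin n)) (LinearEquiv.refl R R) (qf a) = a := by
  funext p
  induction p using Sym2.ind with
  | h i j =>
    rw [QuadGrp.coeffs_mk]
    have h := congrFun (congrFun (polarMat_qf a) i) j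
    rw [QuadGrpLib.polarMat, Matrix.of_apply, QuadGrpLib.polarOf, Matrix.of_apply] at h
    split_ifs with hij
    · subst hij
      rw [LinearEquiv.refl_apply, Pi.basisFun_apply, qf, LinearMap.BilinMap.toQuadraticMap_apply,
        Matrix.toBilin'_single, upMat, Matrix.of_apply, if_pos rfl]
    · rw [LinearEquiv.refl_apply, h, if_neg hij]

lemma co_upMat (a : Sym2 (Fin n) → R) : QuadGrpLib.co (upMat a) = a := by
  have h : qf (QuadGrpLib.co (upMat a)) = qf a := qf_co (upMat a)
  rw [← coeffs_qf (QuadGrpLib.co (upMat a)), h, coeffs_qf]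

/-- Composition of two changes of the ground ring. -/
lemma cmap_cmap {R₁ : Type v} {R₂ : Type*} [CommRing R₁] [CommRing R₂] [Algebra R R₁] [Algebra R₁ R₂] [Algebra R R₂]
    [IsScalarTower R R₁ R₂]
    {Q : QuadraticForm R (Fin n → R)} {Q₁ : QuadraticForm R₁ (Fin n → R₁)}
    {Q₂ : QuadraticForm R₂ (Fin n → R₂)}
    (he₁ : ∀ v, Q₁ ((Algebra.linearMap R R₁).compLeft (Fin n) v) = algebraMap R R₁ (Q v))
    (he₂ : ∀ v, Q₂ ((Algebra.linearMap R₁ R₂).compLeft (Fin n) v) = algebraMap R₁ R₂ (Q₁ v))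
    (he : ∀ v, Q₂ ((Algebra.linearMap R R₂).compLeft (Fin n) v) = algebraMap R R₂ (Q v))
    (x : CliffordAlgebra Q) :
    cmap _ he₂ (cmap _ he₁ x) = cmap _ he x := by
  induction x using CliffordAlgebra.induction with
  | algebraMap r =>
    rw [AlgHom.commutes, IsScalarTower.algebraMap_apply R R₁ (CliffordAlgebra Q₁), AlgHom.commutes,
      AlgHom.commutes, IsScalarTower.algebraMap_apply R₁ R₂ (CliffordAlgebra Q₂),
      ← IsScalarTower.algebraMap_apply R R₁ R₂, ← IsScalarTower.algebraMap_apply R R₂]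
  | ι v =>
    rw [cmap_ι, cmap_ι, cmap_ι]
    congr 1
    funext i
    simp [← IsScalarTower.algebraMap_apply R R₁ R₂]
  | mul p q hp hq => rw [map_mul, map_mul, map_mul, hp, hq]
  | add p q hp hq => rw [map_add, map_add, map_add, hp, hq]

end Generic

/-- The universal identity: a change of variables multiplies the odd centre by its determinant. -/
theorem cmap_centre_eq_det_smul {U : Type u} [CommRing U] [IsDomain U] (h2 : (2 : U) ≠ 0) {m : ℕ}
    {a a' : Sym2 (Fin (2 * m + 1)) → U} (hd : IsUnit (QuadGrpLib.hd a))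
    (G : (Fin (2 * m + 1) → U) ≃ₗ[U] (Fin (2 * m + 1) → U))
    (hG : ∀ v, qf a (G.toLinearMap v) = algebraMap U U (qf a' v))
    {η : CliffordAlgebra (qf a)} {η' : CliffordAlgebra (qf a')} {t : U} (D : OddDatum (qf a) η t)
    (hη' : η' ∈ evenOdd (qf a') 1) (hc' : ∀ x, x * η' = η' * x)
    (ht : topc (Pi.basisFun U _) (qf a) η = 2 ^ m) (ht' : topc (Pi.basisFun U _) (qf a') η' = 2 ^ m) :
    cmap G.toLinearMap hG η' = LinearMap.det G.toLinearMap • η := by
  set b := Pi.basisFun U (Fin (2 * m + 1))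
  have hsr : QuadGrp.IsSemiregular b (LinearEquiv.refl U U) (qf a) := by
    change IsUnit (QuadGrpLib.hd (QuadGrp.coeffs b (LinearEquiv.refl U U) (qf a)))
    rwa [coeffs_qf]
  set x := cmap G.toLinearMap hG η'
  have hx1 : x ∈ evenOdd (qf a) 1 := cmap_mem_evenOdd _ _ 1 hη'
  have hxc : ∀ y, y * x = x * y := by
    refine commute_of_basis b (qf a) x fun i => ?_
    obtain ⟨v, hv⟩ := G.surjective (b i)
    have h := congrArg (cmap G.toLinearMap hG) (hc' (ι (qf a') v))
    rw [map_mul, map_mul, cmap_ι, LinearEquiv.coe_coe, hv] at h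
    exact h
  obtain ⟨c, hc⟩ := D.odd_centre_eq b hsr hxc hx1
  have h := congrArg (topc b (qf a)) hc
  rw [topc_cmap, ht', map_smul, ht, smul_eq_mul] at h
  rw [hc, mul_right_cancel₀ (pow_ne_zero m h2) h]

section Universal

variable (m : ℕ)

lemma halfDiscUniv_ne_zero : QuadGrp.halfDiscUniv (2 * m + 1) ≠ 0 := by
  intro h
  let a : Sym2 (Fin (2 * m + 1)) → ℤ := QuadGrpLib.co (1 : Matrix (Fin (2 * m + 1)) (Fin (2 * m + 1)) ℤ)
  have h0 : QuadGrpLib.hd a = 0 := by rw [QuadGrpLib.hd, h, MvPolynomial.eval₂_zero]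
  have h1 := QuadGrpLib.two_mul_hd (R := ℤ) ⟨m, rfl⟩ a
  rw [h0, mul_zero, QuadGrpLib.polarOf_co, Matrix.transpose_one, ← Matrix.diagonal_one, Matrix.diagonal_add,
    Matrix.det_diagonal] at h1
  simp at h1
  exact absurd h1.symm (pow_ne_zero _ two_ne_zero)

/-- The universal ring of semiregular coefficient tables. -/
abbrev UR : Type := Localization.Away (QuadGrp.halfDiscUniv (2 * m + 1))

instance : IsDomain (UR m) := IsLocalization.isDomain_localization
  (Submonoid.powers_le.2 (mem_nonZeroDivisors_of_ne_zero (halfDiscUniv_ne_zero m)))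

lemma two_ne_zero_UR : (2 : UR m) ≠ 0 := by
  rw [← map_ofNat (algebraMap (MvPolynomial (Sym2 (Fin (2 * m + 1))) ℤ) (UR m)) 2]
  intro h
  have h' := IsLocalization.injective (UR m)
    (Submonoid.powers_le.2 (mem_nonZeroDivisors_of_ne_zero (halfDiscUniv_ne_zero m)))
    (h.trans (map_zero _).symm)
  have := congrArg (MvPolynomial.constantCoeff : MvPolynomial (Sym2 (Fin (2 * m + 1))) ℤ →+* ℤ) h'
  simp [map_ofNat] at this

/-- The universal table. -/
noncomputable def univTab : Sym2 (Fin (2 * m + 1)) → UR m := fun x =>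
  algebraMap (MvPolynomial (Sym2 (Fin (2 * m + 1))) ℤ) (UR m) (MvPolynomial.X x)

lemma isUnit_hd_univTab : IsUnit (QuadGrpLib.hd (univTab m)) := by
  have h : algebraMap _ (UR m) (QuadGrp.halfDiscUniv (2 * m + 1)) = QuadGrpLib.hd (univTab m) := by
    have := QuadGrpLib.map_hd (algebraMap (MvPolynomial (Sym2 (Fin (2 * m + 1))) ℤ) (UR m))
      (MvPolynomial.X : Sym2 (Fin (2 * m + 1)) → MvPolynomial (Sym2 (Fin (2 * m + 1))) ℤ)
    refine Eq.trans (congrArg _ ?_) this
    rw [QuadGrpLib.hd]
    exact (MvPolynomial.eval₂_eta _).symm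
  exact h ▸ IsLocalization.Away.algebraMap_isUnit (QuadGrp.halfDiscUniv (2 * m + 1))

theorem exists_univ_eta : ∃ W : CliffordAlgebra (qf (univTab m)), W ∈ evenOdd (qf (univTab m)) 1 ∧
    ∃ t : UR m, IsUnit t ∧ W * W = algebraMap (UR m) _ t ∧
      (∀ v, ι (qf (univTab m)) v * W = W * ι (qf (univTab m)) v) ∧
      topc (Pi.basisFun (UR m) (Fin (2 * m + 1))) (qf (univTab m)) W = 2 ^ m := by
  obtain ⟨W, h1, t, ht, h2, h3, -, h4⟩ :=
    exists_odd_centre_universal (two_ne_zero_UR m) rfl (univTab m) (isUnit_hd_univTab m)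
  exact ⟨W, h1, t, ht, h2, h3, h4⟩

/-- The universal odd centre element. -/
noncomputable def univEta : CliffordAlgebra (qf (univTab m)) := (exists_univ_eta m).choose

end Universal

section Special

variable {m : ℕ} {R : Type u} [CommRing R] (a : Sym2 (Fin (2 * m + 1)) → R)

/-- Specialisation of the universal ring. -/
noncomputable def spec (ha : IsUnit (QuadGrpLib.hd a)) : UR m →+* R :=
  IsLocalization.Away.lift (QuadGrp.halfDiscUniv (2 * m + 1))
    (g := MvPolynomial.eval₂Hom (Int.castRingHom R) a) ha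

lemma spec_univTab (ha : IsUnit (QuadGrpLib.hd a)) : spec a ha ∘ univTab m = a := funext fun x => by
  simp only [spec, Function.comp_apply, univTab]
  rw [IsLocalization.Away.lift_eq]
  exact MvPolynomial.eval₂Hom_X' _ _ _

lemma spec_comp {R' : Type v} [CommRing R'] (f : R →+* R') (a' : Sym2 (Fin (2 * m + 1)) → R')
    (h : f ∘ a = a') (ha : IsUnit (QuadGrpLib.hd a)) (ha' : IsUnit (QuadGrpLib.hd a')) :
    f.comp (spec a ha) = spec a' ha' := by
  refine IsLocalization.ringHom_ext (Submonoid.powers (QuadGrp.halfDiscUniv (2 * m + 1))) ?_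
  refine MvPolynomial.ringHom_ext (fun r => ?_) fun x => ?_
  · simp
  · have h1 := congrFun (spec_univTab a ha) x
    have h2 := congrFun (spec_univTab a' ha') x
    simp only [Function.comp_apply, univTab] at h1 h2
    simp only [RingHom.comp_apply, h1, h2]
    exact congrFun h x

/-- The canonical odd centre element of a table. -/
noncomputable def eta (ha : IsUnit (QuadGrpLib.hd a)) : CliffordAlgebra (qf a) :=
  letI : Algebra (UR m) R := (spec a ha).toAlgebra
  cmap ((Algebra.linearMap (UR m) R).compLeft (Fin (2 * m + 1)))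
    (fun v => (congrArg (fun f => qf f ((Algebra.linearMap (UR m) R).compLeft (Fin (2 * m + 1)) v))
      (spec_univTab a ha).symm).trans (map_qf (univTab m) v)) (univEta m)

lemma eta_spec (ha : IsUnit (QuadGrpLib.hd a)) :
    (∃ t, OddDatum (qf a) (eta a ha) t) ∧
      topc (Pi.basisFun R (Fin (2 * m + 1))) (qf a) (eta a ha) = 2 ^ m := by
  letI : Algebra (UR m) R := (spec a ha).toAlgebra
  obtain ⟨h1, t, ht, h2, h3, h4⟩ := (exists_univ_eta m).choose_spec
  set e := (Algebra.linearMap (UR m) R).compLeft (Fin (2 * m + 1))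
  have he : ∀ v, qf a (e v) = algebraMap (UR m) R (qf (univTab m) v) := fun v =>
    (congrArg (fun f => qf f (e v)) (spec_univTab a ha).symm).trans (map_qf (univTab m) v)
  have heq : eta a ha = cmap e he (univEta m) := rfl
  refine ⟨⟨algebraMap (UR m) R t, ?_, ht.map _, ?_, ?_⟩, ?_⟩
  · rw [heq]; exact cmap_mem_evenOdd e he 1 h1
  · have := congrArg (cmap e he) h2
    rw [map_mul, AlgHom.commutes, IsScalarTower.algebraMap_apply (UR m) R] at this
    exact this
  · refine commute_of_basis (Pi.basisFun R _) _ _ fun i => ?_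
    have := congrArg (cmap e he) (h3 (Pi.basisFun (UR m) (Fin (2 * m + 1)) i))
    rw [map_mul, map_mul, cmap_ι, compLeft_single] at this
    exact this
  · change (cbasis (Pi.basisFun R (Fin (2 * m + 1))) (qf a)).repr (eta a ha) Finset.univ = _
    rw [heq, cmap_repr e he (Pi.basisFun (UR m) _) (Pi.basisFun R _) (fun i => compLeft_single i)]
    exact (congrArg (algebraMap (UR m) R) h4).trans (by rw [map_pow, map_ofNat])

lemma eta_map {R' : Type v} [CommRing R'] [Algebra R R'] (a' : Sym2 (Fin (2 * m + 1)) → R')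
    (h : algebraMap R R' ∘ a = a') (ha : IsUnit (QuadGrpLib.hd a)) (ha' : IsUnit (QuadGrpLib.hd a'))
    (he : ∀ v, qf a' ((Algebra.linearMap R R').compLeft (Fin (2 * m + 1)) v) = algebraMap R R' (qf a v)) :
    cmap _ he (eta a ha) = eta a' ha' := by
  letI : Algebra (UR m) R := (spec a ha).toAlgebra
  letI : Algebra (UR m) R' := (spec a' ha').toAlgebra
  haveI : IsScalarTower (UR m) R R' :=
    IsScalarTower.of_algebraMap_eq' (spec_comp a (algebraMap R R') a' h ha ha').symm
  exact cmap_cmap (R := UR m) (R₁ := R) (R₂ := R') _ he _ (univEta m)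

end Special

lemma map_congr_mul {V R : Type*} [CommRing V] [CommRing R] {n : ℕ} (ψ : V →+* R)
    {B G : Matrix (Fin n) (Fin n) V} {B' G' : Matrix (Fin n) (Fin n) R}
    (hB : B.map ψ = B') (hG : G.map ψ = G') :
    (G.transpose * B * G).map ψ = G'.transpose * B' * G' := by
  rw [← hB, ← hG, Matrix.map_mul (f := ψ), Matrix.map_mul (f := ψ), Matrix.transpose_map (f := ψ)]

lemma co_isometry {R : Type u} [CommRing R] {n : ℕ} (a : Sym2 (Fin n) → R)
    (g : (Fin n → R) ≃ₗ[R] (Fin n → R))
    (hg : ∀ v, qf a (g.toLinearMap v) = algebraMap R R (qf a v)) :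
    QuadGrpLib.co ((LinearMap.toMatrix' g.toLinearMap).transpose * upMat a *
      LinearMap.toMatrix' g.toLinearMap) = a := by
  have hform : LinearMap.BilinMap.toQuadraticMap (Matrix.toBilin'
      ((LinearMap.toMatrix' g.toLinearMap).transpose * upMat a * LinearMap.toMatrix' g.toLinearMap)) =
      qf a := by
    refine QuadraticMap.ext fun v => ?_
    rw [← Matrix.toBilin'_comp, LinearMap.BilinMap.toQuadraticMap_apply,
      LinearMap.BilinForm.comp_apply, Matrix.toLin'_toMatrix']
    exact hg v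
  rw [← coeffs_qf (QuadGrpLib.co _), qf_co, hform, coeffs_qf]

/-- A lift of an isometry to a domain without two-torsion. -/
theorem exists_lift {R : Type u} [CommRing R] {m : ℕ} (a : Sym2 (Fin (2 * m + 1)) → R)
    (ha : IsUnit (QuadGrpLib.hd a)) (hR : ¬ Subsingleton R)
    (g : (Fin (2 * m + 1) → R) ≃ₗ[R] (Fin (2 * m + 1) → R))
    (hg : ∀ v, qf a (g.toLinearMap v) = algebraMap R R (qf a v)) :
    ∃ (V : Type) (_ : CommRing V) (_ : IsDomain V) (_ : Algebra V R)
      (B G : Matrix (Fin (2 * m + 1)) (Fin (2 * m + 1)) V),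
      (2 : V) ≠ 0 ∧ IsUnit (QuadGrpLib.hd (QuadGrpLib.co B)) ∧ IsUnit G.det ∧
        algebraMap V R ∘ QuadGrpLib.co B = a ∧
        algebraMap V R ∘ QuadGrpLib.co (G.transpose * B * G) = a ∧
        G.map (algebraMap V R) = LinearMap.toMatrix' g.toLinearMap := by
  classical
  let V₀ := MvPolynomial ((Fin (2 * m + 1) × Fin (2 * m + 1)) ⊕ (Fin (2 * m + 1) × Fin (2 * m + 1))) ℤ
  let B₀ : Matrix (Fin (2 * m + 1)) (Fin (2 * m + 1)) V₀ :=
    Matrix.of fun i j => MvPolynomial.X (Sum.inl (i, j))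
  let G₀ : Matrix (Fin (2 * m + 1)) (Fin (2 * m + 1)) V₀ :=
    Matrix.of fun i j => MvPolynomial.X (Sum.inr (i, j))
  set Gm := LinearMap.toMatrix' g.toLinearMap with hGm
  let ψ₀ : V₀ →+* R := MvPolynomial.eval₂Hom (Int.castRingHom R)
    (Sum.elim (fun p => upMat a p.1 p.2) fun p => Gm p.1 p.2)
  have hB : B₀.map ψ₀ = upMat a := by
    ext i j
    exact MvPolynomial.eval₂Hom_X' _ _ _
  have hG : G₀.map ψ₀ = Gm := by
    ext i j
    exact MvPolynomial.eval₂Hom_X' _ _ _
  set dV : V₀ := QuadGrpLib.hd (QuadGrpLib.co B₀) * G₀.det with hdV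
  have hψu : IsUnit (ψ₀ dV) := by
    rw [hdV, map_mul, QuadGrpLib.map_hd, QuadGrpLib.map_co, hB, co_upMat, RingHom.map_det,
      RingHom.mapMatrix_apply, hG, hGm, LinearMap.det_toMatrix']
    exact ha.mul g.isUnit_det'
  have hVne : dV ≠ 0 := fun h => by
    rw [h, map_zero, isUnit_zero_iff] at hψu
    exact hR (subsingleton_of_zero_eq_one hψu)
  let V := Localization.Away dV
  haveI : IsDomain V := IsLocalization.isDomain_localization
    (Submonoid.powers_le.2 (mem_nonZeroDivisors_of_ne_zero hVne))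
  have h2V : (2 : V) ≠ 0 := by
    rw [← map_ofNat (algebraMap V₀ V) 2]
    intro h
    have h' := IsLocalization.injective V
      (Submonoid.powers_le.2 (mem_nonZeroDivisors_of_ne_zero hVne)) (h.trans (map_zero _).symm)
    have := congrArg (MvPolynomial.constantCoeff : V₀ →+* ℤ) h'
    simp [map_ofNat] at this
  let ψ : V →+* R := IsLocalization.Away.lift dV (g := ψ₀) hψu
  have hψ : ψ.comp (algebraMap V₀ V) = ψ₀ := IsLocalization.Away.lift_comp dV hψu
  have hBψ : (B₀.map (algebraMap V₀ V)).map ψ = upMat a := by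
    rw [Matrix.map_map, ← RingHom.coe_comp, hψ, hB]
  have hGψ : (G₀.map (algebraMap V₀ V)).map ψ = Gm := by
    rw [Matrix.map_map, ← RingHom.coe_comp, hψ, hG]
  obtain ⟨hdB, hdG⟩ : IsUnit (QuadGrpLib.hd (QuadGrpLib.co (B₀.map (algebraMap V₀ V)))) ∧
      IsUnit (G₀.map (algebraMap V₀ V)).det := by
    have h := IsLocalization.Away.algebraMap_isUnit (S := V) dV
    have e : algebraMap V₀ V dV = algebraMap V₀ V (QuadGrpLib.hd (QuadGrpLib.co B₀) * G₀.det) :=
      congrArg (algebraMap V₀ V) hdV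
    rw [e, map_mul, QuadGrpLib.map_hd, QuadGrpLib.map_co, RingHom.map_det, RingHom.mapMatrix_apply] at h
    exact IsUnit.mul_iff.1 h
  refine ⟨V, inferInstance, inferInstance, ψ.toAlgebra, B₀.map (algebraMap V₀ V), G₀.map (algebraMap V₀ V),
    h2V, hdB, hdG, ?_, ?_, hGψ⟩
  · change ψ ∘ _ = _
    rw [QuadGrpLib.map_co, hBψ, co_upMat]
  · change ψ ∘ _ = _
    rw [QuadGrpLib.map_co, map_congr_mul ψ hBψ hGψ, hGm]
    exact co_isometry a g hg

/-- On coordinate space: some odd central datum on which every isometry acts by its determinant. -/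
theorem exists_oddDatum_det {R : Type u} [CommRing R] {m : ℕ} (a : Sym2 (Fin (2 * m + 1)) → R)
    (ha : IsUnit (QuadGrpLib.hd a)) :
    ∃ η t, OddDatum (qf a) η t ∧
      ∀ (g : (Fin (2 * m + 1) → R) ≃ₗ[R] (Fin (2 * m + 1) → R))
        (hg : ∀ v, qf a (g.toLinearMap v) = algebraMap R R (qf a v)),
          cmap g.toLinearMap hg η = LinearMap.det g.toLinearMap • η := by
  classical
  obtain ⟨⟨t, D₀⟩, -⟩ := eta_spec a ha
  refine ⟨eta a ha, t, D₀, fun g hg => ?_⟩
  by_cases hR : Subsingleton R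
  · haveI := hR
    haveI : Subsingleton (CliffordAlgebra (qf a)) := Module.subsingleton R _
    exact Subsingleton.elim _ _
  obtain ⟨V, _, _, _, B, G, h2V, hdB, hdG, hψQ, hψg, hGψ⟩ := exists_lift a ha hR g hg
  have hdag : IsUnit (QuadGrpLib.hd (QuadGrpLib.co (G.transpose * B * G))) := by
    rw [QuadGrpLib.hd_substitution]
    exact (hdG.pow 2).mul hdB
  set aQ := QuadGrpLib.co B with haQ
  set ag := QuadGrpLib.co (G.transpose * B * G) with hag
  set E := (Algebra.linearMap V R).compLeft (Fin (2 * m + 1)) with hE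
  have hQR : ∀ v, qf a (E v) = algebraMap V R (qf aQ v) := fun v =>
    (congrArg (fun f => qf f (E v)) hψQ.symm).trans (map_qf aQ v)
  have hgR : ∀ v, qf a (E v) = algebraMap V R (qf ag v) := fun v =>
    (congrArg (fun f => qf f (E v)) hψg.symm).trans (map_qf ag v)
  let GV : (Fin (2 * m + 1) → V) ≃ₗ[V] (Fin (2 * m + 1) → V) :=
    Matrix.toLin'OfInv (M := G⁻¹) (M' := G) (Matrix.nonsing_inv_mul _ hdG) (Matrix.mul_nonsing_inv _ hdG)
  have hGV : GV.toLinearMap = Matrix.toLin' G := LinearMap.ext fun v => rfl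
  have hGform : ∀ v, qf aQ (GV.toLinearMap v) = algebraMap V V (qf ag v) := fun v => by
    rw [hGV, haQ, hag, qf_co, qf_co, ← Matrix.toBilin'_comp B G G]
    rfl
  obtain ⟨⟨tQ, DQ⟩, htopQ⟩ := eta_spec aQ hdB
  obtain ⟨⟨tg, Dg⟩, htopg⟩ := eta_spec ag hdag
  have key := cmap_centre_eq_det_smul h2V hdB GV hGform DQ Dg.odd Dg.comm htopQ htopg
  have hsquare : ∀ x : CliffordAlgebra (qf ag),
      cmap g.toLinearMap hg (cmap E hgR x) = cmap E hQR (cmap GV.toLinearMap hGform x) := by
    intro x
    induction x using CliffordAlgebra.induction with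
    | algebraMap r =>
      rw [AlgHom.commutes, AlgHom.commutes, AlgHom.commutes, IsScalarTower.algebraMap_apply V R,
        AlgHom.commutes]
    | ι v =>
      simp only [cmap_ι]
      congr 1
      rw [hGV, ← Matrix.toLin'_toMatrix' g.toLinearMap, ← hGψ]
      funext i
      simp [hE, Matrix.toLin'_apply, Matrix.mulVec, dotProduct, Matrix.map_apply, map_sum, map_mul]
    | mul p q hp hq => rw [map_mul, map_mul, map_mul, map_mul, hp, hq]
    | add p q hp hq => rw [map_add, map_add, map_add, map_add, hp, hq]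
  have hmQ := eta_map aQ a hψQ hdB ha hQR
  have hmg := eta_map ag a hψg hdag ha hgR
  rw [← hmg, hsquare, key, map_smul, hmQ, hmg, ← algebraMap_smul R (LinearMap.det GV.toLinearMap)]
  congr 1
  rw [hGV, LinearMap.det_toLin', RingHom.map_det, RingHom.mapMatrix_apply, hGψ, LinearMap.det_toMatrix']

/-- An isometry of a semiregular form acts on the odd centre by its determinant. -/
theorem fmap_odd_centre {R : Type u} [CommRing R] {M : Type v} [AddCommGroup M] [Module R M] {m : ℕ}
    (b : Module.Basis (Fin (2 * m + 1)) R M) {Q : QuadraticForm R M}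
    (hQ : QuadGrp.IsSemiregular b (LinearEquiv.refl R R) Q) {η : CliffordAlgebra Q} {t : R}
    (D : OddDatum Q η t) (g : M ≃ₗ[R] M) (hg : g ∈ QuadGrp.O Q) :
    fmap g hg η = ((LinearEquiv.det g : Rˣ) : R) • η := by
  classical
  set a := QuadGrp.coeffs b (LinearEquiv.refl R R) Q with ha
  have hQe : ∀ x, qf a x = Q (b.equivFun.symm x) := fun x => by
    have : a = QuadGrp.coeffs (Pi.basisFun R (Fin (2 * m + 1))) (LinearEquiv.refl R R)
        (Q.comp (b.equivFun.symm : (Fin (2 * m + 1) → R) →ₗ[R] M)) := by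
      funext p
      induction p using Sym2.ind with
      | h i j =>
        have hs : ∀ k, b.equivFun.symm (Pi.basisFun R (Fin (2 * m + 1)) k) = b k := fun k => by simp
        simp only [ha, QuadGrp.coeffs_mk, QuadraticMap.polar, QuadraticMap.comp_apply,
          LinearEquiv.coe_coe, map_add, hs]
    rw [this, qf_coeffs]
    rfl
  obtain ⟨η₀, t₀, D₀, hdet⟩ := exists_oddDatum_det a hQ
  let e : (Fin (2 * m + 1) → R) →ₗ[R] M := b.equivFun.symm.toLinearMap
  have he : ∀ x, Q (e x) = algebraMap R R (qf a x) := fun x => (hQe x).symm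
  set η₁ := cmap e he η₀
  have hη₁ : ∀ y, y * η₁ = η₁ * y := commute_of_basis b Q η₁ fun i => by
    have h := congrArg (cmap e he) (D₀.comm (ι (qf a) (b.equivFun (b i))))
    rw [map_mul, map_mul, cmap_ι] at h
    rw [show e (b.equivFun (b i)) = b i from b.equivFun.symm_apply_apply _] at h
    exact h
  obtain ⟨c, hc⟩ := D.odd_centre_eq b hQ hη₁ (cmap_mem_evenOdd e he 1 D₀.odd)
  have hcu : IsUnit c := by
    have h := congrArg (fun x => x * x) hc
    simp only [η₁, ← map_mul, D₀.sq, smul_mul_smul_comm, D.sq, AlgHom.commutes] at h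
    rw [Algebra.smul_def, ← map_mul] at h
    have h' : t₀ = c * c * t := algebraMap_injective b Q h
    exact (IsUnit.mul_iff.1 (IsUnit.mul_iff.1 (h' ▸ D₀.unit : IsUnit (c * c * t))).1).1
  let g' := b.equivFun.symm.trans (g.trans b.equivFun)
  have hg' : ∀ x, qf a (g'.toLinearMap x) = algebraMap R R (qf a x) := fun x => by
    simp only [g', LinearEquiv.coe_coe, LinearEquiv.trans_apply, hQe, LinearEquiv.symm_apply_apply]
    exact hg _
  have hnat : ∀ x, fmap g hg (cmap e he x) = cmap e he (cmap g'.toLinearMap hg' x) := by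
    intro x
    induction x using CliffordAlgebra.induction with
    | algebraMap r => simp only [AlgHom.commutes]
    | ι v =>
      rw [cmap_ι, cmap_ι, cmap_ι, fmap_ι]
      simp [e, g']
    | mul p q hp hq => simp only [map_mul, hp, hq]
    | add p q hp hq => simp only [map_add, hp, hq]
  have h1 := hnat η₀
  rw [hdet g' hg', map_smul] at h1
  change fmap g hg η₁ = _ • η₁ at h1
  rw [hc, map_smul, smul_smul, mul_comm, mul_smul] at h1
  have hdeteq : LinearMap.det g'.toLinearMap = ((LinearEquiv.det g : Rˣ) : R) := by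
    rw [LinearEquiv.coe_det, ← LinearMap.det_conj g.toLinearMap b.equivFun]
    rfl
  rw [hdeteq] at h1
  exact hcu.smul_left_cancel.1 h1

end Groth.Agent.CliffRegLib
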