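import Groth.Agent.CliffRegLib.OddEta
import Groth.Agent.CliffRegLib.EvenAzumaya

/-!
# Conjugations in odd rank
-/

set_option autoImplicit false
set_option backward.isDefEq.respectTransparency false

universe u v

open CliffordAlgebra

namespace Groth.Agent.CliffRegLib

variable {R : Type u} [CommRing R] {M : Type v} [AddCommGroup M] [Module R M] {n : ℕ}

lemma ι_repr (b : Module.Basis (Fin n) R M) (Q : QuadraticForm R M) (v : M) (i : Fin n) :
    (cbasis b Q).repr (ι Q v) {i} = b.repr v i := by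
  conv_lhs => rw [← b.sum_repr v]
  simp only [map_sum, map_smul, ← cbasis_singleton b Q, Module.Basis.repr_self,
    Finsupp.coe_finsetSum, Finset.sum_apply, Finsupp.smul_apply]
  rw [Finset.sum_eq_single i]
  · simp
  · intro j _ hj; simp [Ne.symm hj]
  · simp

lemma ι_injective_basis (b : Module.Basis (Fin n) R M) (Q : QuadraticForm R M) :
    Function.Injective (ι Q) := fun x y h => b.ext_elem fun i => by
  rw [← ι_repr b Q x i, ← ι_repr b Q y i, h]

/-- A unit normalising `M` induces an isometry. -/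
theorem exists_conj_isometry (b : Module.Basis (Fin n) R M) {Q : QuadraticForm R M}
    {u : (CliffordAlgebra Q)ˣ} (hu : u ∈ QuadGrp.GPin' Q) :
    ∃ (g : M ≃ₗ[R] M) (hg : g ∈ QuadGrp.O Q),
      (∀ v, (u : CliffordAlgebra Q) * ι Q v * ↑u⁻¹ = ι Q (g v)) ∧
      ∀ x, fmap g hg x * (u : CliffordAlgebra Q) = (u : CliffordAlgebra Q) * x := by
  classical
  have key : ∀ u' ∈ QuadGrp.GPin' Q, ∀ v, ∃ w,
      ι Q w = (u' : CliffordAlgebra Q) * ι Q v * ↑u'⁻¹ := by
    intro u' hu' v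
    rw [QuadGrp.mem_GPin'] at hu'
    have : ConjAct.toConjAct u' • ι Q v ∈ LinearMap.range (ι Q) := by
      rw [← hu']; exact Submodule.smul_mem_pointwise_smul _ _ _ ⟨v, rfl⟩
    obtain ⟨w, hw⟩ := this
    exact ⟨w, hw.trans (by rw [ConjAct.units_smul_def]; simp)⟩
  choose f hf using key u hu
  choose f' hf' using key u⁻¹ ((QuadGrp.GPin' Q).inv_mem hu)
  simp only [inv_inv] at hf'
  have hinj := ι_injective_basis b Q
  let g : M ≃ₗ[R] M :=
    { toFun := f
      invFun := f'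
      map_add' := fun v w => hinj (by simp only [map_add, hf, mul_add, add_mul])
      map_smul' := fun c v => hinj (by
        simp only [RingHom.id_apply, map_smul, hf, mul_smul_comm, smul_mul_assoc])
      left_inv := fun v => hinj (by simp [hf', hf, mul_assoc])
      right_inv := fun v => hinj (by simp [hf', hf, mul_assoc]) }
  have hgv : ∀ v, (u : CliffordAlgebra Q) * ι Q v * ↑u⁻¹ = ι Q (g v) := fun v => (hf v).symm
  have hg : g ∈ QuadGrp.O Q := fun v => algebraMap_injective b Q (by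
    rw [← ι_sq_scalar, ← hgv,
      show (u : CliffordAlgebra Q) * ι Q v * ↑u⁻¹ * ((u : CliffordAlgebra Q) * ι Q v * ↑u⁻¹) =
        (u : CliffordAlgebra Q) * (ι Q v * ι Q v) * ↑u⁻¹ by simp only [mul_assoc, Units.inv_mul_cancel_left],
      ι_sq_scalar, ← Algebra.commutes, mul_assoc, Units.mul_inv, mul_one])
  refine ⟨g, hg, hgv, fun x => ?_⟩
  induction x using CliffordAlgebra.induction with
  | algebraMap r => rw [AlgHom.commutes, Algebra.commutes]
  | ι v => rw [fmap_ι, ← hgv, mul_assoc, Units.inv_mul, mul_one]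
  | mul p q hp hq => rw [map_mul, mul_assoc, hq, ← mul_assoc, hp, mul_assoc]
  | add p q hp hq => rw [map_add, add_mul, hp, hq, mul_add]

lemma mem_GPin'_of_conj {Q : QuadraticForm R M} {u : (CliffordAlgebra Q)ˣ} (g : M ≃ₗ[R] M)
    (hv : ∀ v, (u : CliffordAlgebra Q) * ι Q v * ↑u⁻¹ = ι Q (g v)) : u ∈ QuadGrp.GPin' Q := by
  rw [QuadGrp.mem_GPin']
  refine le_antisymm ?_ ?_
  · rintro _ ⟨_, ⟨v, rfl⟩, rfl⟩
    exact ⟨g v, (hv v).symm⟩
  · rintro _ ⟨v, rfl⟩
    exact ⟨ι Q (g.symm v), ⟨_, rfl⟩, (hv _).trans (by rw [LinearEquiv.apply_symm_apply])⟩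

section Odd

variable {m : ℕ} (b : Module.Basis (Fin (2 * m + 1)) R M) {Q : QuadraticForm R M}
  (hQ : QuadGrp.IsSemiregular b (LinearEquiv.refl R R) Q)
include hQ

theorem det_eq_one_of_conj {u : (CliffordAlgebra Q)ˣ} {g : M ≃ₗ[R] M} (hg : g ∈ QuadGrp.O Q)
    (hu : ∀ x, fmap g hg x * (u : CliffordAlgebra Q) = (u : CliffordAlgebra Q) * x) :
    LinearEquiv.det g = 1 := by
  obtain ⟨η, t, D, -⟩ := exists_oddDatum b hQ
  have h := hu η
  rw [fmap_odd_centre b hQ D g hg, smul_mul_assoc, ← D.comm (u : CliffordAlgebra Q), ← mul_smul_comm] at h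
  have h2 : ((LinearEquiv.det g : Rˣ) : R) • η = η := u.isUnit.mul_left_cancel h
  have h3 := D.indep b (a := 0) (c := ((LinearEquiv.det g : Rˣ) : R) - 1)
    (by rw [map_zero, zero_add, sub_smul, h2, one_smul, sub_self])
  exact Units.ext (sub_eq_zero.1 h3.2)

theorem exists_inner_odd [IsLocalRing R] (g : M ≃ₗ[R] M) (hg : g ∈ QuadGrp.O Q)
    (hdet : LinearEquiv.det g = 1) :
    ∃ u : (CliffordAlgebra Q)ˣ, (u : CliffordAlgebra Q) ∈ evenOdd Q 0 ∧
      ∀ x, fmap g hg x * (u : CliffordAlgebra Q) = (u : CliffordAlgebra Q) * x := by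
  classical
  obtain ⟨η, t, D, -⟩ := exists_oddDatum b hQ
  have hfix : fmap g hg η = η := by
    rw [fmap_odd_centre b hQ D g hg, hdet, Units.val_one, one_smul]
  haveI := isAzumaya_even_odd b hQ
  haveI := even_projective Q b
  haveI := even_finite Q b
  haveI : Module.Free R ↥(CliffordAlgebra.even Q) := Module.free_of_flat_of_isLocalRing
  have hg' : g⁻¹ ∈ QuadGrp.O Q := (QuadGrp.O Q).inv_mem hg
  let f : ↥(CliffordAlgebra.even Q) →ₐ[R] ↥(CliffordAlgebra.even Q) :=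
    ((fmap g hg).comp (CliffordAlgebra.even Q).val).codRestrict _ fun x => fmap_mem_evenOdd g hg 0 x.2
  let f' : ↥(CliffordAlgebra.even Q) →ₐ[R] ↥(CliffordAlgebra.even Q) :=
    ((fmap g⁻¹ hg').comp (CliffordAlgebra.even Q).val).codRestrict _ fun x => fmap_mem_evenOdd g⁻¹ hg' 0 x.2
  have h₁ : ∀ x, fmap g hg (fmap g⁻¹ hg' x) = x := fun x => fmap_fmap_inv g hg x
  have h₂ : ∀ x, fmap g⁻¹ hg' (fmap g hg x) = x := fun x => by
    have : (fmap g⁻¹ hg').comp (fmap g hg) = AlgHom.id R _ :=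
      CliffordAlgebra.hom_ext (LinearMap.ext fun v => by simp)
    exact DFunLike.congr_fun this x
  let σ : ↥(CliffordAlgebra.even Q) ≃ₐ[R] ↥(CliffordAlgebra.even Q) :=
    AlgEquiv.ofAlgHom f f' (AlgHom.ext fun x => Subtype.ext (h₁ x)) (AlgHom.ext fun x => Subtype.ext (h₂ x))
  obtain ⟨u₀, hu₀⟩ := exists_unit_intertwiner (Module.Free.chooseBasis R ↥(CliffordAlgebra.even Q))
    (IsAzumaya.bij (R := R) (A := ↥(CliffordAlgebra.even Q))).2 _ (coord_one b) σ
  refine ⟨Units.map (CliffordAlgebra.even Q).val.toMonoidHom u₀, u₀.1.2, fun x => ?_⟩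
  change fmap g hg x * (u₀.1 : CliffordAlgebra Q) = (u₀.1 : CliffordAlgebra Q) * x
  have heven : ∀ y ∈ evenOdd Q 0, fmap g hg y * (u₀.1 : CliffordAlgebra Q) = (u₀.1 : CliffordAlgebra Q) * y :=
    fun y hy => congrArg Subtype.val (hu₀ ⟨y, hy⟩)
  obtain ⟨x₀, x₁, hx₁, rfl⟩ := exists_parts Q x
  have h := heven _ (mul_mem_even Q hx₁ D.odd)
  rw [map_mul, hfix, mul_assoc, ← D.comm (u₀.1 : CliffordAlgebra Q), ← mul_assoc, ← mul_assoc] at h
  rw [map_add, add_mul, mul_add, heven _ x₀.2, D.isUnit_η.mul_right_cancel h]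

theorem exists_GSpin_conj [IsLocalRing R] (g : M ≃ₗ[R] M) (hg : g ∈ QuadGrp.O Q)
    (hdet : LinearEquiv.det g = 1) :
    ∃ u ∈ QuadGrp.GSpin Q, (∀ v, (u : CliffordAlgebra Q) * ι Q v * ↑u⁻¹ = ι Q (g v)) ∧
      ∀ x, fmap g hg x * (u : CliffordAlgebra Q) = (u : CliffordAlgebra Q) * x := by
  obtain ⟨u, hu0, hu⟩ := exists_inner_odd b hQ g hg hdet
  have hv : ∀ v, (u : CliffordAlgebra Q) * ι Q v * ↑u⁻¹ = ι Q (g v) := fun v => by
    rw [← hu, mul_assoc, Units.mul_inv, mul_one]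
    exact fmap_ι g hg v
  refine ⟨u, ⟨⟨mem_GPin'_of_conj g hv, 1, IsIdempotentElem.one, ?_, ?_⟩, hu0⟩, hv, hu⟩
  · rw [one_smul]; exact hu0
  · rw [sub_self, zero_smul]; exact Submodule.zero_mem _

end Odd

end Groth.Agent.CliffRegLib
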