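import Groth.Agent.CliffRegLib.SplitMatrix
import Mathlib.LinearAlgebra.QuadraticForm.IsometryEquiv

/-!
# The even Clifford algebra of the split form of odd rank is a matrix algebra
-/

set_option autoImplicit false
set_option backward.isDefEq.respectTransparency false

universe u

open CliffordAlgebra

namespace Groth.Agent.CliffRegLib

variable (B : Type u) [CommRing B] (m : ℕ)

/-- The split form `z² + Σ xⱼ yⱼ`. -/
noncomputable def hyp1 : QuadraticForm B (Unit ⊕ (Fin m ⊕ Fin m) → B) :=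
  QuadraticMap.linMulLin (LinearMap.proj (Sum.inl ())) (LinearMap.proj (Sum.inl ())) +
    ∑ j : Fin m, QuadraticMap.linMulLin (LinearMap.proj (Sum.inr (Sum.inl j)))
      (LinearMap.proj (Sum.inr (Sum.inr j)))

lemma hyp1_apply (x : Unit ⊕ (Fin m ⊕ Fin m) → B) :
    hyp1 B m x = x (Sum.inl ()) * x (Sum.inl ()) +
      ∑ j, x (Sum.inr (Sum.inl j)) * x (Sum.inr (Sum.inr j)) := by
  simp [hyp1, QuadraticMap.sum_apply]

/-- The distinguished vector. -/
def e0 : Unit ⊕ (Fin m ⊕ Fin m) → B := Sum.elim (fun _ => 1) 0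

/-- The embedding of the hyperbolic part, with a sign twist. -/
def tw : (Fin m ⊕ Fin m → B) →ₗ[B] (Unit ⊕ (Fin m ⊕ Fin m) → B) where
  toFun v := Sum.elim 0 (Sum.elim (fun j => -v (Sum.inl j)) fun j => v (Sum.inr j))
  map_add' v w := by funext i; rcases i with i | i | i <;> simp [add_comm]
  map_smul' c v := by funext i; rcases i with i | i | i <;> simp

lemma hyp1_e0 : hyp1 B m (e0 B m) = 1 := by simp [hyp1_apply, e0]

lemma hyp1_tw (v : Fin m ⊕ Fin m → B) : hyp1 B m (tw B m v) = -hyp B m v := by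
  simp [hyp1_apply, hyp_apply, tw]

lemma anti_e0 (v : Fin m ⊕ Fin m → B) :
    ι (hyp1 B m) (tw B m v) * ι (hyp1 B m) (e0 B m) = -(ι (hyp1 B m) (e0 B m) * ι (hyp1 B m) (tw B m v)) := by
  rw [eq_neg_iff_add_eq_zero, ι_mul_ι_add_swap, QuadraticMap.polar, hyp1_e0, hyp1_apply, hyp1_tw,
    hyp_apply]
  simp [e0, tw]

lemma e0_sq : ι (hyp1 B m) (e0 B m) * ι (hyp1 B m) (e0 B m) = 1 := by
  rw [ι_sq_scalar, hyp1_e0, map_one]

/-- The comparison map into the even part. -/
noncomputable def psi : CliffordAlgebra (hyp B m) →ₐ[B] ↥(CliffordAlgebra.even (hyp1 B m)) :=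
  CliffordAlgebra.lift (hyp B m)
    ⟨((LinearMap.mulLeft B (ι (hyp1 B m) (e0 B m))).comp ((ι (hyp1 B m)).comp (tw B m))).codRestrict
        (Subalgebra.toSubmodule (CliffordAlgebra.even (hyp1 B m)))
        (fun v => ι_mul_ι_mem_evenOdd_zero _ _ _), fun v => by
      refine Subtype.ext ?_
      change ι (hyp1 B m) (e0 B m) * ι (hyp1 B m) (tw B m v) *
          (ι (hyp1 B m) (e0 B m) * ι (hyp1 B m) (tw B m v)) =
        algebraMap B (CliffordAlgebra (hyp1 B m)) (hyp B m v)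
      rw [mul_assoc, ← mul_assoc (ι (hyp1 B m) (tw B m v)), anti_e0, neg_mul, mul_neg, mul_assoc,
        ι_sq_scalar, ← mul_assoc, e0_sq, one_mul, hyp1_tw, map_neg, neg_neg]⟩

lemma psi_ι (v : Fin m ⊕ Fin m → B) :
    (psi B m (ι (hyp B m) v) : CliffordAlgebra (hyp1 B m)) =
      ι (hyp1 B m) (e0 B m) * ι (hyp1 B m) (tw B m v) :=
  congrArg Subtype.val (lift_ι_apply _ _ v)

lemma psi_surjective : Function.Surjective (psi B m) := by
  classical
  set T : Set (CliffordAlgebra (hyp1 B m)) := Set.range fun x => (psi B m x : CliffordAlgebra (hyp1 B m))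
  have hmul : ∀ x y, x ∈ T → y ∈ T → x * y ∈ T := by
    rintro _ _ ⟨x, rfl⟩ ⟨y, rfl⟩
    exact ⟨x * y, by simp⟩
  have hadd : ∀ x y, x ∈ T → y ∈ T → x + y ∈ T := by
    rintro _ _ ⟨x, rfl⟩ ⟨y, rfl⟩
    exact ⟨x + y, by simp⟩
  have hneg : ∀ x, x ∈ T → -x ∈ T := by
    rintro _ ⟨x, rfl⟩
    exact ⟨-x, by simp⟩
  have hscal : ∀ r : B, algebraMap B (CliffordAlgebra (hyp1 B m)) r ∈ T := fun r =>
    ⟨algebraMap B _ r, by simp⟩
  have hsmul : ∀ (r : B) x, x ∈ T → r • x ∈ T := fun r x hx => by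
    rw [Algebra.smul_def]; exact hmul _ _ (hscal r) hx
  have hdec : ∀ u : Unit ⊕ (Fin m ⊕ Fin m) → B, ∃ (α : B) (v : Fin m ⊕ Fin m → B),
      u = α • e0 B m + tw B m v := fun u =>
    ⟨u (Sum.inl ()), Sum.elim (fun j => -u (Sum.inr (Sum.inl j))) (fun j => u (Sum.inr (Sum.inr j))), by
      funext i; rcases i with i | i | i <;> simp [e0, tw]⟩
  have hev : ∀ v, ι (hyp1 B m) (e0 B m) * ι (hyp1 B m) (tw B m v) ∈ T := fun v => ⟨_, psi_ι B m v⟩
  have hgen : ∀ u w, ι (hyp1 B m) u * ι (hyp1 B m) w ∈ T := by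
    intro u w
    obtain ⟨α, v, rfl⟩ := hdec u
    obtain ⟨β, v', rfl⟩ := hdec w
    simp only [map_add, map_smul, add_mul, mul_add, smul_mul_assoc, mul_smul_comm, e0_sq]
    refine hadd _ _ (hsmul _ _ (hadd _ _ (hsmul _ _ ?_) ?_)) (hadd _ _ (hsmul _ _ ?_) ?_)
    all_goals first
      | exact hev _
      | (simpa using hscal 1)
      | (rw [anti_e0]; exact hneg _ (hev _))
      | skip
    have h : ι (hyp1 B m) (tw B m v) * ι (hyp1 B m) (tw B m v') =
        -(ι (hyp1 B m) (e0 B m) * ι (hyp1 B m) (tw B m v) *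
          (ι (hyp1 B m) (e0 B m) * ι (hyp1 B m) (tw B m v'))) := by
      rw [mul_assoc (ι (hyp1 B m) (e0 B m)), ← mul_assoc (ι (hyp1 B m) (tw B m v)), anti_e0, neg_mul,
        mul_neg, neg_neg, mul_assoc (ι (hyp1 B m) (e0 B m)), ← mul_assoc (ι (hyp1 B m) (e0 B m)), e0_sq, one_mul]
    rw [h]
    exact hneg _ (hmul _ _ (hev _) (hev _))
  intro x
  obtain ⟨x, hx⟩ := x
  have key : x ∈ T := by
    induction x, hx using CliffordAlgebra.even_induction with
    | algebraMap r => exact hscal r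
    | add x y _ _ hx hy => exact hadd _ _ hx hy
    | ι_mul_ι_mul u w x _ hx => exact hmul _ _ (hgen u w) hx
  obtain ⟨y, hy⟩ := key
  exact ⟨y, Subtype.ext hy⟩

/-- The splitting `C = C₀ ⊕ e₀ C₀`. -/
lemma exists_linearEquiv_prod :
    Nonempty ((↥(CliffordAlgebra.even (hyp1 B m)) × ↥(CliffordAlgebra.even (hyp1 B m))) ≃ₗ[B]
      CliffordAlgebra (hyp1 B m)) := by
  let L : (↥(CliffordAlgebra.even (hyp1 B m)) × ↥(CliffordAlgebra.even (hyp1 B m))) →ₗ[B]
      CliffordAlgebra (hyp1 B m) :=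
    (CliffordAlgebra.even (hyp1 B m)).val.toLinearMap.coprod
      ((LinearMap.mulLeft B (ι (hyp1 B m) (e0 B m))).comp (CliffordAlgebra.even (hyp1 B m)).val.toLinearMap)
  refine ⟨LinearEquiv.ofBijective L ⟨?_, fun x => ?_⟩⟩
  · refine (injective_iff_map_eq_zero _).2 fun ⟨y, z⟩ h => ?_
    change (y : CliffordAlgebra (hyp1 B m)) + ι (hyp1 B m) (e0 B m) * (z : CliffordAlgebra (hyp1 B m)) = 0 at h
    have hodd : ι (hyp1 B m) (e0 B m) * (z : CliffordAlgebra (hyp1 B m)) ∈ evenOdd (hyp1 B m) 1 := by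
      simpa using SetLike.mul_mem_graded (ι_mem_evenOdd_one (hyp1 B m) (e0 B m)) z.2
    have hy : y = 0 := by
      have := congrArg (p0 (hyp1 B m)) h
      rwa [map_add, p0_even, p0_odd _ hodd, add_zero, map_zero] at this
    subst hy
    rw [ZeroMemClass.coe_zero, zero_add] at h
    have := congrArg (ι (hyp1 B m) (e0 B m) * ·) h
    simp only [← mul_assoc, e0_sq, one_mul, mul_zero] at this
    exact Prod.ext rfl (Subtype.ext this)
  · obtain ⟨y, z, hz, rfl⟩ := exists_parts (hyp1 B m) x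
    refine ⟨(y, ⟨ι (hyp1 B m) (e0 B m) * z, mul_mem_even _ (ι_mem_evenOdd_one _ _) hz⟩), ?_⟩
    change (y : CliffordAlgebra (hyp1 B m)) + ι (hyp1 B m) (e0 B m) * (ι (hyp1 B m) (e0 B m) * z) = _
    rw [← mul_assoc, e0_sq, one_mul]

lemma psi_bijective : Function.Bijective (psi B m) := by
  classical
  refine ⟨?_, psi_surjective B m⟩
  obtain ⟨P⟩ := exists_linearEquiv_prod B m
  let b₂ : Module.Basis (Fin (2 * m)) B (Fin m ⊕ Fin m → B) :=
    (Pi.basisFun B (Fin m ⊕ Fin m)).reindex (finSumFinEquiv.trans (finCongr (two_mul m).symm))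
  let b₁ : Module.Basis (Fin (2 * m + 1)) B (Unit ⊕ (Fin m ⊕ Fin m) → B) :=
    (Pi.basisFun B _).reindex (Fintype.equivOfCardEq (by simp; omega))
  let E : CliffordAlgebra (hyp1 B m) ≃ₗ[B] CliffordAlgebra (hyp B m) × CliffordAlgebra (hyp B m) :=
    (cbasis b₁ (hyp1 B m)).equiv ((cbasis b₂ (hyp B m)).prod (cbasis b₂ (hyp B m)))
      (Fintype.equivOfCardEq (by simp [pow_succ]; ring))
  let F : (CliffordAlgebra (hyp B m) × CliffordAlgebra (hyp B m)) →ₗ[B]
      (CliffordAlgebra (hyp B m) × CliffordAlgebra (hyp B m)) :=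
    E.toLinearMap ∘ₗ P.toLinearMap ∘ₗ ((psi B m).toLinearMap.prodMap (psi B m).toLinearMap)
  haveI : Module.Finite B (CliffordAlgebra (hyp B m)) := Module.Finite.of_basis (cbasis b₂ (hyp B m))
  have hF : Function.Surjective F := E.surjective.comp (P.surjective.comp
    (Prod.map_surjective.2 ⟨psi_surjective B m, psi_surjective B m⟩))
  have := OrzechProperty.injective_of_surjective_endomorphism F hF
  intro x y h
  have h2 : F (x, 0) = F (y, 0) := by simp [F, h]
  exact congrArg Prod.fst (this h2)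

/-- The even Clifford algebra of the split form is a matrix algebra. -/
theorem nonempty_hyp1_even_matrix :
    Nonempty (↥(CliffordAlgebra.even (hyp1 B m)) ≃ₐ[B] Matrix (Fin (2 ^ m)) (Fin (2 ^ m)) B) := by
  obtain ⟨E⟩ := nonempty_hyp_matrix B m
  exact ⟨(AlgEquiv.ofBijective (psi B m) (psi_bijective B m)).symm.trans E⟩

end Groth.Agent.CliffRegLib
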