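import Groth.Agent.CliffRegLib.OddCentre
import Groth.Agent.CliffRegLib.OddSplit
import Groth.Agent.CliffRegLib.BaseChangeCl
import Groth.Agent.CliffRegLib.SkolemLocal
import Groth.Agent.QuadSplitLib.Odd
import Groth.Agent.AzumayaAlg.Descent
import Mathlib.Algebra.Azumaya.Matrix
import Mathlib.RingTheory.LocalRing.Module

/-!
# Structure of the Clifford algebra of a semiregular form of odd rank
-/

set_option autoImplicit false
set_option backward.isDefEq.respectTransparency false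

universe u v

open CliffordAlgebra TensorProduct MulOpposite

namespace Groth.Agent.CliffRegLib

variable {R : Type u} [CommRing R] {M : Type v} [AddCommGroup M] [Module R M]

/-- Data: an odd central unit with scalar square. -/
structure OddDatum (Q : QuadraticForm R M) (η : CliffordAlgebra Q) (t : R) : Prop where
  odd : η ∈ evenOdd Q 1
  unit : IsUnit t
  sq : η * η = algebraMap R _ t
  comm : ∀ x, x * η = η * x

theorem exists_oddDatum {m : ℕ} (b : Module.Basis (Fin (2 * m + 1)) R M) {Q : QuadraticForm R M}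
    (hQ : QuadGrp.IsSemiregular b (LinearEquiv.refl R R) Q) :
    ∃ η t, OddDatum Q η t ∧ star η = ((-1 : R) ^ (m + 1)) • η := by
  obtain ⟨η, hη, t, ht, hsq, hc, hs⟩ := exists_odd_centre b hQ
  exact ⟨η, t, ⟨hη, ht, hsq, hc⟩, hs⟩

section Split

variable {m : ℕ} (b : Module.Basis (Fin (2 * m + 1)) R M) {Q : QuadraticForm R M}
  (hQ : QuadGrp.IsSemiregular b (LinearEquiv.refl R R) Q)
include hQ

/-- The even part is fppf-locally a matrix algebra. -/
theorem exists_even_matrix :
    ∃ (A : Type u) (_ : CommRing A) (_ : Algebra R A), Module.FaithfullyFlat R A ∧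
      Algebra.FinitePresentation R A ∧
      Nonempty ((A ⊗[R] ↥(CliffordAlgebra.even Q)) ≃ₐ[A] Matrix (Fin (2 ^ m)) (Fin (2 ^ m)) A) := by
  classical
  obtain ⟨A, iC, iA, hff, hfp, g, hg⟩ :=
    QuadSplitLib.exists_split_odd (QuadGrp.coeffs b (LinearEquiv.refl R R) Q) hQ
  let e : M →ₗ[R] (Unit ⊕ (Fin m ⊕ Fin m) → A) :=
    (g.symm.toLinearMap.restrictScalars R) ∘ₗ (QuadSplitLib.ev R A) ∘ₗ b.equivFun.toLinearMap
  have hqa : ∀ v, qf (QuadGrp.coeffs b (LinearEquiv.refl R R) Q) (b.equivFun v) = Q v := fun v => by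
    have : QuadGrp.coeffs b (LinearEquiv.refl R R) Q =
        QuadGrp.coeffs (Pi.basisFun R (Fin (2 * m + 1))) (LinearEquiv.refl R R)
          (Q.comp (b.equivFun.symm : (Fin (2 * m + 1) → R) →ₗ[R] M)) := by
      funext p
      induction p using Sym2.ind with
      | h i j =>
        have hs : ∀ k, b.equivFun.symm (Pi.basisFun R (Fin (2 * m + 1)) k) = b k := fun k => by simp
        simp only [QuadGrp.coeffs_mk, QuadraticMap.polar, QuadraticMap.comp_apply,
          LinearEquiv.coe_coe, map_add, hs]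
    rw [this, qf_coeffs]
    simp
  have he : ∀ v, hyp1 A m (e v) = algebraMap R A (Q v) := fun v => by
    have h := hg (e v)
    rw [one_mul, ← hyp1_apply] at h
    rw [← h]
    simp only [e, LinearMap.comp_apply, LinearMap.coe_restrictScalars, LinearEquiv.coe_coe,
      LinearEquiv.apply_symm_apply]
    rw [QuadSplitLib.bq_ev, hqa]
  have hb : ∀ i, e (b i) = ((Pi.basisFun A (Fin (2 * m + 1))).map g.symm) i := fun i => by
    have h : b.equivFun (b i) = Pi.basisFun R (Fin (2 * m + 1)) i := by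
      funext j; simp [Pi.single_apply, eq_comm]
    simp only [e, LinearMap.comp_apply, LinearMap.coe_restrictScalars, LinearEquiv.coe_coe, h,
      Module.Basis.map_apply]
    exact congrArg g.symm (compLeft_single i)
  obtain ⟨E⟩ := nonempty_hyp1_even_matrix A m
  exact ⟨A, iC, iA, hff, hfp, ⟨(bcEvenEquiv e he b _ hb).trans E⟩⟩

/-- The even part is an Azumaya algebra. -/
theorem isAzumaya_even_odd : IsAzumaya R ↥(CliffordAlgebra.even Q) := by
  obtain ⟨A, iC, iA, hff, hfp, ⟨E⟩⟩ := exists_even_matrix b hQ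
  haveI : Nonempty (Fin (2 ^ m)) := ⟨⟨0, Nat.two_pow_pos m⟩⟩
  haveI := IsAzumaya.matrix A (Fin (2 ^ m))
  haveI : IsAzumaya A (A ⊗[R] ↥(CliffordAlgebra.even Q)) :=
    IsAzumaya.of_AlgEquiv A (Matrix (Fin (2 ^ m)) (Fin (2 ^ m)) A) _ E.symm
  exact AzumayaAlg.isAzumaya_of_baseChange_faithfullyFlat (R := R) A ↥(CliffordAlgebra.even Q)

omit hQ in
lemma coord_one : ((cbasis b Q).coord ∅ ∘ₗ (CliffordAlgebra.even Q).val.toLinearMap) 1 = 1 := by
  rw [LinearMap.comp_apply, AlgHom.toLinearMap_apply, map_one, ← one_eq_cbasis b Q,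
    Module.Basis.coord_apply, Module.Basis.repr_self, Finsupp.single_eq_same]

/-- An element of the even part commuting with the even part is a scalar. -/
theorem scalar_of_commute_even {y : CliffordAlgebra Q} (hy : y ∈ evenOdd Q 0)
    (h : ∀ x ∈ evenOdd Q 0, x * y = y * x) : ∃ r, y = algebraMap R _ r := by
  haveI := isAzumaya_even_odd b hQ
  let y' : ↥(CliffordAlgebra.even Q) := ⟨y, hy⟩
  let π : ↥(CliffordAlgebra.even Q) →ₗ[R] R :=
    (cbasis b Q).coord ∅ ∘ₗ (CliffordAlgebra.even Q).val.toLinearMap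
  have heq : y' ⊗ₜ[R] (1 : (↥(CliffordAlgebra.even Q))ᵐᵒᵖ) = (1 : ↥(CliffordAlgebra.even Q)) ⊗ₜ[R] op y' := by
    refine (IsAzumaya.bij (R := R) (A := ↥(CliffordAlgebra.even Q))).1 ?_
    refine LinearMap.ext fun x => ?_
    rw [AlgHom.mulLeftRight_apply, AlgHom.mulLeftRight_apply, unop_one, mul_one, one_mul, unop_op]
    exact Subtype.ext (h x.1 x.2).symm
  have h2 := congrArg (fun w => TensorProduct.lid R ↥(CliffordAlgebra.even Q)
    (TensorProduct.map π (opLinearEquiv R).symm.toLinearMap w)) heq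
  simp only [TensorProduct.map_tmul, TensorProduct.lid_tmul, π, coord_one b, one_smul] at h2
  refine ⟨(cbasis b Q).coord ∅ y, ?_⟩
  have h3 := congrArg Subtype.val h2
  rw [Algebra.algebraMap_eq_smul_one]
  exact h3.symm

namespace OddDatum

variable {η : CliffordAlgebra Q} {t : R} (D : OddDatum Q η t)

omit hQ in
include D in
lemma isUnit_η : IsUnit η := by
  obtain ⟨u, hu⟩ := D.unit
  have h : (↑u⁻¹ : R) • algebraMap R (CliffordAlgebra Q) t = 1 := by
    rw [← hu, Algebra.smul_def, ← map_mul, Units.inv_mul, map_one]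
  refine isUnit_iff_exists.2 ⟨(↑u⁻¹ : R) • η, ?_, ?_⟩
  · rw [mul_smul_comm, D.sq, h]
  · rw [smul_mul_assoc, D.sq, h]

omit hQ in
include D in
lemma commute_of_even {y : CliffordAlgebra Q} (h : ∀ x ∈ evenOdd Q 0, x * y = y * x) (x : CliffordAlgebra Q) :
    x * y = y * x := by
  obtain ⟨x₀, x₁, hx₁, rfl⟩ := exists_parts Q x
  obtain ⟨u, hu⟩ := D.isUnit_η
  have he : x₁ * η ∈ evenOdd Q 0 := mul_mem_even Q hx₁ D.odd
  have h1 := h _ he
  rw [mul_assoc, ← D.comm y, ← mul_assoc, ← mul_assoc, ← hu] at h1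
  rw [add_mul, mul_add, h _ x₀.2, u.isUnit.mul_right_cancel h1]

include D in
/-- A central element is `a + c η`. -/
lemma centre_eq {z : CliffordAlgebra Q} (hz : ∀ x, x * z = z * x) :
    ∃ a c : R, z = algebraMap R _ a + c • η := by
  obtain ⟨z₀, z₁, hz₁, hzz⟩ := exists_parts Q z
  have hpar : ∀ x ∈ evenOdd Q 0, x * (z₀ : CliffordAlgebra Q) = z₀ * x ∧ x * z₁ = z₁ * x := by
    intro x hx
    have h := hz x
    rw [hzz, mul_add, add_mul] at h
    have h0 := congrArg (fun w => (p0 Q w : CliffordAlgebra Q)) h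
    simp only [map_add, p0_odd Q (mul_mem_odd' Q hx hz₁), p0_odd Q (mul_mem_odd Q hz₁ hx), add_zero] at h0
    have e1 : p0 Q (x * (z₀ : CliffordAlgebra Q)) = ⟨x, hx⟩ * z₀ := p0_even Q (⟨x, hx⟩ * z₀)
    have e2 : p0 Q ((z₀ : CliffordAlgebra Q) * x) = z₀ * ⟨x, hx⟩ := p0_even Q (z₀ * ⟨x, hx⟩)
    rw [e1, e2] at h0
    change x * (z₀ : CliffordAlgebra Q) = (z₀ : CliffordAlgebra Q) * x at h0
    exact ⟨h0, add_left_cancel (h0 ▸ h)⟩
  obtain ⟨a, ha⟩ := scalar_of_commute_even b hQ z₀.2 fun x hx => (hpar x hx).1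
  obtain ⟨r, hr⟩ := scalar_of_commute_even b hQ (y := z₁ * η) (mul_mem_even Q hz₁ D.odd) fun x hx => by
    rw [← mul_assoc, (hpar x hx).2, mul_assoc, mul_assoc, D.comm x]
  obtain ⟨u, hu⟩ := D.unit
  refine ⟨a, r * ↑u⁻¹, ?_⟩
  rw [hzz, ha, add_right_inj]
  have h1 := congrArg (· * η) hr
  rw [mul_assoc, D.sq, ← hu, ← Algebra.commutes, ← Algebra.smul_def, ← Algebra.smul_def] at h1
  rw [mul_comm, mul_smul, ← h1, smul_smul, Units.inv_mul, one_smul]

omit hQ in
include D b in
lemma indep {a c : R} (h : algebraMap R (CliffordAlgebra Q) a + c • η = 0) : a = 0 ∧ c = 0 := by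
  have hodd : c • η ∈ evenOdd Q 1 := Submodule.smul_mem _ _ D.odd
  have h0 := congrArg (p0 Q) h
  rw [map_add, p0_odd Q hodd, add_zero, map_zero] at h0
  have e1 : p0 Q (algebraMap R (CliffordAlgebra Q) a) = algebraMap R ↥(CliffordAlgebra.even Q) a :=
    p0_even Q (algebraMap R ↥(CliffordAlgebra.even Q) a)
  rw [e1] at h0
  have ha : a = 0 := algebraMap_injective b Q (by
    rw [map_zero]; exact congrArg Subtype.val h0)
  refine ⟨ha, ?_⟩
  rw [ha, map_zero, zero_add] at h
  have h2 := congrArg (· * η) h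
  rw [smul_mul_assoc, D.sq, zero_mul, Algebra.smul_def, ← map_mul,
    ← map_zero (algebraMap R (CliffordAlgebra Q))] at h2
  exact D.unit.mul_left_eq_zero.1 (algebraMap_injective b Q h2)

include D in
/-- An odd central element is a multiple of `η`. -/
lemma odd_centre_eq {z : CliffordAlgebra Q} (hz : ∀ x, x * z = z * x) (h1 : z ∈ evenOdd Q 1) :
    ∃ c : R, z = c • η := by
  obtain ⟨a, c, rfl⟩ := D.centre_eq b hQ hz
  refine ⟨c, ?_⟩
  have h2 : algebraMap R (CliffordAlgebra Q) a ∈ evenOdd Q 1 := by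
    simpa using Submodule.sub_mem _ h1 (Submodule.smul_mem _ c D.odd)
  have e1 : p0 Q (algebraMap R (CliffordAlgebra Q) a) = algebraMap R ↥(CliffordAlgebra.even Q) a :=
    p0_even Q (algebraMap R ↥(CliffordAlgebra.even Q) a)
  have h3 : algebraMap R ↥(CliffordAlgebra.even Q) a = 0 := e1.symm.trans (p0_odd Q h2)
  rw [show algebraMap R (CliffordAlgebra Q) a = 0 from congrArg Subtype.val h3, zero_add]

end OddDatum

end Split

end Groth.Agent.CliffRegLib
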