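import Groth.Agent.CliffRegLib.EvenAzumaya
import Mathlib.LinearAlgebra.Matrix.ToLin
import Mathlib.LinearAlgebra.Matrix.Reindex
import Mathlib.LinearAlgebra.CliffordAlgebra.Fold

/-!
# The Clifford algebra of a hyperbolic form is a matrix algebra
-/

set_option autoImplicit false
set_option backward.isDefEq.respectTransparency false

universe u

open CliffordAlgebra

namespace Groth.Agent.CliffRegLib

lemma z2_eq : ∀ {a b c : ZMod 2}, a ≠ c → b ≠ c → a = b := by decide

lemma z2_add_one_ne : ∀ a : ZMod 2, a + 1 ≠ a := by decide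

lemma z2_ne_one_add : ∀ a : ZMod 2, a ≠ 1 + a := by decide

lemma z2_of_ne : ∀ {a r : ZMod 2}, a ≠ r → a + 1 = r := by decide

lemma z2_ne_zero_iff : ∀ a : ZMod 2, a ≠ 0 ↔ a = 1 := by decide

variable (B : Type u) [CommRing B] (m : ℕ)

/-- The hyperbolic form on `B^m ⊕ B^m`. -/
noncomputable def hyp : QuadraticForm B (Fin m ⊕ Fin m → B) :=
  ∑ j : Fin m, QuadraticMap.linMulLin (LinearMap.proj (Sum.inl j)) (LinearMap.proj (Sum.inr j))

lemma hyp_apply (x : Fin m ⊕ Fin m → B) : hyp B m x = ∑ j, x (Sum.inl j) * x (Sum.inr j) := by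
  simp [hyp, QuadraticMap.sum_apply]

/-- The exterior algebra on `B^m`. -/
abbrev Wedge : Type u := CliffordAlgebra (0 : QuadraticForm B (Fin m → B))

/-- The monomial basis of the exterior algebra. -/
noncomputable def wbasis : Module.Basis (Finset (Fin m)) B (Wedge B m) := ebasis (Pi.basisFun B (Fin m))

lemma wbasis_mem (t : Finset (Fin m)) :
    wbasis B m t ∈ evenOdd (0 : QuadraticForm B (Fin m → B)) (t.card : ZMod 2) := by
  rw [wbasis, ebasis_eq, ← Finset.length_sort (fun i j : Fin m => i ≤ j)]
  exact mon_mem_evenOdd _ _ _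

lemma disjoint_evenOdd {i j : ZMod 2} (h : i ≠ j) {N : Type*} [AddCommGroup N] [Module B N]
    (Q : QuadraticForm B N) : Disjoint (evenOdd Q i) (evenOdd Q j) := by
  have hd := (evenOdd_isCompl (Q := Q)).disjoint
  fin_cases i <;> fin_cases j
  · exact absurd rfl h
  · exact hd
  · exact hd.symm
  · exact absurd rfl h

/-- Components of a homogeneous element have the same parity. -/
lemma wbasis_repr_eq_zero {i : ZMod 2} {x : Wedge B m}
    (hx : x ∈ evenOdd (0 : QuadraticForm B (Fin m → B)) i) {s : Finset (Fin m)}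
    (hs : (s.card : ZMod 2) ≠ i) : (wbasis B m).repr x s = 0 := by
  classical
  set E := wbasis B m
  set y : Wedge B m := ∑ t ∈ Finset.univ.filter (fun t => ¬ (t.card : ZMod 2) = i), E.repr x t • E t
  set y' : Wedge B m := ∑ t ∈ Finset.univ.filter (fun t => (t.card : ZMod 2) = i), E.repr x t • E t
  have hsum : y' + y = x := (Finset.sum_filter_add_sum_filter_not _ _ _).trans (E.sum_repr x)
  have hy' : y' ∈ evenOdd (0 : QuadraticForm B (Fin m → B)) i := Submodule.sum_mem _ fun t ht => by
    rw [← (Finset.mem_filter.1 ht).2]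
    exact Submodule.smul_mem _ _ (wbasis_mem B m t)
  have hy : y ∈ evenOdd (0 : QuadraticForm B (Fin m → B)) i := by
    rw [show y = x - y' by rw [← hsum]; abel]
    exact sub_mem hx hy'
  have hy2 : y ∈ evenOdd (0 : QuadraticForm B (Fin m → B)) (s.card : ZMod 2) :=
    Submodule.sum_mem _ fun t ht => by
    have hc : (t.card : ZMod 2) = (s.card : ZMod 2) := z2_eq (Finset.mem_filter.1 ht).2 hs
    rw [← hc]
    exact Submodule.smul_mem _ _ (wbasis_mem B m t)
  have h0 : y = 0 := Submodule.disjoint_def.1 (disjoint_evenOdd B hs _) y hy2 hy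
  have := congrArg (fun z => E.repr z s) h0
  simpa [y, hs, Finsupp.single_apply] using this

/-- An operator shifting the parity by `i`. -/
def Shifts (i : ZMod 2) (T : Module.End B (Wedge B m)) : Prop :=
  ∀ t, T (wbasis B m t) ∈ evenOdd (0 : QuadraticForm B (Fin m → B)) (i + t.card)

lemma shifts_apply {i j : ZMod 2} {T : Module.End B (Wedge B m)} (hT : Shifts B m i T) {x : Wedge B m}
    (hx : x ∈ evenOdd (0 : QuadraticForm B (Fin m → B)) j) :
    T x ∈ evenOdd (0 : QuadraticForm B (Fin m → B)) (i + j) := by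
  rw [← (wbasis B m).sum_repr x, map_sum]
  refine Submodule.sum_mem _ fun t _ => ?_
  rw [map_smul]
  by_cases h : (t.card : ZMod 2) = j
  · rw [← h]; exact Submodule.smul_mem _ _ (hT t)
  · rw [wbasis_repr_eq_zero B m hx h, zero_smul]; exact Submodule.zero_mem _

/-- The functional paired with a vector. -/
noncomputable def dot : (Fin m → B) →ₗ[B] Module.Dual B (Fin m → B) :=
  ((Pi.basisFun B (Fin m)).constr B).toLinearMap

lemma dot_apply (y x : Fin m → B) : dot B m y x = ∑ j, x j * y j := by
  rw [dot, LinearEquiv.coe_coe, Module.Basis.constr_apply_fintype]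
  simp

/-- The spinor action of a vector. -/
noncomputable def spinVec : (Fin m ⊕ Fin m → B) →ₗ[B] Module.End B (Wedge B m) :=
  ((LinearMap.mul B (Wedge B m)).comp (ι (0 : QuadraticForm B (Fin m → B)))).comp
      (LinearMap.funLeft B B Sum.inl) +
    ((contractLeft (Q := (0 : QuadraticForm B (Fin m → B)))).comp (dot B m)).comp
      (LinearMap.funLeft B B Sum.inr)

lemma spinVec_apply (v : Fin m ⊕ Fin m → B) (w : Wedge B m) :
    spinVec B m v w = ι (0 : QuadraticForm B (Fin m → B)) (v ∘ Sum.inl) * w +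
      contractLeft (dot B m (v ∘ Sum.inr)) w := rfl

/-- The spinor representation. -/
noncomputable def spin : CliffordAlgebra (hyp B m) →ₐ[B] Module.End B (Wedge B m) :=
  CliffordAlgebra.lift (hyp B m) ⟨spinVec B m, fun v => by
    refine LinearMap.ext fun w => ?_
    rw [Module.End.mul_apply, spinVec_apply, spinVec_apply, Algebra.algebraMap_eq_smul_one,
      LinearMap.smul_apply, Module.End.one_apply, mul_add, map_add, contractLeft_contractLeft,
      add_zero, contractLeft_ι_mul, ← mul_assoc, ι_sq_scalar, hyp_apply, dot_apply]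
    simp⟩

@[simp] lemma spin_ι (v : Fin m ⊕ Fin m → B) : spin B m (ι (hyp B m) v) = spinVec B m v :=
  CliffordAlgebra.lift_ι_apply _ _ _

lemma spinVec_shifts (v : Fin m ⊕ Fin m → B) : Shifts B m 1 (spinVec B m v) := by
  classical
  intro t
  rw [spinVec_apply]
  refine Submodule.add_mem _ (SetLike.mul_mem_graded (ι_mem_evenOdd_one _ _) (wbasis_mem B m t)) ?_
  rw [← (Pi.basisFun B (Fin m)).sum_dual_apply_smul_coord (dot B m (v ∘ Sum.inr)), map_sum,
    LinearMap.sum_apply]
  refine Submodule.sum_mem _ fun i _ => ?_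
  rw [map_smul, LinearMap.smul_apply]
  refine Submodule.smul_mem _ _ ?_
  obtain ⟨ε, hε⟩ := contract_ebasis (Pi.basisFun B (Fin m)) i t
  rw [wbasis, hε]
  split_ifs with hi
  · have hc : (1 : ZMod 2) + t.card = (t.erase i).card := by
      rw [← Finset.card_erase_add_one hi, Nat.cast_add, Nat.cast_one, add_comm ((_ : ℕ) : ZMod 2),
        ← add_assoc, show (1 : ZMod 2) + 1 = 0 from by decide, zero_add]
    rw [hc]
    exact Submodule.smul_mem _ _ (wbasis_mem B m (t.erase i))
  · exact Submodule.zero_mem _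

lemma spin_shifts (i : ZMod 2) {u : CliffordAlgebra (hyp B m)} (hu : u ∈ evenOdd (hyp B m) i) :
    Shifts B m i (spin B m u) := by
  induction u, hu using CliffordAlgebra.evenOdd_induction with
  | range_ι_pow v hv =>
    have : ∀ (k : ℕ), ∀ x ∈ LinearMap.range (ι (hyp B m)) ^ k, Shifts B m (k : ZMod 2) (spin B m x) := by
      intro k x hx
      induction hx using Submodule.pow_induction_on_left' with
      | algebraMap r =>
        intro t
        rw [AlgHom.commutes, Module.algebraMap_end_apply, Nat.cast_zero, zero_add]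
        exact Submodule.smul_mem _ _ (wbasis_mem B m t)
      | add x y i hx hy ihx ihy =>
        intro t
        rw [map_add, LinearMap.add_apply]
        exact Submodule.add_mem _ (ihx t) (ihy t)
      | mem_mul w hw i x hx ih =>
        obtain ⟨w, rfl⟩ := hw
        intro t
        rw [map_mul, Module.End.mul_apply, spin_ι, Nat.cast_succ, add_comm ((i : ℕ) : ZMod 2), add_assoc]
        exact shifts_apply B m (spinVec_shifts B m w) (ih t)
    simpa using this i.val v hv
  | add a b _ _ ha hb =>
    intro t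
    rw [map_add, LinearMap.add_apply]
    exact Submodule.add_mem _ (ha t) (hb t)
  | ι_mul_ι_mul v₁ v₂ a _ ha =>
    intro t
    rw [map_mul, map_mul, spin_ι, spin_ι, Module.End.mul_apply, Module.End.mul_apply]
    have h := shifts_apply B m (spinVec_shifts B m v₁) (shifts_apply B m (spinVec_shifts B m v₂) (ha t))
    rwa [← add_assoc, show (1 : ZMod 2) + 1 = 0 from by decide, zero_add] at h

lemma spin_bijective : Function.Bijective (spin B m) := by
  classical
  have hsurj : Function.Surjective (spin B m) := by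
    have htop := exterior_end_eq_top (Pi.basisFun B (Fin m)) (spin B m).range
      (fun x => ⟨ι _ (Sum.elim x 0), by
        rw [AlgHom.toRingHom_eq_coe, RingHom.coe_coe, spin_ι]
        refine LinearMap.ext fun w => ?_
        rw [spinVec_apply, Sum.elim_comp_inl, Sum.elim_comp_inr, map_zero, map_zero,
          LinearMap.zero_apply, add_zero, LinearMap.mulLeft_apply]⟩)
      (fun d => ⟨ι _ (Sum.elim 0 fun j => d (Pi.single j 1)), by
        rw [AlgHom.toRingHom_eq_coe, RingHom.coe_coe, spin_ι]
        refine LinearMap.ext fun w => ?_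
        rw [spinVec_apply, Sum.elim_comp_inl, Sum.elim_comp_inr, map_zero, zero_mul, zero_add]
        congr 2
        refine (Pi.basisFun B (Fin m)).ext fun j => ?_
        rw [dot, LinearEquiv.coe_coe, Module.Basis.constr_basis, Pi.basisFun_apply]⟩)
    intro T
    have : T ∈ (spin B m).range := htop ▸ Algebra.mem_top
    exact this
  let b₂ : Module.Basis (Fin (2 * m)) B (Fin m ⊕ Fin m → B) :=
    (Pi.basisFun B (Fin m ⊕ Fin m)).reindex (finSumFinEquiv.trans (finCongr (two_mul m).symm))
  let e : CliffordAlgebra (hyp B m) ≃ₗ[B] Module.End B (Wedge B m) :=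
    (cbasis b₂ (hyp B m)).equiv (wbasis B m).end
      (Fintype.equivOfCardEq (by simp [two_mul, pow_add]))
  haveI := Module.Finite.of_basis (cbasis b₂ (hyp B m))
  refine ⟨?_, hsurj⟩
  have := OrzechProperty.injective_of_surjective_endomorphism
    (e.symm.toLinearMap ∘ₗ (spin B m).toLinearMap) (e.symm.surjective.comp hsurj)
  exact (e.symm.injective.of_comp_iff _).1 this

/-- The parities of subsets are equidistributed. -/
lemma card_parity (hm : 1 ≤ m) (r : ZMod 2) :
    Fintype.card {s : Finset (Fin m) // (s.card : ZMod 2) = r} = 2 ^ (m - 1) := by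
  classical
  let a : Fin m := ⟨0, hm⟩
  let f : Finset (Fin m) → Finset (Fin m) := fun s => if a ∈ s then s.erase a else insert a s
  have hf : ∀ s, f (f s) = s := fun s => by
    by_cases h : a ∈ s
    · simp [f, h, Finset.insert_erase h]
    · simp [f, h, Finset.erase_insert h]
  have hc : ∀ s, ((f s).card : ZMod 2) = s.card + 1 := fun s => by
    by_cases h : a ∈ s
    · have := congrArg (Nat.cast : ℕ → ZMod 2) (Finset.card_erase_add_one h)
      rw [Nat.cast_add, Nat.cast_one] at this
      simp only [f, if_pos h, ← this, add_assoc]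
      rw [show (1 : ZMod 2) + 1 = 0 from by decide, add_zero]
    · simp [f, h]
  have hflip : Fintype.card {s : Finset (Fin m) // (s.card : ZMod 2) = r} =
      Fintype.card {s : Finset (Fin m) // ¬ (s.card : ZMod 2) = r} :=
    Fintype.card_congr
      { toFun := fun s => ⟨f s.1, by
          rw [hc, s.2]; exact z2_add_one_ne r⟩
        invFun := fun s => ⟨f s.1, by
          rw [hc]; exact z2_of_ne s.2⟩
        left_inv := fun s => Subtype.ext (hf _)
        right_inv := fun s => Subtype.ext (hf _) }
  rw [Fintype.card_subtype_compl] at hflip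
  have h2 : (2 : ℕ) ^ m = 2 ^ (m - 1) * 2 := by rw [← pow_succ, Nat.sub_add_cancel hm]
  have hle := Fintype.card_subtype_le fun s : Finset (Fin m) => (s.card : ZMod 2) = r
  rw [Fintype.card_finset, Fintype.card_fin] at hflip hle
  omega

/-- The Clifford algebra of a hyperbolic form is a matrix algebra. -/
theorem nonempty_hyp_matrix :
    Nonempty (CliffordAlgebra (hyp B m) ≃ₐ[B] Matrix (Fin (2 ^ m)) (Fin (2 ^ m)) B) :=
  ⟨((AlgEquiv.ofBijective (spin B m) (spin_bijective B m)).trans (algEquivMatrix (wbasis B m))).trans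
    (Matrix.reindexAlgEquiv B B (Fintype.equivFinOfCardEq (by simp)))⟩

/-- The even Clifford algebra of a hyperbolic form is a product of two matrix algebras. -/
theorem nonempty_hyp_even_matrix (hm : 1 ≤ m) :
    Nonempty (↥(CliffordAlgebra.even (hyp B m)) ≃ₐ[B]
      (Matrix (Fin (2 ^ (m - 1))) (Fin (2 ^ (m - 1))) B × Matrix (Fin (2 ^ (m - 1))) (Fin (2 ^ (m - 1))) B)) := by
  classical
  let P : Finset (Fin m) → Prop := fun s => (s.card : ZMod 2) = 0
  let σ : Finset (Fin m) ≃ Fin (2 ^ (m - 1)) ⊕ Fin (2 ^ (m - 1)) :=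
    (Equiv.sumCompl P).symm.trans (Equiv.sumCongr (Fintype.equivFinOfCardEq (card_parity m hm 0))
      (Fintype.equivFinOfCardEq ((Fintype.card_congr (Equiv.subtypeEquivRight fun s => z2_ne_zero_iff _)).trans (card_parity m hm 1))))
  let Φ := ((AlgEquiv.ofBijective (spin B m) (spin_bijective B m)).trans
    (algEquivMatrix (wbasis B m))).trans (Matrix.reindexAlgEquiv B B σ)
  have hentry : ∀ u i j, Φ u i j = (wbasis B m).repr (spin B m u (wbasis B m (σ.symm j))) (σ.symm i) := by
    intro u i j
    simp [Φ, algEquivMatrix, algEquivMatrix', LinearMap.toMatrix'_apply, LinearEquiv.conjAlgEquiv_apply, Module.Basis.equivFun_symm_apply, Pi.single_apply]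
  have hpl : ∀ i, ((σ.symm (Sum.inl i)).card : ZMod 2) = 0 := fun i => by
    simp [σ, P]
    exact ((Fintype.equivFinOfCardEq (card_parity m hm 0)).symm i).2
  have hpr : ∀ i, ((σ.symm (Sum.inr i)).card : ZMod 2) ≠ 0 := fun i h => by
    have hP : P (σ.symm (Sum.inr i)) := h
    have h1 := σ.apply_symm_apply (Sum.inr i)
    rw [show σ (σ.symm (Sum.inr i)) = Sum.inl ((Fintype.equivFinOfCardEq (card_parity m hm 0))
      ⟨σ.symm (Sum.inr i), hP⟩) from by
        conv_lhs => simp only [σ, Equiv.trans_apply]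
        rw [Equiv.sumCompl_symm_apply_of_pos]
        rfl] at h1
    exact Sum.inl_ne_inr h1
  have hblock : ∀ u ∈ evenOdd (hyp B m) 0, Φ u =
      Matrix.fromBlocks (Φ u).toBlocks₁₁ 0 0 (Φ u).toBlocks₂₂ := by
    intro u hu
    conv_lhs => rw [← Matrix.fromBlocks_toBlocks (Φ u)]
    congr 1
    · ext i j
      rw [Matrix.toBlocks₁₂, Matrix.of_apply, hentry, Matrix.zero_apply]
      refine wbasis_repr_eq_zero B m (spin_shifts B m 0 hu _) ?_
      rw [zero_add, hpl]
      exact (hpr j).symm
    · ext i j
      rw [Matrix.toBlocks₂₁, Matrix.of_apply, hentry, Matrix.zero_apply]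
      refine wbasis_repr_eq_zero B m (spin_shifts B m 0 hu _) ?_
      rw [zero_add, hpl]
      exact hpr i
  let D : ↥(CliffordAlgebra.even (hyp B m)) →
      Matrix (Fin (2 ^ (m - 1))) (Fin (2 ^ (m - 1))) B × Matrix (Fin (2 ^ (m - 1))) (Fin (2 ^ (m - 1))) B :=
    fun u => ((Φ u.1).toBlocks₁₁, (Φ u.1).toBlocks₂₂)
  let Dh : ↥(CliffordAlgebra.even (hyp B m)) →ₐ[B]
      Matrix (Fin (2 ^ (m - 1))) (Fin (2 ^ (m - 1))) B × Matrix (Fin (2 ^ (m - 1))) (Fin (2 ^ (m - 1))) B :=
    AlgHom.ofLinearMap
      { toFun := D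
        map_add' := fun u v => by
          simp only [D, Subalgebra.coe_add, map_add]
          rfl
        map_smul' := fun c u => by
          simp only [D, Subalgebra.coe_smul, map_smul, RingHom.id_apply]
          rfl }
      (by
        simp only [LinearMap.coe_mk, AddHom.coe_mk, D, OneMemClass.coe_one, map_one,
          ← Matrix.fromBlocks_one, Matrix.toBlocks_fromBlocks₁₁, Matrix.toBlocks_fromBlocks₂₂]
        rfl)
      (fun u v => by
        simp only [LinearMap.coe_mk, AddHom.coe_mk, D, Subalgebra.coe_mul, map_mul]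
        conv_lhs => rw [hblock u.1 u.2, hblock v.1 v.2, Matrix.fromBlocks_multiply,
          Matrix.toBlocks_fromBlocks₁₁, Matrix.toBlocks_fromBlocks₂₂]
        simp only [Matrix.zero_mul, Matrix.mul_zero, add_zero, zero_add]
        rfl)
  refine ⟨AlgEquiv.ofBijective Dh ⟨fun u v h => ?_, fun X => ?_⟩⟩
  · have h' : D u = D v := h
    simp only [D, Prod.mk.injEq] at h'
    refine Subtype.ext (Φ.injective ?_)
    rw [hblock u.1 u.2, hblock v.1 v.2, h'.1, h'.2]
  · obtain ⟨u, hu⟩ := Φ.surjective (Matrix.fromBlocks X.1 0 0 X.2)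
    obtain ⟨u₀, u₁, hu₁, rfl⟩ := exists_parts _ u
    refine ⟨u₀, ?_⟩
    have hdiag : ∀ i j, (σ.symm i).card = ((σ.symm j).card : ZMod 2) → Φ u₁ i j = 0 := by
      intro i j h
      rw [hentry]
      refine wbasis_repr_eq_zero B m (spin_shifts B m 1 hu₁ _) ?_
      rw [h]
      exact z2_ne_one_add _
    rw [map_add] at hu
    change D u₀ = X
    refine Prod.ext ?_ ?_
    · ext i j
      have h := congrFun (congrFun hu (Sum.inl i)) (Sum.inl j)
      rw [Matrix.add_apply, hdiag _ _ (by rw [hpl, hpl]), add_zero, Matrix.fromBlocks_apply₁₁] at h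
      exact h
    · ext i j
      have h := congrFun (congrFun hu (Sum.inr i)) (Sum.inr j)
      rw [Matrix.add_apply, hdiag _ _ (z2_eq (hpr i) (hpr j)), add_zero, Matrix.fromBlocks_apply₂₂] at h
      exact h

end Groth.Agent.CliffRegLib
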